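import Groth.Agent.NF31.Schur
import Mathlib.RingTheory.Ideal.Norm.AbsNorm
import Mathlib.RingTheory.Polynomial.ScaleRoots
import Mathlib.RingTheory.LocalRing.ResidueField.Basic

/-! Approximation in several variables; polynomials at a place. -/

set_option autoImplicit false

universe u

open NumberField IsDedekindDomain Polynomial

namespace Groth.Agent.NF31

variable {k : Type u} [Field k] [NumberField k]

theorem isOpen_lt_one (v : HeightOneSpectrum (𝓞 k)) : IsOpen {y : v.adicCompletion k | Valued.v y < 1} := by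
  have := Valued.isOpen_ball (R := v.adicCompletion k) 1
  convert this using 1
  ext y
  simp only [Set.mem_ofPred_eq, Valuation.restrict_lt_iff_lt_embedding, map_one]

theorem algebraMap_integer_mem (v : HeightOneSpectrum (𝓞 k)) (n : ℕ) :
    algebraMap k (v.adicCompletion k) (n : k) ∈ v.adicCompletionIntegers k := by
  rw [map_natCast]
  exact natCast_mem _ n

/-- Strong approximation off `v₀` in several variables. -/
theorem exists_pi_mem_open (v₀ : HeightOneSpectrum (𝓞 k)) (P : Finset (HeightOneSpectrum (𝓞 k))) (hv₀ : v₀ ∉ P)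
    {κ : Type*} [Finite κ] (Of : (v : HeightOneSpectrum (𝓞 k)) → Set (κ → v.adicCompletion k))
    (hOf : ∀ v ∈ P, IsOpen (Of v) ∧ (Of v).Nonempty)
    (Oi : (w : InfinitePlace k) → Set (κ → w.Completion)) (hOi : ∀ w, IsOpen (Oi w) ∧ (Oi w).Nonempty) :
    ∃ Sol : κ → Set k, (∀ j, (Sol j).Infinite) ∧ ∀ x : κ → k, (∀ j, x j ∈ Sol j) →
      (∀ v ∈ P, (fun j => algebraMap k (v.adicCompletion k) (x j)) ∈ Of v) ∧
      (∀ w : InfinitePlace k, (fun j => algebraMap k w.Completion (x j)) ∈ Oi w) ∧
      ∀ v : HeightOneSpectrum (𝓞 k), v ∉ P → v ≠ v₀ → ∀ j, v.valuation k (x j) ≤ 1 := by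
  classical
  have hf : ∀ v : HeightOneSpectrum (𝓞 k), ∃ u : κ → Set (v.adicCompletion k),
      v ∈ P → (∀ j, IsOpen (u j) ∧ (u j).Nonempty) ∧ Set.univ.pi u ⊆ Of v := fun v => by
    by_cases hv : v ∈ P
    · obtain ⟨y, hy⟩ := (hOf v hv).2
      obtain ⟨u, hu, hsub⟩ := isOpen_pi_iff'.1 (hOf v hv).1 y hy
      exact ⟨u, fun _ => ⟨fun j => ⟨(hu j).1, ⟨_, (hu j).2⟩⟩, hsub⟩⟩
    · exact ⟨fun _ => Set.univ, fun h => absurd h hv⟩
  choose u hu using hf
  have hi : ∀ w : InfinitePlace k, ∃ u : κ → Set w.Completion,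
      (∀ j, IsOpen (u j) ∧ (u j).Nonempty) ∧ Set.univ.pi u ⊆ Oi w := fun w => by
    obtain ⟨y, hy⟩ := (hOi w).2
    obtain ⟨u, hu, hsub⟩ := isOpen_pi_iff'.1 (hOi w).1 y hy
    exact ⟨u, fun j => ⟨(hu j).1, ⟨_, (hu j).2⟩⟩, hsub⟩
  choose ui hui hui' using hi
  refine ⟨fun j => {x : k | (∀ v ∈ P, algebraMap k (v.adicCompletion k) x ∈ u v j) ∧
      (∀ w : InfinitePlace k, algebraMap k w.Completion x ∈ ui w j) ∧
      ∀ v : HeightOneSpectrum (𝓞 k), v ∉ P → v ≠ v₀ → v.valuation k x ≤ 1}, fun j hfin => ?_,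
    fun x hx => ⟨fun v hv => (hu v hv).2 fun j _ => (hx j).1 v hv, fun w => hui' w fun j _ => (hx j).2.1 w,
      fun v hv hv' j => (hx j).2.2 v hv hv'⟩⟩
  obtain ⟨v₁, hv₁, -⟩ := exists_root_mod (X : (𝓞 k)[X]) (by rw [natDegree_X]; exact one_pos) (insert v₀ P)
  rw [Finset.mem_insert, not_or] at hv₁
  let Uf : (v : HeightOneSpectrum (𝓞 k)) → Set (v.adicCompletion k) := fun v =>
    if v ∈ P then u v j else (v.adicCompletionIntegers k : Set (v.adicCompletion k)) \
      (algebraMap k (v.adicCompletion k) '' hfin.toFinset)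
  obtain ⟨x, hx1, hx2, hx3⟩ := exists_mem_open v₀ (insert v₁ P)
    (by rw [Finset.mem_insert, not_or]; exact ⟨Ne.symm hv₁.1, hv₀⟩) Uf
    (fun v hv => by
      by_cases hvP : v ∈ P
      · rw [show Uf v = u v j from if_pos hvP]
        exact (hu v hvP).1 j
      · rw [show Uf v = _ from if_neg hvP]
        refine ⟨(Valued.isOpen_valuationSubring (v.adicCompletion k)).sdiff (Set.Finite.image _ (Finset.finite_toSet _)).isClosed, ?_⟩
        refine (Set.Infinite.sdiff ?_ (Set.Finite.image _ (Finset.finite_toSet _))).nonempty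
        exact (Set.infinite_range_of_injective ((algebraMap k (v.adicCompletion k)).injective.comp
          (Nat.cast_injective (R := k)))).mono (by rintro _ ⟨n, rfl⟩; exact algebraMap_integer_mem v n))
    (fun w => ui w j) (fun w => hui w j)
  have h1 := hx1 v₁ (Finset.mem_insert_self v₁ P)
  rw [show Uf v₁ = _ from if_neg hv₁.2] at h1
  refine h1.2 ⟨x, hfin.mem_toFinset.2 ⟨fun v hv => ?_, hx2, fun v hv hv' => ?_⟩, rfl⟩
  · have := hx1 v (Finset.mem_insert_of_mem hv)
    rwa [show Uf v = u v j from if_pos hv] at this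
  · by_cases hvv : v = v₁
    · subst hvv
      have h2 : Valued.v (algebraMap k (v.adicCompletion k) x) ≤ 1 := h1.1
      rwa [valued_algebraMap] at h2
    · exact hx3 v (by simp [hv, hvv]) hv'

variable {K : Type u} [Field K] [NumberField K] (W : HeightOneSpectrum (𝓞 K))

theorem valuation_eval_le_one {p : K[X]} (hp : ∀ i, W.valuation K (p.coeff i) ≤ 1) {x : K}
    (hx : W.valuation K x ≤ 1) : W.valuation K (p.eval x) ≤ 1 := by
  rw [eval_eq_sum_range]
  exact (W.valuation K).map_sum_le fun i _ => by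
    rw [map_mul, map_pow]
    exact mul_le_one' (hp i) (pow_le_one₀ zero_le hx)

theorem valuation_eval_sub_lt_one {p : K[X]} (hp : ∀ i, W.valuation K (p.coeff i) ≤ 1) {x y : K}
    (hx : W.valuation K x ≤ 1) (hy : W.valuation K y ≤ 1) (hxy : W.valuation K (x - y) < 1) :
    W.valuation K (p.eval x - p.eval y) < 1 := by
  rw [eval_eq_sum_range, eval_eq_sum_range, ← Finset.sum_sub_distrib]
  refine (W.valuation K).map_sum_lt one_ne_zero fun i _ => ?_
  rw [← mul_sub, map_mul]
  refine lt_of_le_of_lt (mul_le_of_le_one_left' (hp i)) ?_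
  rw [← geom_sum₂_mul, map_mul]
  refine lt_of_le_of_lt (mul_le_of_le_one_left' ((W.valuation K).map_sum_le fun j _ => ?_)) hxy
  rw [map_mul, map_pow, map_pow]
  exact mul_le_one' (pow_le_one₀ zero_le hx) (pow_le_one₀ zero_le hy)

theorem valuation_eq_one_of_sub_lt {x y : K} (hy : W.valuation K y = 1) (hxy : W.valuation K (x - y) < 1) :
    W.valuation K x = 1 :=
  ((W.valuation K).map_eq_of_sub_lt (hy.symm ▸ hxy)).trans hy

theorem valuation_eq_one_of_isUnit {z : (W.valuation K).valuationSubring} (hz : IsUnit z) :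
    W.valuation K (z : K) = 1 := by
  obtain ⟨d, hd⟩ := hz.exists_left_inv
  refine le_antisymm z.2 ?_
  have h := congrArg (fun t : (W.valuation K).valuationSubring => W.valuation K (t : K)) hd
  rw [show ((d * z : (W.valuation K).valuationSubring) : K) = (d : K) * (z : K) from rfl, map_mul,
    show ((1 : (W.valuation K).valuationSubring) : K) = 1 from rfl, map_one] at h
  calc (1 : WithZero (Multiplicative ℤ)) = W.valuation K (d : K) * W.valuation K (z : K) := h.symm
    _ ≤ W.valuation K (z : K) := mul_le_of_le_one_left' d.2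

/-- A polynomial of degree less than the size of the residue field has a unit value. -/
theorem exists_eval_unit {p : K[X]} (hm : p.Monic) (hp : ∀ i, W.valuation K (p.coeff i) ≤ 1)
    (hd : p.natDegree < Ideal.absNorm W.asIdeal) :
    ∃ r : 𝓞 K, W.valuation K (p.eval (r : K)) = 1 := by
  classical
  by_contra hne
  push Not at hne
  let R := (W.valuation K).valuationSubring
  let ι : 𝓞 K →+* R := (algebraMap (𝓞 K) K).codRestrict R.toSubring fun r => W.valuation_le_one r
  let φ : 𝓞 K →+* IsLocalRing.ResidueField R := (IsLocalRing.residue R).comp ι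
  obtain ⟨q, hq, hqd, hqm⟩ := lifts_and_degree_eq_and_monic
    (f := R.subtype) ((lifts_iff_coeff_lifts p).2 fun i => ⟨⟨p.coeff i, hp i⟩, rfl⟩) hm
  let p' := q.map (IsLocalRing.residue R)
  have hp'0 : p' ≠ 0 := (hqm.map _).ne_zero
  have hroot : ∀ r : 𝓞 K, φ r ∈ p'.roots.toFinset := fun r => by
    rw [Multiset.mem_toFinset, mem_roots hp'0, IsRoot.def, eval_map, show φ r = IsLocalRing.residue R (ι r) from rfl,
      eval₂_at_apply, IsLocalRing.residue_eq_zero_iff, IsLocalRing.mem_maximalIdeal, mem_nonunits_iff]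
    intro hu
    refine hne r ?_
    have h1 : ((q.eval (ι r) : R) : K) = p.eval (r : K) := by
      rw [← hq, eval_map, show (r : K) = R.subtype (ι r) from rfl, eval₂_at_apply]
      rfl
    rw [← h1]
    exact valuation_eq_one_of_isUnit W hu
  have hker : ∀ r ∈ W.asIdeal, φ r = 0 := fun r hr => by
    rw [show φ r = IsLocalRing.residue R (ι r) from rfl, IsLocalRing.residue_eq_zero_iff, IsLocalRing.mem_maximalIdeal,
      mem_nonunits_iff]
    intro hu
    have := valuation_eq_one_of_isUnit W hu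
    exact (ne_of_lt ((W.valuation_lt_one_iff_mem (K := K) r).2 hr)) this
  let _ : Field (𝓞 K ⧸ W.asIdeal) := Ideal.Quotient.field _
  let ψ := Ideal.Quotient.lift W.asIdeal φ hker
  have hψ : ∀ z, ψ z ∈ p'.roots.toFinset := fun z => by
    obtain ⟨r, rfl⟩ := Ideal.Quotient.mk_surjective z
    exact hroot r
  have h := Nat.card_le_card_of_injective (fun z => (⟨ψ z, hψ z⟩ : p'.roots.toFinset))
    fun a b hab => ψ.injective (congrArg Subtype.val hab)
  rw [Nat.card_eq_fintype_card (α := p'.roots.toFinset), Fintype.card_coe] at h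
  have h2 : p'.roots.toFinset.card ≤ p.natDegree :=
    (Multiset.toFinset_card_le _).trans ((card_roots' _).trans (natDegree_map_le.trans
      (le_of_eq (natDegree_eq_of_degree_eq hqd))))
  rw [Ideal.absNorm_apply, Submodule.cardQuot_apply] at hd
  omega

theorem finite_setOf_small (d : ℕ) : {W : HeightOneSpectrum (𝓞 K) | Ideal.absNorm W.asIdeal ≤ d}.Finite :=
  (Ideal.finite_setOfPred_absNorm_le d).preimage (fun _ _ _ _ h => HeightOneSpectrum.ext h)

end Groth.Agent.NF31
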