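import Groth.Agent.NF31.Core
import Groth.Agent.NF31.Residue
import Mathlib.RingTheory.DedekindDomain.IntegralClosure
import Mathlib.RingTheory.RamificationInertia.Ramification
import Mathlib.RingTheory.Valuation.Discrete.Basic
import Mathlib.LinearAlgebra.Matrix.Charpoly.Coeff
import Mathlib.LinearAlgebra.FreeModule.IdealQuotient

/-! At an unramified place, units are local norms. -/

set_option autoImplicit false

universe u

open NumberField IsDedekindDomain TensorProduct IsLocalRing

namespace Groth.Agent.NF31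

variable {K : Type u} [Field K] [NumberField K] (W : HeightOneSpectrum (𝓞 K))

/-- The valuation ring of a place. -/
noncomputable abbrev locRing : ValuationSubring K := (W.valuation K).valuationSubring

variable {L : Type u} [Field L] [NumberField L] [Algebra K L]

/-- The elements integral over the valuation ring of a place. -/
noncomputable abbrev locInt (L : Type u) [Field L] [Algebra K L] : Subalgebra (locRing W) L :=
  integralClosure (locRing W) L

theorem valuation_le_one_of_mem {x : L} (hx : x ∈ locInt W L) (Q : HeightOneSpectrum (𝓞 L))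
    [Q.asIdeal.LiesOver W.asIdeal] : Q.valuation L x ≤ 1 := by
  obtain ⟨p, hm, hp⟩ := hx
  by_contra hlt
  rw [not_le] at hlt
  let n := p.natDegree
  have h1 : x ^ n = -∑ i ∈ Finset.range n, algebraMap K L ((p.coeff i : locRing W) : K) * x ^ i := by
    rw [← add_eq_zero_iff_eq_neg]
    rw [Polynomial.eval₂_eq_sum_range, Finset.sum_range_succ, hm.coeff_natDegree, map_one, one_mul, add_comm] at hp
    exact hp
  have h2 : Q.valuation L (∑ i ∈ Finset.range n, algebraMap K L ((p.coeff i : locRing W) : K) * x ^ i) <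
      Q.valuation L (x ^ n) := by
    have hne : Q.valuation L (x ^ n) ≠ 0 := by
      rw [map_pow]
      exact pow_ne_zero _ (zero_lt_one.trans hlt).ne'
    refine (Q.valuation L).map_sum_lt hne fun i hi => ?_
    rw [map_mul, map_pow, map_pow]
    refine lt_of_le_of_lt (mul_le_of_le_one_left' (valuation_map_le Q (p.coeff i).2 le_rfl)) ?_
    exact pow_lt_pow_right₀ hlt (Finset.mem_range.1 hi)
  rw [h1, Valuation.map_neg] at h2
  exact lt_irrefl _ h2

theorem exists_mul_mem_integers {x : L}
    (hx : ∀ Q : HeightOneSpectrum (𝓞 L), Q.asIdeal.LiesOver W.asIdeal → Q.valuation L x ≤ 1) :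
    ∃ r : 𝓞 K, r ∉ W.asIdeal ∧ ∃ y : 𝓞 L, (y : L) = algebraMap K L (r : K) * x := by
  classical
  let bad := (finite_setOf_valuation_gt x).toFinset
  obtain ⟨v₀, hv₀, -⟩ := exists_root_mod (Polynomial.X : Polynomial (𝓞 K))
    (by rw [Polynomial.natDegree_X]; exact one_pos) (insert W (bad.image fun Q => Q.under (𝓞 K)))
  let B : HeightOneSpectrum (𝓞 L) → ℤ := fun Q => if h : Q.valuation L x = 0 then 0 else
    Multiplicative.toAdd (WithZero.unzero h)
  let N : ℕ := bad.sum fun Q => (B Q).toNat
  obtain ⟨r, hr1, hr2, hrint⟩ : ∃ r : 𝓞 K, r ∉ W.asIdeal ∧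
      (∀ Q ∈ bad, (Q.under (𝓞 K)).valuation K (r : K) ≤ WithZero.exp (-(N : ℤ))) ∧ True := by
    obtain ⟨y, hy⟩ := IsDedekindDomain.exists_forall_sub_mem_ideal
      (s := insert W (bad.image fun Q => Q.under (𝓞 K))) (fun v => v.asIdeal)
      (fun v => if v = W then 1 else N) (fun v _ => v.prime)
      (fun v _ w _ h he => h (HeightOneSpectrum.ext he)) (fun v => if v.1 = W then 1 else 0)
    refine ⟨y, fun hmem => ?_, fun Q hQ => ?_, trivial⟩
    · have h := hy W (Finset.mem_insert_self _ _)
      rw [if_pos rfl, if_pos rfl, pow_one] at h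
      exact W.isPrime.ne_top ((Ideal.eq_top_iff_one _).2 (by simpa using sub_mem hmem h))
    · have hne : Q.under (𝓞 K) ≠ W := fun h => by
        have hover : Q.asIdeal.LiesOver W.asIdeal := h ▸ liesOver_under Q
        have h1 : ¬ Q.valuation L x ≤ 1 := (Set.Finite.mem_toFinset _).1 hQ
        exact h1 (hx Q hover)
      have h := hy _ (Finset.mem_insert_of_mem (Finset.mem_image_of_mem (fun Q => Q.under (𝓞 K)) hQ))
      rw [if_neg hne, if_neg hne, sub_zero] at h
      rwa [HeightOneSpectrum.valuation_of_algebraMap, HeightOneSpectrum.intValuation_le_pow_iff_mem]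
  let y : L := algebraMap K L (r : K) * x
  have hy : y ∈ (algebraMap (𝓞 L) L).range := HeightOneSpectrum.mem_integers_of_valuation_le_one L y fun Q => by
    rw [map_mul]
    by_cases hQ : Q ∈ bad
    · have := liesOver_under (k := K) Q
      have h0 : Q.valuation L x ≠ 0 := fun h => (Set.Finite.mem_toFinset _).1 hQ (h ▸ zero_le)
      have h1 : Q.valuation L x ≤ WithZero.exp (N : ℤ) := by
        rw [← WithZero.coe_unzero h0]
        show WithZero.exp (Multiplicative.toAdd (WithZero.unzero h0)) ≤ _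
        rw [WithZero.exp_le_exp]
        have h2 : (B Q).toNat ≤ N := Finset.single_le_sum (f := fun Q => (B Q).toNat) (fun _ _ => Nat.zero_le _) hQ
        have h3 : B Q = Multiplicative.toAdd (WithZero.unzero h0) := dif_neg h0
        omega
      calc Q.valuation L (algebraMap K L (r : K)) * Q.valuation L x
          ≤ WithZero.exp (-(N : ℤ)) * WithZero.exp (N : ℤ) := mul_le_mul'
            (valuation_map_le (v := Q.under (𝓞 K)) Q (hr2 Q hQ)
              (by rw [← WithZero.exp_zero, WithZero.exp_le_exp]; omega)) h1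
        _ = 1 := by rw [← WithZero.exp_add, neg_add_cancel, WithZero.exp_zero]
    · have := liesOver_under (k := K) Q
      have h1 : Q.valuation L x ≤ 1 := not_not.1 fun h => hQ ((Set.Finite.mem_toFinset _).2 h)
      exact mul_le_one' (valuation_map_le (v := Q.under (𝓞 K)) Q (HeightOneSpectrum.valuation_le_one _ r) le_rfl) h1
  obtain ⟨y', hy'⟩ := hy
  exact ⟨r, hr1, y', hy'⟩

theorem mem_locInt_of_forall {x : L}
    (hx : ∀ Q : HeightOneSpectrum (𝓞 L), Q.asIdeal.LiesOver W.asIdeal → Q.valuation L x ≤ 1) : x ∈ locInt W L := by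
  obtain ⟨r, hr1, y', hy'⟩ := exists_mul_mem_integers W hx
  let y : L := algebraMap K L (r : K) * x
  have hinv : (r : K)⁻¹ ∈ locRing W := by
    show W.valuation K _ ≤ 1
    rw [map_inv₀, (HeightOneSpectrum.valuation_eq_one_iff_notMem (K := K) (v := W)).2 hr1, inv_one]
  have e : x = algebraMap (locRing W) L ⟨_, hinv⟩ * y := by
    show x = algebraMap K L (r : K)⁻¹ * (algebraMap K L (r : K) * x)
    rw [← mul_assoc, ← map_mul, inv_mul_cancel₀, map_one, one_mul]
    exact fun h => hr1 (by rw [RingOfIntegers.coe_eq_zero_iff.1 h]; exact zero_mem _)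
  rw [e]
  exact mul_mem (Subalgebra.algebraMap_mem _ _)
    (IsIntegral.tower_top (R := ℤ) (by rw [show y = (y' : L) from hy'.symm]; exact RingOfIntegers.isIntegral_coe y'))

theorem residue_surjective' (x : locRing W) : ∃ n : 𝓞 K, W.valuation K ((n : K) - (x : K)) < 1 := by
  obtain ⟨a, ha⟩ := W.exists_valuation_sub_lt_of_integer x.2 1
  exact ⟨a, by simpa using ha⟩

theorem mem_maximalIdeal_iff (x : locRing W) : x ∈ maximalIdeal (locRing W) ↔ W.valuation K (x : K) < 1 := by
  rw [mem_maximalIdeal, mem_nonunits_iff]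
  constructor
  · intro h
    refine lt_of_le_of_ne x.2 fun he => h ?_
    have hx0 : (x : K) ≠ 0 := fun h => by rw [h, map_zero] at he; exact zero_ne_one he
    refine IsUnit.of_mul_eq_one ⟨(x : K)⁻¹, ?_⟩ (Subtype.ext (mul_inv_cancel₀ hx0))
    show W.valuation K _ ≤ 1
    rw [map_inv₀, he, inv_one]
  · intro h hu
    exact h.ne (valuation_eq_one_of_isUnit W hu)

/-- The residue field of a place is finite. -/
theorem finite_residue : Finite (locRing W ⧸ maximalIdeal (locRing W)) := by
  let ι : 𝓞 K →+* locRing W := (algebraMap (𝓞 K) K).codRestrict (locRing W).toSubring fun r => W.valuation_le_one r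
  let φ := (Ideal.Quotient.mk (maximalIdeal (locRing W))).comp ι
  have hker : ∀ r ∈ W.asIdeal, φ r = 0 := fun r hr =>
    Ideal.Quotient.eq_zero_iff_mem.2 ((mem_maximalIdeal_iff W _).2 ((W.valuation_lt_one_iff_mem (K := K) r).2 hr))
  have : Finite (𝓞 K ⧸ W.asIdeal) := Ideal.finiteQuotientOfFreeOfNeBot W.asIdeal W.ne_bot
  refine Finite.of_surjective (Ideal.Quotient.lift W.asIdeal φ hker) fun z => ?_
  obtain ⟨x, rfl⟩ := Ideal.Quotient.mk_surjective z
  obtain ⟨n, hn⟩ := residue_surjective' W x
  refine ⟨Ideal.Quotient.mk _ n, ?_⟩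
  exact Ideal.Quotient.eq.2 ((mem_maximalIdeal_iff W _).2 hn)

variable (L) in
/-- Unramifiedness of a place in an extension. -/
def IsUnramifiedIn : Prop :=
  ∀ Q : HeightOneSpectrum (𝓞 L), Q.asIdeal.LiesOver W.asIdeal → Q.asIdeal.ramificationIdx (𝓞 K) = 1

theorem mem_smul_of_pow_mem (hur : IsUnramifiedIn W L) {π : K} (hπ : W.valuation K π = WithZero.exp (-1 : ℤ))
    {s : L} (hs : s ∈ locInt W L) {n : ℕ}
    (h : ∃ t ∈ locInt W L, s ^ n = algebraMap K L π * t) :
    ∃ t ∈ locInt W L, s = algebraMap K L π * t := by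
  obtain ⟨t, ht, he⟩ := h
  have hπ0 : π ≠ 0 := fun h => by rw [h, map_zero] at hπ; exact WithZero.exp_ne_zero hπ.symm
  refine ⟨(algebraMap K L π)⁻¹ * s, mem_locInt_of_forall W fun Q hQ => ?_, ?_⟩
  · have e1 : Q.valuation L (algebraMap K L π) = WithZero.exp (-1 : ℤ) := by
      rw [← HeightOneSpectrum.valuation_liesOver (K := K) (L := L) W Q π, hπ,
        Ideal.ramificationIdx'_eq_ramificationIdx W.asIdeal Q.asIdeal W.ne_bot, hur Q hQ, pow_one]
    rw [map_mul, map_inv₀, e1, inv_mul_le_one₀ (WithZero.exp_pos)]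
    have h1 : Q.valuation L s ^ n ≤ WithZero.exp (-1 : ℤ) := by
      rw [← map_pow, he, map_mul, e1]
      exact mul_le_of_le_one_right' (valuation_le_one_of_mem W ht Q)
    rcases eq_or_ne (Q.valuation L s) 0 with h0 | h0
    · rw [h0]; exact zero_le
    obtain ⟨a, ha⟩ := WithZero.ne_zero_iff_exists.1 h0
    have h2 := valuation_le_one_of_mem W hs Q
    rw [← ha] at h1 h2 ⊢
    have h3 : WithZero.exp (Multiplicative.toAdd a) ≤ WithZero.exp 0 := by rw [WithZero.exp_zero]; exact h2
    rw [WithZero.exp_le_exp] at h3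
    have h4 : WithZero.exp (n • Multiplicative.toAdd a) ≤ WithZero.exp (-1 : ℤ) := by
      rw [WithZero.exp_nsmul]; exact h1
    rw [WithZero.exp_le_exp, nsmul_eq_mul] at h4
    show WithZero.exp (Multiplicative.toAdd a) ≤ _
    rw [WithZero.exp_le_exp]
    rcases eq_or_ne (Multiplicative.toAdd a) 0 with h5 | h5
    · rw [h5, mul_zero] at h4; omega
    · omega
  · rw [← mul_assoc, mul_inv_cancel₀ ((_root_.map_ne_zero _).2 hπ0), one_mul]

/-- One step of the approximation, and the first residue, packaged: units are norms up to any precision. -/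
theorem exists_norm_sub_le (hur : IsUnramifiedIn W L) {u : K} (hu : W.valuation K u = 1) (M : ℕ) :
    ∃ z : L, z ∈ locInt W L ∧ W.valuation K (Algebra.norm K z - u) ≤ WithZero.exp (-(M : ℤ)) := by
  classical
  have : FiniteDimensional K L := FiniteDimensional.right ℚ K L
  have : Module.Finite (locRing W) (locInt W L) := IsIntegralClosure.finite (locRing W) K L _
  have : Module.Free (locRing W) (locInt W L) := Module.free_of_finite_type_torsion_free'
  have : IsLocalization (Algebra.algebraMapSubmonoid (locInt W L) (nonZeroDivisors (locRing W))) L :=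
    IsIntegralClosure.isLocalization (locRing W) K L (locInt W L)
  have hnorm : ∀ s : locInt W L, Algebra.norm K (s : L) = ((Algebra.norm (locRing W) s : locRing W) : K) := fun s =>
    Algebra.norm_localization (locRing W) (nonZeroDivisors (locRing W)) s
  let κ := locRing W ⧸ maximalIdeal (locRing W)
  let _ : Field κ := Ideal.Quotient.field _
  have : Finite κ := finite_residue W
  obtain ⟨π₀, hπ₀⟩ := W.valuation_exists_uniformizer K
  let π : locRing W := ⟨π₀, show W.valuation K π₀ ≤ 1 by rw [hπ₀, ← WithZero.exp_zero, WithZero.exp_le_exp]; omega⟩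
  have hπm : maximalIdeal (locRing W) = Ideal.span {π} := by
    refine le_antisymm (fun x hx => Ideal.mem_span_singleton.2 ?_) ((Ideal.span_singleton_le_iff_mem _).2 ?_)
    · have hπ0 : π₀ ≠ 0 := fun h => by rw [h, map_zero] at hπ₀; exact WithZero.exp_ne_zero hπ₀.symm
      refine ⟨⟨(x : K) / π₀, ?_⟩, Subtype.ext (mul_div_cancel₀ _ hπ0).symm⟩
      show W.valuation K _ ≤ 1
      rw [map_div₀, hπ₀, div_le_iff₀ WithZero.exp_pos, one_mul]
      rcases eq_or_ne (W.valuation K (x : K)) 0 with h0 | h0
      · rw [h0]; exact zero_le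
      obtain ⟨a, ha⟩ := WithZero.ne_zero_iff_exists.1 h0
      have h1 := (mem_maximalIdeal_iff W x).1 hx
      rw [← ha] at h1 ⊢
      have h2 : WithZero.exp (Multiplicative.toAdd a) < WithZero.exp 0 := by rw [WithZero.exp_zero]; exact h1
      rw [WithZero.exp_lt_exp] at h2
      show WithZero.exp (Multiplicative.toAdd a) ≤ _
      rw [WithZero.exp_le_exp]; omega
    · rw [mem_maximalIdeal_iff]
      show W.valuation K π₀ < 1
      rw [hπ₀, ← WithZero.exp_zero, WithZero.exp_lt_exp]; omega
  -- the residue algebra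
  have hlift : ∀ z : κ ⊗[locRing W] locInt W L, ∃ s, (1 : κ) ⊗ₜ[locRing W] s = z :=
    TensorProduct.mk_surjective _ _ κ Ideal.Quotient.mk_surjective
  have hzero : ∀ s : locInt W L, (1 : κ) ⊗ₜ[locRing W] s = 0 ↔ ∃ t, s = π • t := fun s => by
    rw [← (TensorProduct.quotTensorEquivQuotSMul (locInt W L) (maximalIdeal (locRing W))).map_eq_zero_iff]
    show (TensorProduct.quotTensorEquivQuotSMul (locInt W L) (maximalIdeal (locRing W)))
      (Ideal.Quotient.mk _ 1 ⊗ₜ s) = 0 ↔ _
    erw [TensorProduct.quotTensorEquivQuotSMul_mk_one_tmul]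
    rw [Submodule.Quotient.mk_eq_zero, hπm, Submodule.ideal_span_singleton_smul, Submodule.mem_smul_pointwise_iff_exists]
    exact ⟨fun ⟨t, _, ht⟩ => ⟨t, ht.symm⟩, fun ⟨t, ht⟩ => ⟨t, trivial, ht.symm⟩⟩
  have : IsReduced (κ ⊗[locRing W] locInt W L) := ⟨fun z ⟨n, hn⟩ => by
    obtain ⟨s, rfl⟩ := hlift z
    rw [Algebra.TensorProduct.tmul_pow, one_pow, hzero] at hn
    obtain ⟨t, ht⟩ := hn
    obtain ⟨t', ht', he⟩ := mem_smul_of_pow_mem W hur hπ₀ s.2 (n := n) ⟨t, t.2, by
      rw [← SubmonoidClass.coe_pow, ht]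
      exact Algebra.smul_def π (t : L)⟩
    exact (hzero s).2 ⟨⟨t', ht'⟩, Subtype.ext (he.trans (Algebra.smul_def π t').symm)⟩⟩
  have : Nontrivial (κ ⊗[locRing W] locInt W L) :=
    Module.nontrivial_of_finrank_pos (R := κ) (by rw [Module.finrank_baseChange]; exact Module.finrank_pos)
  obtain ⟨hNs, hTs⟩ := norm_trace_surjective κ (κ ⊗[locRing W] locInt W L)
  -- successive approximation
  let u' : locRing W := ⟨u, hu.le⟩
  have key : ∀ j : ℕ, ∃ s : locInt W L, ∃ c, Algebra.norm (locRing W) s - u' = π ^ (j + 1) * c := by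
    intro j
    induction j with
    | zero =>
      obtain ⟨z, hz⟩ := hNs (Ideal.Quotient.mk _ u')
      obtain ⟨s, rfl⟩ := hlift z
      rw [norm_baseChange, Ideal.Quotient.algebraMap_eq, Ideal.Quotient.eq, hπm, Ideal.mem_span_singleton] at hz
      obtain ⟨c, hc⟩ := hz
      exact ⟨s, c, by rw [zero_add, pow_one, hc]⟩
    | succ j ih =>
      obtain ⟨s, c, hc⟩ := ih
      have hNu : IsUnit (Algebra.norm (locRing W) s) := by
        by_contra hn
        have h1 : u' ∈ maximalIdeal (locRing W) := by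
          rw [show u' = Algebra.norm (locRing W) s - π ^ (j + 1) * c by rw [← hc]; ring]
          exact sub_mem hn (Ideal.mul_mem_right _ _ (hπm ▸ Ideal.pow_mem_of_mem _ (Ideal.mem_span_singleton_self π) _ (Nat.succ_pos j)))
        exact ((mem_maximalIdeal_iff W u').1 h1).ne hu
      obtain ⟨d, hd⟩ := hNu.exists_left_inv
      obtain ⟨z, hz⟩ := hTs (Ideal.Quotient.mk _ (-(c * d)))
      obtain ⟨y, rfl⟩ := hlift z
      rw [trace_baseChange, Ideal.Quotient.algebraMap_eq, Ideal.Quotient.eq, hπm, Ideal.mem_span_singleton] at hz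
      obtain ⟨e, he⟩ := hz
      let B := Module.Free.chooseBasis (locRing W) (locInt W L)
      obtain ⟨r, hr⟩ : ∃ r, Algebra.norm (locRing W) (1 + π ^ (j + 1) • y) =
          1 + Algebra.trace (locRing W) _ y * π ^ (j + 1) + r * (π ^ (j + 1)) ^ 2 := by
        have h := Matrix.det_one_add_smul (π ^ (j + 1)) (Algebra.leftMulMatrix B y)
        refine ⟨((1 + (Polynomial.X : Polynomial (locRing W)) •
          (Algebra.leftMulMatrix B y).map Polynomial.C).det.divX.divX.eval (π ^ (j + 1))), ?_⟩
        rw [Algebra.norm_eq_matrix_det B, map_add, map_one, map_smul, h, Algebra.trace_eq_matrix_trace B]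
      refine ⟨s * (1 + π ^ (j + 1) • y), Algebra.norm (locRing W) s * (e + r * π ^ j), ?_⟩
      rw [map_mul, hr]
      have he' : Algebra.trace (locRing W) _ y = -(c * d) + π * e := by linear_combination he
      rw [he']
      linear_combination hc - c * π ^ (j + 1) * hd
  obtain ⟨s, c, hc⟩ := key M
  refine ⟨s, s.2, ?_⟩
  rw [hnorm, show ((Algebra.norm (locRing W) s : locRing W) : K) - u =
    ((Algebra.norm (locRing W) s - u' : locRing W) : K) from rfl, hc]
  show W.valuation K (π₀ ^ (M + 1) * (c : K)) ≤ _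
  rw [map_mul, map_pow, hπ₀, ← WithZero.exp_nsmul]
  refine le_trans (mul_le_of_le_one_right' c.2) (WithZero.exp_le_exp.2 ?_)
  rw [nsmul_eq_mul]; push_cast; omega

end Groth.Agent.NF31
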