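import Groth.Agent.NF31.Elim
import Groth.Agent.NF31.Box
import Groth.Agent.NF31.UnitNorm
import Mathlib.Topology.Algebra.MvPolynomial
import Mathlib.Algebra.MvPolynomial.Funext
import Mathlib.NumberTheory.NumberField.InfinitePlace.Basic

/-! Strong approximation off a finite place for complements of closed sets of codimension two. -/

set_option autoImplicit false

universe u

open NumberField IsDedekindDomain IsLocalRing

namespace Groth.Agent.NF31

variable {k : Type u} [Field k] [NumberField k]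

/-- Evaluation at a point with values in a `k`-algebra. -/
noncomputable def ev {σ : Type} (R : Type u) [CommRing R] [Algebra k R] (P : σ → R) : MvPolynomial σ (𝓞 k) →+* R :=
  MvPolynomial.eval₂Hom ((algebraMap k R).comp (algebraMap (𝓞 k) k)) P

omit [NumberField k] in
theorem ev_eq_aeval {σ : Type} (R : Type u) [CommRing R] [Algebra k R] (P : σ → R) (p : MvPolynomial σ (𝓞 k)) :
    MvPolynomial.aeval P (MvPolynomial.map (algebraMap (𝓞 k) k) p) = ev R P p := by
  simp [ev, MvPolynomial.aeval_def, MvPolynomial.eval₂_map]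

omit [NumberField k] in
theorem ev_algebraMap {σ : Type} (R : Type u) [CommRing R] [Algebra k R] (x : σ → k) (p : MvPolynomial σ (𝓞 k)) :
    ev R (fun i => algebraMap k R (x i)) p = algebraMap k R (ev k x p) := by
  induction p using MvPolynomial.induction_on with
  | C r => simp [ev]
  | add p q hp hq => simp [map_add, hp, hq]
  | mul_X p i hp => simp only [map_mul, hp]; simp [ev]

omit [NumberField k] in
theorem ev_cons {n : ℕ} (R : Type u) [CommRing R] [Algebra k R] (y : R) (x : Fin n → R)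
    (p : MvPolynomial (Fin (n + 1)) (𝓞 k)) :
    ev R (Fin.cons y x) p = ((MvPolynomial.finSuccEquiv (𝓞 k) n p).map (ev R x)).eval y := by
  induction p using MvPolynomial.induction_on with
  | C r => simp [ev, MvPolynomial.finSuccEquiv_apply]
  | add p q hp hq => simp [map_add, hp, hq]
  | mul_X p i hp =>
    simp only [map_mul, hp, Polynomial.map_mul, Polynomial.eval_mul]
    congr 1
    cases i using Fin.cases with
    | zero => simp [ev, MvPolynomial.finSuccEquiv_X_zero]
    | succ i => simp [ev, MvPolynomial.finSuccEquiv_X_succ]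

omit [NumberField k] in
theorem continuous_ev {σ : Type} (R : Type u) [CommRing R] [Algebra k R] [TopologicalSpace R] [IsTopologicalRing R]
    (p : MvPolynomial σ (𝓞 k)) : Continuous fun P : σ → R => ev R P p := by
  have h : ∀ P : σ → R, ev R P p =
      MvPolynomial.eval P (MvPolynomial.map ((algebraMap k R).comp (algebraMap (𝓞 k) k)) p) := fun P => by
    rw [MvPolynomial.eval_map]; rfl
  simp only [h]
  exact MvPolynomial.continuous_eval _

theorem valued_ev_le {σ : Type} (v : HeightOneSpectrum (𝓞 k)) {P : σ → v.adicCompletion k}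
    (hP : ∀ i, Valued.v (P i) ≤ 1) (p : MvPolynomial σ (𝓞 k)) : Valued.v (ev (v.adicCompletion k) P p) ≤ 1 := by
  induction p using MvPolynomial.induction_on with
  | C r =>
    rw [ev, MvPolynomial.eval₂Hom_C, RingHom.comp_apply, valued_algebraMap]
    exact v.valuation_le_one r
  | add p q hp hq => rw [map_add]; exact Valuation.map_add_le _ hp hq
  | mul_X p i hp =>
    rw [map_mul, map_mul]
    refine mul_le_one' hp ?_
    simpa [ev] using hP i

theorem valuation_ev_le {σ : Type} (v : HeightOneSpectrum (𝓞 k)) {x : σ → k} (hx : ∀ i, v.valuation k (x i) ≤ 1)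
    (p : MvPolynomial σ (𝓞 k)) : v.valuation k (ev k x p) ≤ 1 := by
  rw [← valued_algebraMap v, ← ev_algebraMap]
  exact valued_ev_le v (fun i => by rw [valued_algebraMap]; exact hx i) p

theorem isOpen_eq_one (v : HeightOneSpectrum (𝓞 k)) : IsOpen {y : v.adicCompletion k | Valued.v y = 1} := by
  refine isOpen_iff_mem_nhds.2 fun x (hx : Valued.v x = 1) => ?_
  rw [← hx]
  exact Valued.locally_const (by rw [hx]; exact one_ne_zero)

theorem isOpen_integral_pi {σ : Type} [Finite σ] (v : HeightOneSpectrum (𝓞 k)) :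
    IsOpen {P : σ → v.adicCompletion k | ∀ i, Valued.v (P i) ≤ 1} := by
  rw [Set.ofPred_forall]
  exact isOpen_iInter_of_finite fun i =>
    (continuous_apply i : Continuous fun P : σ → v.adicCompletion k => P i).isOpen_preimage
      {y : v.adicCompletion k | Valued.v y ≤ 1} (Valued.isOpen_integer (v.adicCompletion k))

theorem finite_setOf_valuation_ne_one {x : k} (hx : x ≠ 0) :
    {v : HeightOneSpectrum (𝓞 k) | v.valuation k x ≠ 1}.Finite := by
  refine ((finite_setOf_valuation_gt x).union (finite_setOf_valuation_gt x⁻¹)).subset fun v hv => ?_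
  by_contra h
  simp only [Set.mem_union, Set.mem_ofPred_eq, not_or, not_not, map_inv₀] at h
  exact hv (le_antisymm h.1 ((inv_le_one₀ (zero_lt_iff.2 ((Valuation.ne_zero_iff _).2 hx))).1 h.2))

/-- An integral polynomial of small degree with a unit coefficient takes a unit value. -/
theorem exists_eval_eq_one (v : HeightOneSpectrum (𝓞 k)) {d : ℕ} (hd : d < Ideal.absNorm v.asIdeal)
    {q : Polynomial k} (hq : ∀ i, v.valuation k (q.coeff i) ≤ 1) (hdeg : q.natDegree ≤ d)
    {l : ℕ} (hl : v.valuation k (q.coeff l) = 1) :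
    ∃ r : 𝓞 k, v.valuation k (q.eval (r : k)) = 1 := by
  classical
  let R := locRing v
  obtain ⟨q', hq', hdeg'⟩ : ∃ q' : Polynomial R, q'.map R.subtype = q ∧ q'.degree = q.degree :=
    Polynomial.exists_degree_eq_of_mem_lifts ((Polynomial.lifts_iff_coeff_lifts q).2 fun i => ⟨⟨q.coeff i, hq i⟩, rfl⟩)
  let ι : 𝓞 k →+* R := (algebraMap (𝓞 k) k).codRestrict R.toSubring fun r => v.valuation_le_one r
  let κ := R ⧸ maximalIdeal R
  let _ : Field κ := Ideal.Quotient.field _
  have : Finite κ := finite_residue v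
  let ρ : R →+* κ := Ideal.Quotient.mk _
  by_contra hne
  push Not at hne
  have hlt : ∀ r : 𝓞 k, v.valuation k (q.eval (r : k)) < 1 := fun r => by
    refine lt_of_le_of_ne ?_ (hne r)
    exact valuation_eval_le_one v hq (v.valuation_le_one r)
  have hroot : ∀ r : 𝓞 k, (q'.map ρ).eval (ρ (ι r)) = 0 := fun r => by
    rw [Polynomial.eval_map, Polynomial.eval₂_at_apply]
    refine Ideal.Quotient.eq_zero_iff_mem.2 ((mem_maximalIdeal_iff v _).2 ?_)
    have e : ((q'.eval (ι r) : R) : k) = q.eval (r : k) := by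
      rw [← hq', Polynomial.eval_map]
      exact (Polynomial.eval₂_at_apply R.subtype (ι r)).symm
    rw [e]
    exact hlt r
  have hinj : Function.Injective (Ideal.Quotient.lift v.asIdeal (ρ.comp ι) fun r hr =>
      Ideal.Quotient.eq_zero_iff_mem.2 ((mem_maximalIdeal_iff v _).2 ((v.valuation_lt_one_iff_mem (K := k) r).2 hr))) := by
    refine (injective_iff_map_eq_zero _).2 fun z hz => ?_
    obtain ⟨r, rfl⟩ := Ideal.Quotient.mk_surjective z
    rw [Ideal.Quotient.lift_mk] at hz
    exact Ideal.Quotient.eq_zero_iff_mem.2 ((v.valuation_lt_one_iff_mem (K := k) r).1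
      ((mem_maximalIdeal_iff v _).1 (Ideal.Quotient.eq_zero_iff_mem.1 hz)))
  have hcard : d < Nat.card κ := by
    refine lt_of_lt_of_le hd ?_
    rw [Ideal.absNorm_apply, Submodule.cardQuot_apply]
    exact Nat.card_le_card_of_injective _ hinj
  have hzero : q'.map ρ = 0 := by
    have : Finite (𝓞 k ⧸ v.asIdeal) := Ideal.finiteQuotientOfFreeOfNeBot _ v.ne_bot
    have := Fintype.ofFinite (𝓞 k ⧸ v.asIdeal)
    refine Polynomial.eq_zero_of_natDegree_lt_card_of_eval_eq_zero _ hinj (fun z => ?_) ?_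
    · obtain ⟨r, rfl⟩ := Ideal.Quotient.mk_surjective z
      rw [Ideal.Quotient.lift_mk]
      exact hroot r
    · rw [Fintype.card_eq_nat_card]
      refine lt_of_le_of_lt (Polynomial.natDegree_map_le.trans ?_) (lt_of_lt_of_le hd ?_)
      · rw [Polynomial.natDegree_eq_of_degree_eq hdeg']; exact hdeg
      · rw [Ideal.absNorm_apply, Submodule.cardQuot_apply]
  have h1 : ρ (q'.coeff l) = 0 := by rw [← Polynomial.coeff_map, hzero, Polynomial.coeff_zero]
  have h2 := (mem_maximalIdeal_iff v _).1 (Ideal.Quotient.eq_zero_iff_mem.1 h1)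
  rw [show ((q'.coeff l : R) : k) = q.coeff l by rw [← hq', Polynomial.coeff_map]; rfl] at h2
  exact h2.ne hl

omit [NumberField k] in
theorem ev_cons_sum {n d : ℕ} (R : Type u) [CommRing R] [Algebra k R] (y : R) (x : Fin n → R)
    (p : MvPolynomial (Fin (n + 1)) (𝓞 k)) (hd : (MvPolynomial.finSuccEquiv (𝓞 k) n p).natDegree ≤ d) :
    ev R (Fin.cons y x) p =
      ∑ l : Fin (d + 1), ev R x ((MvPolynomial.finSuccEquiv (𝓞 k) n p).coeff l) * y ^ (l : ℕ) := by
  rw [ev_cons, Polynomial.eval_eq_sum_range' (lt_of_le_of_lt (Polynomial.natDegree_map_le.trans hd) d.lt_succ_self),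
    Finset.sum_range]
  exact Finset.sum_congr rfl fun l _ => by rw [Polynomial.coeff_map]

omit [NumberField k] in
theorem exists_coeff_ne_zero {n d : ℕ} (R : Type u) [CommRing R] [Algebra k R] (P : Fin (n + 1) → R)
    (p : MvPolynomial (Fin (n + 1)) (𝓞 k)) (hd : (MvPolynomial.finSuccEquiv (𝓞 k) n p).natDegree ≤ d)
    (hne : ev R P p ≠ 0) :
    ∃ l : Fin (d + 1), ev R (Fin.tail P) ((MvPolynomial.finSuccEquiv (𝓞 k) n p).coeff l) ≠ 0 := by
  by_contra hall
  push Not at hall
  refine hne ?_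
  rw [← Fin.cons_self_tail P, ev_cons_sum R _ _ p hd]
  exact Finset.sum_eq_zero fun l _ => by rw [hall, zero_mul]

omit [Field k] [NumberField k] in
theorem map_sum_mul_pow_lt {R : Type u} [CommRing R] {Γ : Type*} [LinearOrderedCommGroupWithZero Γ]
    (V : Valuation R Γ) {m : ℕ} (c : Fin m → R) (y : R) (hy : V y ≤ 1) (hc : ∀ l, V (c l) < 1) :
    V (∑ l, c l * y ^ (l : ℕ)) < 1 := by
  refine Valuation.map_sum_lt _ one_ne_zero fun l _ => ?_
  rw [map_mul, map_pow]
  exact lt_of_le_of_lt (mul_le_of_le_one_right' (pow_le_one₀ zero_le hy)) (hc l)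

theorem exists_coeff_eq_one {n d : ℕ} (v : HeightOneSpectrum (𝓞 k)) {P : Fin (n + 1) → v.adicCompletion k}
    (hP : ∀ i, Valued.v (P i) ≤ 1) (p : MvPolynomial (Fin (n + 1)) (𝓞 k))
    (hd : (MvPolynomial.finSuccEquiv (𝓞 k) n p).natDegree ≤ d)
    (h1 : Valued.v (ev (v.adicCompletion k) P p) = 1) :
    ∃ l : Fin (d + 1), Valued.v (ev (v.adicCompletion k) (Fin.tail P)
      ((MvPolynomial.finSuccEquiv (𝓞 k) n p).coeff l)) = 1 := by
  by_contra hall
  have hC : ∀ l : Fin (d + 1), Valued.v (ev (v.adicCompletion k) (Fin.tail P)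
      ((MvPolynomial.finSuccEquiv (𝓞 k) n p).coeff l)) < 1 := fun l =>
    lt_of_le_of_ne (valued_ev_le v (P := Fin.tail P) (fun i => hP i.succ)
      ((MvPolynomial.finSuccEquiv (𝓞 k) n p).coeff l)) fun h => hall ⟨l, h⟩
  have e := ev_cons_sum (v.adicCompletion k) (P 0) (Fin.tail P) p hd
  rw [Fin.cons_self_tail] at e
  have h2 := map_sum_mul_pow_lt (Valued.v (R := v.adicCompletion k)) _ (P 0) (hP 0) hC
  rw [← e] at h2
  exact h2.ne h1

/-- A rational point of a box at an infinite place avoiding a hypersurface. -/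
theorem exists_box_ne_zero {σ : Type} [Finite σ] (w : InfinitePlace k) (u : σ → Set w.Completion)
    (hu : ∀ i, IsOpen (u i) ∧ (u i).Nonempty) (Q : MvPolynomial σ (𝓞 k)) (hQ : Q ≠ 0) :
    ∃ x : σ → k, (∀ i, algebraMap k w.Completion (x i) ∈ u i) ∧ ev k x Q ≠ 0 := by
  classical
  obtain ⟨v, hv, -⟩ := exists_root_mod (k := k) Polynomial.X (by rw [Polynomial.natDegree_X]; exact one_pos) ∅
  obtain ⟨Sol, hSol, hsol⟩ := exists_pi_mem_open v ∅ (Finset.notMem_empty _) (κ := σ)
    (fun v => Set.univ) (fun _ h => absurd h (Finset.notMem_empty _))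
    (fun w' => Set.univ.pi (Function.update (β := fun w' : InfinitePlace k => σ → Set w'.Completion) (fun _ _ => Set.univ) w u w'))
    (fun w' => by
      have h : ∀ i, IsOpen ((Function.update (β := fun w' : InfinitePlace k => σ → Set w'.Completion) (fun _ _ => Set.univ) w u w') i) ∧
          ((Function.update (β := fun w' : InfinitePlace k => σ → Set w'.Completion) (fun _ _ => Set.univ) w u w') i).Nonempty := fun i => by
        by_cases e : w' = w
        · subst e; rw [Function.update_self]; exact hu i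
        · rw [Function.update_of_ne e]; exact ⟨isOpen_univ, Set.univ_nonempty⟩
      exact ⟨isOpen_set_pi Set.finite_univ fun i _ => (h i).1, Set.univ_pi_nonempty_iff.2 fun i => (h i).2⟩)
  by_contra hall
  push Not at hall
  refine hQ (MvPolynomial.map_injective (algebraMap (𝓞 k) k) RingOfIntegers.coe_injective ?_)
  rw [map_zero]
  refine MvPolynomial.funext_set Sol hSol fun x hx => ?_
  have hxu := (hsol x fun i => hx i trivial).2.1 w
  rw [Function.update_self] at hxu
  rw [map_zero, ← MvPolynomial.aeval_eq_eval]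
  exact (ev_eq_aeval k x Q).trans (hall x fun i => hxu i trivial)

/-- The last coordinate at an exceptional place of large residue field. -/
theorem exists_last {n d : ℕ} (v : HeightOneSpectrum (𝓞 k)) (hv : d < Ideal.absNorm v.asIdeal)
    (p : MvPolynomial (Fin (n + 1)) (𝓞 k)) (hd : (MvPolynomial.finSuccEquiv (𝓞 k) n p).natDegree ≤ d)
    (x : Fin n → k) (hx : ∀ i, v.valuation k (x i) ≤ 1) {l : ℕ}
    (hl : v.valuation k (ev k x ((MvPolynomial.finSuccEquiv (𝓞 k) n p).coeff l)) = 1) :
    ∃ O : Set (v.adicCompletion k), (IsOpen O ∧ O.Nonempty) ∧ ∀ y ∈ O, Valued.v y ≤ 1 ∧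
      Valued.v (ev (v.adicCompletion k) (Fin.cons y fun i => algebraMap k _ (x i)) p) = 1 := by
  obtain ⟨r, hr⟩ := exists_eval_eq_one v hv (q := (MvPolynomial.finSuccEquiv (𝓞 k) n p).map (ev k x)) (l := l)
    (fun i => by rw [Polynomial.coeff_map]; exact valuation_ev_le v hx _)
    (Polynomial.natDegree_map_le.trans hd) (by rw [Polynomial.coeff_map]; exact hl)
  refine ⟨{y | Valued.v y ≤ 1} ∩
      (fun y => ev (v.adicCompletion k) (Fin.cons y fun i => algebraMap k _ (x i)) p) ⁻¹' {y | Valued.v y = 1},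
    ⟨(Valued.isOpen_integer (v.adicCompletion k)).inter ((isOpen_eq_one v).preimage ?_), ?_⟩,
    fun y hy => ⟨hy.1, hy.2⟩⟩
  · exact (continuous_ev _ p).comp (Continuous.finCons continuous_id continuous_const)
  · refine ⟨algebraMap k _ (r : k), by rw [Set.mem_ofPred_eq, valued_algebraMap]; exact v.valuation_le_one r, ?_⟩
    rw [Set.mem_preimage, Set.mem_ofPred_eq, show (Fin.cons (algebraMap k (v.adicCompletion k) (r : k))
        (fun i => algebraMap k _ (x i)) : Fin (n + 1) → v.adicCompletion k) = fun i => algebraMap k _ ((Fin.cons (r : k) x : Fin (n + 1) → k) i) by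
      funext i; cases i using Fin.cases <;> simp, ev_algebraMap, valued_algebraMap, ev_cons]
    exact hr

/-- Membership of an eliminated polynomial in the ideal gives a unit value. -/
theorem exists_eq_one_of_mem {n : ℕ} {σ : Type} [Fintype σ] (v : HeightOneSpectrum (𝓞 k))
    (f : σ → MvPolynomial (Fin (n + 1)) (𝓞 k)) {H : MvPolynomial (Fin n) (𝓞 k)}
    (hH : MvPolynomial.rename Fin.succ H ∈ Ideal.span (Set.range f)) {y : k} {x : Fin n → k}
    (hint : ∀ i, v.valuation k ((Fin.cons y x : Fin (n + 1) → k) i) ≤ 1)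
    (hH1 : v.valuation k (ev k x H) = 1) :
    ∃ j, v.valuation k (ev k (Fin.cons y x : Fin (n + 1) → k) (f j)) = 1 := by
  have hren : ev k (Fin.cons y x : Fin (n + 1) → k) (MvPolynomial.rename Fin.succ H) = ev k x H := by
    simp [ev, MvPolynomial.eval₂_rename, Function.comp_def]
  obtain ⟨g, hg⟩ := Ideal.mem_span_range_iff_exists_fun.1 hH
  by_contra hall
  push Not at hall
  rw [← hren, ← hg, map_sum] at hH1
  refine ne_of_lt (Valuation.map_sum_lt _ one_ne_zero fun j _ => ?_) hH1
  rw [map_mul, map_mul]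
  exact lt_of_le_of_lt (mul_le_of_le_one_left' (valuation_ev_le v hint _))
    (lt_of_le_of_ne (valuation_ev_le v hint _) (hall j))

/-- Strong approximation off a finite place for the complement of a closed set of codimension two. -/
theorem exists_point (v₀ : HeightOneSpectrum (𝓞 k)) : ∀ (n : ℕ) {σ : Type} [Fintype σ]
    (f : σ → MvPolynomial (Fin n) (𝓞 k))
    (_ : ringKrullDim (MvPolynomial (Fin n) k ⧸ Ideal.span (Set.range fun j =>
      MvPolynomial.map (algebraMap (𝓞 k) k) (f j))) + 2 ≤ (n : WithBot ℕ∞))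
    (S : Finset (HeightOneSpectrum (𝓞 k))) (_ : v₀ ∉ S)
    (Nf : (v : HeightOneSpectrum (𝓞 k)) → Set (Fin n → v.adicCompletion k))
    (_ : ∀ v ∈ S, IsOpen (Nf v) ∧ ∃ P ∈ Nf v, ∃ j, ev (v.adicCompletion k) P (f j) ≠ 0)
    (Ni : (w : InfinitePlace k) → Set (Fin n → w.Completion))
    (_ : ∀ w, IsOpen (Ni w) ∧ ∃ P ∈ Ni w, ∃ j, ev w.Completion P (f j) ≠ 0)
    (_ : ∀ v : HeightOneSpectrum (𝓞 k), v ∉ S → v ≠ v₀ → ∃ R : Fin n → v.adicCompletion k,
      (∀ i, Valued.v (R i) ≤ 1) ∧ ∃ j, Valued.v (ev (v.adicCompletion k) R (f j)) = 1),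
    ∃ P : Fin n → k, (∀ v ∈ S, (fun i => algebraMap k (v.adicCompletion k) (P i)) ∈ Nf v) ∧
      (∀ w : InfinitePlace k, (fun i => algebraMap k w.Completion (P i)) ∈ Ni w) ∧
      ∀ v : HeightOneSpectrum (𝓞 k), v ∉ S → v ≠ v₀ →
        (∀ i, v.valuation k (P i) ≤ 1) ∧ ∃ j, v.valuation k (ev k P (f j)) = 1 := by
  intro n
  induction n with
  | zero =>
    intro σ _ f _ S _ Nf hNf Ni hNi hne
    refine ⟨finZeroElim, fun v hv => ?_, fun w => ?_, fun v hv hv0 => ⟨finZeroElim, ?_⟩⟩
    · obtain ⟨P, hP, -⟩ := (hNf v hv).2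
      convert hP
    · obtain ⟨P, hP, -⟩ := (hNi w).2
      convert hP
    · obtain ⟨R, -, j, hj⟩ := hne v hv hv0
      refine ⟨j, ?_⟩
      rw [← valued_algebraMap v, ← ev_algebraMap]
      convert hj
  | succ n ih =>
    intro σ _ f hdim S hv₀ Nf hNf Ni hNi hne
    classical
    let p := fun j => MvPolynomial.finSuccEquiv (𝓞 k) n (f j)
    let d := Finset.univ.sup fun j => (p j).natDegree
    have hd : ∀ j, (p j).natDegree ≤ d := fun j => Finset.le_sup (f := fun j => (p j).natDegree) (Finset.mem_univ j)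
    let G : σ × Fin (d + 1) → MvPolynomial (Fin n) (𝓞 k) := fun c => (p c.1).coeff c.2
    -- enlarge `S` by the small places
    let S' := S ∪ (finite_setOf_small (K := k) d).toFinset.erase v₀
    let U : (v : HeightOneSpectrum (𝓞 k)) → Set (Fin (n + 1) → v.adicCompletion k) := fun v =>
      {P | ∀ i, Valued.v (P i) ≤ 1} ∩ ⋃ j, {P | Valued.v (ev (v.adicCompletion k) P (f j)) = 1}
    let N' : (v : HeightOneSpectrum (𝓞 k)) → Set (Fin (n + 1) → v.adicCompletion k) := fun v =>
      (if v ∈ S then Nf v else U v) ∩ ⋃ j, {P | ev (v.adicCompletion k) P (f j) ≠ 0}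
    have hU : ∀ v, IsOpen (U v) := fun v => (isOpen_integral_pi v).inter
      (isOpen_iUnion fun j => (isOpen_eq_one v).preimage (continuous_ev _ (f j)))
    have hbox : ∀ v : HeightOneSpectrum (𝓞 k), ∃ u : Fin (n + 1) → Set (v.adicCompletion k), v ∈ S' →
        (∀ i, IsOpen (u i) ∧ (u i).Nonempty) ∧ Set.univ.pi u ⊆ N' v ∧
          ∃ x : Fin n → v.adicCompletion k, (∀ i, x i ∈ u i.succ) ∧ ∃ c, ev (v.adicCompletion k) x (G c) ≠ 0 := by
      intro v
      by_cases hv : v ∈ S'
      swap
      · exact ⟨fun _ => Set.univ, fun h => absurd h hv⟩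
      obtain ⟨P, hP⟩ : ∃ P, P ∈ N' v := by
        by_cases hvS : v ∈ S
        · obtain ⟨P, hP, j, hj⟩ := (hNf v hvS).2
          exact ⟨P, show P ∈ (if v ∈ S then Nf v else U v) by rw [if_pos hvS]; exact hP, Set.mem_iUnion.2 ⟨j, hj⟩⟩
        · have hv0 : v ≠ v₀ := by
            rcases Finset.mem_union.1 hv with h | h
            · exact absurd h hvS
            · exact Finset.ne_of_mem_erase h
          obtain ⟨R, hR, j, hj⟩ := hne v hvS hv0
          refine ⟨R, show R ∈ (if v ∈ S then Nf v else U v) by rw [if_neg hvS]; exact ⟨hR, Set.mem_iUnion.2 ⟨j, hj⟩⟩,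
            Set.mem_iUnion.2 ⟨j, fun h0 => ?_⟩⟩
          rw [h0, map_zero] at hj
          exact zero_ne_one hj
      have hopen : IsOpen (N' v) := by
        refine IsOpen.inter ?_ (isOpen_iUnion fun j => isOpen_ne.preimage (continuous_ev _ (f j)))
        by_cases hvS : v ∈ S
        · rw [if_pos hvS]; exact (hNf v hvS).1
        · rw [if_neg hvS]; exact hU v
      obtain ⟨u, hu, hsub⟩ := isOpen_pi_iff'.1 hopen P hP
      refine ⟨u, fun _ => ⟨fun i => ⟨(hu i).1, ⟨_, (hu i).2⟩⟩, hsub, Fin.tail P, fun i => (hu i.succ).2, ?_⟩⟩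
      obtain ⟨j, hj⟩ := Set.mem_iUnion.1 hP.2
      obtain ⟨l, hl⟩ := exists_coeff_ne_zero _ P (f j) (hd j) hj
      exact ⟨(j, l), hl⟩
    choose uf huf using hbox
    -- the elimination
    obtain ⟨h, h0, hmem⟩ := exists_ne_zero_rename_mem _ hdim
    obtain ⟨H, hH0, hH⟩ := exists_integral_mem f h0 hmem
    have hboxi : ∀ w : InfinitePlace k, ∃ u : Fin (n + 1) → Set w.Completion,
        (∀ i, IsOpen (u i) ∧ (u i).Nonempty) ∧ Set.univ.pi u ⊆ Ni w ∧
          ∃ x : Fin n → w.Completion, (∀ i, x i ∈ u i.succ) ∧ ev w.Completion x H ≠ 0 ∧ ∃ c, ev w.Completion x (G c) ≠ 0 := by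
      intro w
      obtain ⟨P, hP, j, hj⟩ := (hNi w).2
      obtain ⟨u, hu, hsub⟩ := isOpen_pi_iff'.1 (hNi w).1 P hP
      have hu' : ∀ i, IsOpen (u i) ∧ (u i).Nonempty := fun i => ⟨(hu i).1, ⟨_, (hu i).2⟩⟩
      obtain ⟨l, hc⟩ := exists_coeff_ne_zero _ P (f j) (hd j) hj
      refine ⟨u, hu', hsub, ?_⟩
      obtain ⟨x, hxu, hx⟩ := exists_box_ne_zero w (fun i : Fin n => u i.succ) (fun i => hu' i.succ) (H * G (j, l))
        (mul_ne_zero hH0 fun h0 => hc (by show ev _ _ (G (j, l)) = 0; rw [h0, map_zero]))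
      rw [map_mul, mul_ne_zero_iff] at hx
      refine ⟨fun i => algebraMap k w.Completion (x i), hxu, ?_, (j, l), ?_⟩
      · rw [ev_algebraMap, _root_.map_ne_zero]; exact hx.1
      · rw [ev_algebraMap, _root_.map_ne_zero]; exact hx.2
    choose ui hui hui' xi hxi hxiH hxiG using hboxi
    -- the projection
    have hG : ∀ j l, (MvPolynomial.finSuccEquiv k n (MvPolynomial.map (algebraMap (𝓞 k) k) (f j))).coeff l ∈
        Ideal.span (Set.range fun c => MvPolynomial.map (algebraMap (𝓞 k) k) (G c)) := fun j l => by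
      have e : (MvPolynomial.finSuccEquiv k n (MvPolynomial.map (algebraMap (𝓞 k) k) (f j))).coeff l =
          MvPolynomial.map (algebraMap (𝓞 k) k) ((p j).coeff l) := by
        ext μ
        simp only [p, MvPolynomial.coeff_map, MvPolynomial.finSuccEquiv_coeff_coeff]
      rw [e]
      by_cases hl : l < d + 1
      · exact Ideal.subset_span ⟨(j, ⟨l, hl⟩), rfl⟩
      · rw [Polynomial.coeff_eq_zero_of_natDegree_lt (lt_of_le_of_lt (hd j) (by omega)), map_zero]
        exact zero_mem _
    obtain ⟨x, hxS, hxw, hxne⟩ := ih G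
      (ringKrullDim_coeff_le (fun j => MvPolynomial.map (algebraMap (𝓞 k) k) (f j)) _ hG hdim)
      S' (by simp [S', hv₀])
      (fun v => Set.univ.pi fun i : Fin n => uf v i.succ)
      (fun v hv => by
        obtain ⟨hu, -, x, hx, hc⟩ := huf v hv
        exact ⟨isOpen_set_pi Set.finite_univ fun i _ => (hu i.succ).1, x, fun i _ => hx i, hc⟩)
      (fun w => (Set.univ.pi fun i : Fin n => ui w i.succ) ∩ {x | ev w.Completion x H ≠ 0})
      (fun w => ⟨(isOpen_set_pi Set.finite_univ fun i _ => (hui w i.succ).1).inter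
        (isOpen_ne.preimage (continuous_ev _ H)), xi w, ⟨fun i _ => hxi w i, hxiH w⟩, hxiG w⟩)
      (fun v hv hv0 => by
        obtain ⟨R, hR, j, hj⟩ := hne v (fun h => hv (Finset.mem_union_left _ h)) hv0
        obtain ⟨l, hl⟩ := exists_coeff_eq_one v hR (f j) (hd j) hj
        exact ⟨Fin.tail R, fun i => hR i.succ, (j, l), hl⟩)
    have hx0 : ev k x H ≠ 0 := by
      obtain ⟨w⟩ := (inferInstance : Nonempty (InfinitePlace k))
      intro h
      refine (hxw w).2 ?_
      rw [ev_algebraMap, h, map_zero]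
    -- the last coordinate
    let Bad := ((finite_setOf_valuation_ne_one hx0).toFinset \ S').erase v₀
    have hlast : ∀ v : HeightOneSpectrum (𝓞 k), ∃ O : Set (v.adicCompletion k), v ∈ S' ∪ Bad →
        (IsOpen O ∧ O.Nonempty) ∧ (v ∈ S' → O = uf v 0) ∧ (v ∉ S' → ∀ y ∈ O, Valued.v y ≤ 1 ∧
          ∃ j, Valued.v (ev (v.adicCompletion k) (Fin.cons y fun i => algebraMap k _ (x i)) (f j)) = 1) := by
      intro v
      by_cases hv : v ∈ S'
      · exact ⟨uf v 0, fun _ => ⟨(huf v hv).1 0, fun _ => rfl, fun h => absurd hv h⟩⟩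
      by_cases hvB : v ∈ Bad
      swap
      · exact ⟨Set.univ, fun h => absurd ((Finset.mem_union.1 h).resolve_right hvB) hv⟩
      have hv0 : v ≠ v₀ := Finset.ne_of_mem_erase hvB
      obtain ⟨hxint, ⟨j, l⟩, hjl⟩ := hxne v hv hv0
      obtain ⟨O, hO, hO'⟩ := exists_last (d := d) v
        (not_le.1 fun hle => hv (Finset.mem_union_right _ (Finset.mem_erase.2 ⟨hv0, (Set.Finite.mem_toFinset _).2 hle⟩)))
        (f j) (hd j) x hxint (l := l) hjl
      exact ⟨O, fun _ => ⟨hO, fun h => absurd h hv, fun _ y hy => ⟨(hO' y hy).1, j, (hO' y hy).2⟩⟩⟩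
    choose O hO using hlast
    obtain ⟨y, hyO, hyw, hyint⟩ := exists_mem_open v₀ (S' ∪ Bad) (by simp [S', Bad, hv₀]) O
      (fun v hv => (hO v hv).1) (fun w => ui w 0) (fun w => hui w 0)
    have hcons : ∀ (R : Type u) [CommRing R] [Algebra k R],
        (fun i => algebraMap k R ((Fin.cons y x : Fin (n + 1) → k) i)) =
          Fin.cons (algebraMap k R y) fun i => algebraMap k R (x i) := fun R _ _ => by
      funext i; cases i using Fin.cases <;> simp
    have hpi : ∀ v ∈ S', (fun i => algebraMap k (v.adicCompletion k) ((Fin.cons y x : Fin (n + 1) → k) i)) ∈ N' v := by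
      intro v hv
      refine (huf v hv).2.1 fun i _ => ?_
      cases i using Fin.cases with
      | zero =>
        have h := hyO v (Finset.mem_union_left _ hv)
        rw [(hO v (Finset.mem_union_left _ hv)).2.1 hv] at h
        simpa using h
      | succ i => simpa using hxS v hv i trivial
    refine ⟨Fin.cons y x, fun v hv => ?_, fun w => ?_, fun v hv hv0 => ?_⟩
    · have h := (hpi v (Finset.mem_union_left _ hv)).1
      rwa [if_pos hv] at h
    · refine hui' w fun i _ => ?_
      cases i using Fin.cases with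
      | zero => simpa using hyw w
      | succ i => simpa using (hxw w).1 i trivial
    by_cases hv' : v ∈ S'
    · obtain ⟨h1, h2⟩ : (fun i => algebraMap k (v.adicCompletion k) ((Fin.cons y x : Fin (n + 1) → k) i)) ∈ U v := by
        have h := (hpi v hv').1
        rwa [if_neg hv] at h
      refine ⟨fun i => by rw [← valued_algebraMap v]; exact h1 i, ?_⟩
      obtain ⟨j, hj⟩ := Set.mem_iUnion.1 h2
      rw [Set.mem_ofPred_eq, ev_algebraMap, valued_algebraMap] at hj
      exact ⟨j, hj⟩
    obtain ⟨hxint, -⟩ := hxne v hv' hv0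
    by_cases hvB : v ∈ Bad
    · obtain ⟨h1, j, hj⟩ := (hO v (Finset.mem_union_right _ hvB)).2.2 hv' _ (hyO v (Finset.mem_union_right _ hvB))
      rw [← hcons, ev_algebraMap, valued_algebraMap] at hj
      rw [valued_algebraMap] at h1
      refine ⟨fun i => ?_, j, hj⟩
      cases i using Fin.cases with
      | zero => simpa using h1
      | succ i => simpa using hxint i
    have hint : ∀ i, v.valuation k ((Fin.cons y x : Fin (n + 1) → k) i) ≤ 1 := fun i => by
      cases i using Fin.cases with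
      | zero => simpa using hyint v (by simp [hv', hvB]) hv0
      | succ i => simpa using hxint i
    refine ⟨hint, exists_eq_one_of_mem v f hH hint ?_⟩
    by_contra hne1
    exact hvB (Finset.mem_erase.2 ⟨hv0, Finset.mem_sdiff.2 ⟨(Set.Finite.mem_toFinset _).2 hne1, hv'⟩⟩)

end Groth.Agent.NF31
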