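import Mathlib.RingTheory.Norm.Basic
import Mathlib.RingTheory.TensorProduct.Free
import Mathlib.LinearAlgebra.TensorProduct.Pi
import Mathlib.LinearAlgebra.TensorProduct.Tower
import Mathlib.Topology.Algebra.Module.ModuleTopology
import Mathlib.Topology.Instances.Matrix

/-! The norm form of a tower after base change. -/

set_option autoImplicit false

universe u

open TensorProduct

namespace Groth.Agent.NF31

variable {k K L : Type u} [Field k] [Field K] [Field L] [Algebra k K] [Algebra k L] [Algebra K L]
  [IsScalarTower k K L] {ι : Type u} [Fintype ι] (B : Module.Basis ι k L)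
  {σ : Type u} [Fintype σ] [DecidableEq σ] (β : Module.Basis σ K L)

/-- The norm form of a tower over a `k`-algebra. -/
noncomputable def towerForm (R : Type u) [CommRing R] [Algebra k R] (c : ι → R) : R ⊗[k] K :=
  (∑ m, algebraMap R (R ⊗[k] K) (c m) • (Algebra.leftMulMatrix β (B m)).map
    (Algebra.TensorProduct.includeRight (R := k) (A := R) (B := K))).det

/-- The extension of scalars of a functional. -/
noncomputable def extFun (R : Type u) [CommRing R] [Algebra k R] (φ : K →ₗ[k] k) : R ⊗[k] K →ₗ[R] R :=
  (AlgebraTensorModule.rid k R R).toLinearMap ∘ₗ AlgebraTensorModule.map LinearMap.id φ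

omit [Algebra k L] [Algebra K L] [IsScalarTower k K L] in
theorem extFun_tmul (R : Type u) [CommRing R] [Algebra k R] (φ : K →ₗ[k] k) (r : R) (y : K) :
    extFun R φ (r ⊗ₜ[k] y) = r * algebraMap k R (φ y) := by
  simp [extFun, Algebra.smul_def, mul_comm]

/-- The basis of `R ⊗ L` over `R ⊗ K` induced by a basis of `L` over `K`. -/
theorem exists_tower_basis (R : Type u) [CommRing R] [Algebra k R] :
    letI := (Algebra.TensorProduct.map (AlgHom.id k R) (IsScalarTower.toAlgHom k K L)).toRingHom.toAlgebra
    ∃ b : Module.Basis σ (R ⊗[k] K) (R ⊗[k] L), ∀ j, b j = (1 : R) ⊗ₜ[k] β j := by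
  letI := (Algebra.TensorProduct.map (AlgHom.id k R) (IsScalarTower.toAlgHom k K L)).toRingHom.toAlgebra
  let Φ : (σ → R ⊗[k] K) →ₗ[R ⊗[k] K] R ⊗[k] L :=
    Fintype.linearCombination (R ⊗[k] K) fun j => (1 : R) ⊗ₜ[k] β j
  let e : (σ → R ⊗[k] K) ≃ₗ[k] R ⊗[k] L :=
    (TensorProduct.piRight k k R fun _ : σ => K).symm.trans
      (TensorProduct.congr (LinearEquiv.refl k R) (β.equivFun.restrictScalars k).symm)
  have h : ∀ f, Φ f = e f := by
    intro f
    obtain ⟨z, rfl⟩ := (TensorProduct.piRight k k R fun _ : σ => K).surjective f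
    induction z using TensorProduct.induction_on with
    | zero => simp
    | add a b ha hb => simp only [map_add, ha, hb]
    | tmul r g =>
      rw [show e ((TensorProduct.piRight k k R fun _ : σ => K) (r ⊗ₜ[k] g)) = r ⊗ₜ[k] β.equivFun.symm g by simp [e],
        show Φ ((TensorProduct.piRight k k R fun _ : σ => K) (r ⊗ₜ[k] g)) = ∑ j, (r ⊗ₜ[k] g j) • ((1 : R) ⊗ₜ[k] β j) by
          simp [Φ, Fintype.linearCombination_apply],
        Module.Basis.equivFun_symm_apply, TensorProduct.tmul_sum]
      refine Finset.sum_congr rfl fun j _ => ?_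
      show Algebra.TensorProduct.map (AlgHom.id k R) (IsScalarTower.toAlgHom k K L) (r ⊗ₜ[k] g j) * _ = _
      rw [Algebra.TensorProduct.map_tmul, Algebra.TensorProduct.tmul_mul_tmul, mul_one, Algebra.smul_def]
      rfl
  let E := LinearEquiv.ofBijective Φ (by rw [show ⇑Φ = ⇑e from funext h]; exact e.bijective)
  refine ⟨Module.Basis.ofEquivFun E.symm, fun j => ?_⟩
  rw [Module.Basis.coe_ofEquivFun]
  show Φ (Pi.single j 1) = _
  simp [Φ, Fintype.linearCombination_apply_single]

theorem norm_eq_towerForm (R : Type u) [CommRing R] [Algebra k R] (x : R ⊗[k] L) :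
    letI := (Algebra.TensorProduct.map (AlgHom.id k R) (IsScalarTower.toAlgHom k K L)).toRingHom.toAlgebra
    Algebra.norm (R ⊗[k] K) x = towerForm B β R fun i => (Algebra.TensorProduct.basis R B).repr x i := by
  letI := (Algebra.TensorProduct.map (AlgHom.id k R) (IsScalarTower.toAlgHom k K L)).toRingHom.toAlgebra
  obtain ⟨b, hb⟩ := exists_tower_basis (k := k) β R
  have hM : ∀ l : L, Algebra.leftMulMatrix b ((1 : R) ⊗ₜ[k] l) =
      (Algebra.leftMulMatrix β l).map (Algebra.TensorProduct.includeRight (R := k) (A := R) (B := K)) := by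
    intro l
    ext i j
    rw [Algebra.leftMulMatrix_eq_repr_mul, Matrix.map_apply, Algebra.leftMulMatrix_eq_repr_mul, hb,
      Algebra.TensorProduct.tmul_mul_tmul, one_mul]
    have h1 : (1 : R) ⊗ₜ[k] (l * β j) = ∑ m, ((1 : R) ⊗ₜ[k] β.repr (l * β j) m) • b m := by
      conv_lhs => rw [← β.sum_repr (l * β j)]
      rw [TensorProduct.tmul_sum]
      refine Finset.sum_congr rfl fun m _ => ?_
      rw [hb]
      show _ = Algebra.TensorProduct.map (AlgHom.id k R) (IsScalarTower.toAlgHom k K L) _ * _
      rw [Algebra.TensorProduct.map_tmul, Algebra.TensorProduct.tmul_mul_tmul, Algebra.smul_def]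
      simp
    rw [h1, Module.Basis.repr_sum_self]
    rfl
  rw [Algebra.norm_eq_matrix_det b, towerForm]
  congr 1
  have hsm : ∀ (r : R) (y : R ⊗[k] L), r • y = algebraMap R (R ⊗[k] K) r • y := fun r y => by
    show r • y = Algebra.TensorProduct.map (AlgHom.id k R) (IsScalarTower.toAlgHom k K L) (r ⊗ₜ[k] (1 : K)) * y
    rw [Algebra.TensorProduct.map_tmul, map_one, Algebra.smul_def]
    rfl
  conv_lhs => rw [← (Algebra.TensorProduct.basis R B).sum_repr x]
  simp only [map_sum]
  refine Finset.sum_congr rfl fun i _ => ?_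
  rw [hsm, map_smul, Algebra.TensorProduct.basis_apply, hM]


theorem towerForm_algebraMap (R : Type u) [CommRing R] [Algebra k R] (z : L) :
    towerForm B β R (fun i => algebraMap k R (B.repr z i)) = (1 : R) ⊗ₜ[k] Algebra.norm K z := by
  show _ = Algebra.TensorProduct.includeRight (R := k) (A := R) (B := K) (Algebra.norm K z)
  rw [Algebra.norm_eq_matrix_det β, AlgHom.map_det, towerForm]
  congr 1
  have h : Algebra.leftMulMatrix β z = ∑ i, algebraMap k K (B.repr z i) • Algebra.leftMulMatrix β (B i) := by
    conv_lhs => rw [← B.sum_repr z]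
    rw [map_sum]
    refine Finset.sum_congr rfl fun i _ => ?_
    rw [← IsScalarTower.algebraMap_smul K (B.repr z i) (B i), map_smul]
  rw [h, map_sum]
  refine Finset.sum_congr rfl fun i _ => ?_
  ext a b
  simp [← IsScalarTower.algebraMap_apply, Algebra.TensorProduct.algebraMap_apply]
  rw [Algebra.algebraMap_eq_smul_one, TensorProduct.smul_tmul']

omit [IsScalarTower k K L] in
theorem continuous_extFun_towerForm (R : Type u) [CommRing R] [Algebra k R] [TopologicalSpace R] [IsTopologicalRing R]
    [Module.Finite k K] (φ : K →ₗ[k] k) (r₀ : R ⊗[k] K) :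
    Continuous fun c => extFun R φ (r₀ * towerForm B β R c) := by
  let τ : TopologicalSpace (R ⊗[k] K) := moduleTopology R _
  have : IsModuleTopology R (R ⊗[k] K) := ⟨rfl⟩
  have : IsTopologicalRing (R ⊗[k] K) := IsModuleTopology.isTopologicalRing R _
  have h1 : Continuous (algebraMap R (R ⊗[k] K)) :=
    IsModuleTopology.continuous_of_linearMap (Algebra.linearMap R (R ⊗[k] K))
  refine (IsModuleTopology.continuous_of_linearMap (extFun R φ)).comp (continuous_const.mul ?_)
  unfold towerForm
  refine Continuous.matrix_det (continuous_finsetSum _ fun m _ => ?_)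
  exact ((h1.comp (continuous_apply m))).smul continuous_const

end Groth.Agent.NF31
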