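import Groth.Agent.NF31.Congr
import Groth.Agent.NF31.TowerNorm

/-! Compactness of the local integers; units are exact norms in the completions. -/

set_option autoImplicit false

universe u

open NumberField IsDedekindDomain TensorProduct WithZero Filter Topology

namespace Groth.Agent.NF31

variable {k : Type u} [Field k] [NumberField k] (v : HeightOneSpectrum (𝓞 k))

theorem exists_exp_lt_subset {s : Set (v.adicCompletion k)} {x : v.adicCompletion k} (hs : s ∈ 𝓝 x) :
    ∃ M : ℕ, ∀ y, Valued.v (y - x) < exp (-(M : ℤ)) → y ∈ s := by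
  obtain ⟨γ, hγ⟩ := Valued.mem_nhds.1 hs
  have hne : MonoidWithZeroHom.ValueGroup₀.embedding γ.1 ≠ 0 := (_root_.map_ne_zero _).2 γ.ne_zero
  obtain ⟨m, hm⟩ := WithZero.ne_zero_iff_exists.1 hne
  refine ⟨(-Multiplicative.toAdd m).toNat, fun y hy => hγ ?_⟩
  rw [Set.mem_ofPred_eq, Valuation.restrict_lt_iff_lt_embedding, ← hm]
  refine hy.trans_le ?_
  show _ ≤ exp (Multiplicative.toAdd m)
  rw [exp_le_exp]
  omega

theorem isOpen_lt_exp (M : ℕ) : IsOpen {y : v.adicCompletion k | Valued.v y < exp (-(M : ℤ))} := by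
  refine isOpen_iff_mem_nhds.2 fun x hx => Valued.mem_nhds.2 ?_
  obtain ⟨π, hπ⟩ := v.valuation_exists_uniformizer k
  have h0 : (Valued.v.restrict (algebraMap k (v.adicCompletion k) (π ^ M)) :
      MonoidWithZeroHom.ValueGroup₀ (.ofClass (Valued.v (R := v.adicCompletion k)))) ≠ 0 := by
    intro h
    have h1 : MonoidWithZeroHom.ValueGroup₀.embedding (Valued.v.restrict (algebraMap k (v.adicCompletion k) (π ^ M))) = 0 := by
      rw [h, map_zero]
    rw [Valuation.embedding_restrict, valued_algebraMap, map_pow, hπ] at h1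
    exact pow_ne_zero _ exp_ne_zero h1
  refine ⟨Units.mk0 _ h0, fun y hy => ?_⟩
  rw [Set.mem_ofPred_eq, Units.val_mk0, Valuation.restrict_lt_iff, valued_algebraMap, map_pow, hπ, ← exp_nsmul,
    nsmul_eq_mul, mul_neg_one] at hy
  show Valued.v y < _
  rw [← sub_add_cancel y x]
  exact Valuation.map_add_lt _ hy hx

theorem isCompact_integers : IsCompact {y : v.adicCompletion k | Valued.v y ≤ 1} := by
  have hcl : IsClosed {y : v.adicCompletion k | Valued.v y ≤ 1} := Valued.isClosed_integer (v.adicCompletion k)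
  refine (totallyBounded_iff_subset_finite_iUnion_nhds_zero.2 fun U hU => ?_ : TotallyBounded _).isCompact_of_isClosed hcl
  obtain ⟨M, hM⟩ := exists_exp_lt_subset v hU
  let I := v.asIdeal ^ (M + 1)
  have : Finite (𝓞 k ⧸ I) := Ideal.finiteQuotientOfFreeOfNeBot I (pow_ne_zero _ v.ne_bot)
  refine ⟨Set.range fun c : 𝓞 k ⧸ I => algebraMap k (v.adicCompletion k) (Quotient.out c : 𝓞 k),
    Set.finite_range _, fun x hx => ?_⟩
  obtain ⟨_, hy, y, rfl⟩ := (HeightOneSpectrum.denseRange_algebraMap (K := k) v).inter_open_nonempty _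
    ((isOpen_lt_exp v M).preimage (continuous_id.sub continuous_const : Continuous fun y => y - x)) ⟨x, show Valued.v (x - x) < exp (-(M : ℤ)) by rw [sub_self, map_zero]; exact exp_pos⟩
  change Valued.v (algebraMap k (v.adicCompletion k) y - x) < _ at hy
  have hy1 : v.valuation k y ≤ 1 := by
    rw [← valued_algebraMap v, ← sub_add_cancel (algebraMap k (v.adicCompletion k) y) x]
    refine Valuation.map_add_le _ (hy.le.trans ?_) hx
    rw [← exp_zero, exp_le_exp]; omega
  obtain ⟨n, hn⟩ := v.exists_valuation_sub_lt_of_integer hy1 (Units.mk0 (exp (-(M : ℤ))) exp_ne_zero)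
  refine Set.mem_iUnion₂.2 ⟨_, ⟨Ideal.Quotient.mk I n, rfl⟩, ?_⟩
  rw [Set.mem_vadd_set_iff_neg_vadd_mem]
  refine hM _ ?_
  set r : 𝓞 k := Quotient.out (Ideal.Quotient.mk I n) with hr
  have hrn : v.valuation k ((n : k) - (r : k)) < exp (-(M : ℤ)) := by
    have hmem : n - r ∈ I := Ideal.Quotient.eq.1 (Quotient.out_eq (Ideal.Quotient.mk I n)).symm
    rw [← map_sub, HeightOneSpectrum.valuation_of_algebraMap]
    refine ((v.intValuation_le_pow_iff_mem _ _).2 hmem).trans_lt ?_
    rw [exp_lt_exp]; omega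
  rw [sub_zero, vadd_eq_add, show -algebraMap k (v.adicCompletion k) (r : k) + x =
    algebraMap k (v.adicCompletion k) ((n : k) - r) - algebraMap k _ ((n : k) - y) -
      (algebraMap k (v.adicCompletion k) y - x) by rw [map_sub, map_sub]; ring]
  refine Valuation.map_sub_lt _ (Valuation.map_sub_lt _ ?_ ?_) hy
  · rw [valued_algebraMap]; exact hrn
  · rw [valued_algebraMap]; exact hn

theorem isCompact_le_exp (C : ℕ) : IsCompact {y : v.adicCompletion k | Valued.v y ≤ exp (C : ℤ)} := by
  obtain ⟨π, hπ⟩ := v.valuation_exists_uniformizer k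
  have hC : Valued.v (algebraMap k (v.adicCompletion k) (π ^ C)⁻¹) = exp (C : ℤ) := by
    rw [valued_algebraMap, map_inv₀, map_pow, hπ, ← exp_nsmul, ← exp_neg, nsmul_eq_mul, mul_neg_one, neg_neg]
  convert (isCompact_integers v).image (continuous_const_mul (algebraMap k (v.adicCompletion k) (π ^ C)⁻¹)) using 1
  have hne : algebraMap k (v.adicCompletion k) (π ^ C)⁻¹ ≠ 0 := fun h => by
    rw [h, map_zero] at hC; exact exp_ne_zero hC.symm
  ext y
  simp only [Set.mem_ofPred_eq, Set.mem_image]
  constructor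
  · intro hy
    refine ⟨(algebraMap k (v.adicCompletion k) (π ^ C)⁻¹)⁻¹ * y, ?_, mul_inv_cancel_left₀ hne y⟩
    rw [map_mul, map_inv₀, hC, inv_mul_le_one₀ exp_pos]; exact hy
  · rintro ⟨z, hz, rfl⟩
    rw [map_mul, hC]
    exact mul_le_of_le_one_right' hz

/-- Coordinates of elements integral over the place are bounded. -/
theorem exists_coord_bound {L : Type u} [Field L] [NumberField L] [Algebra k L] {ι : Type u} [Fintype ι]
    (B : Module.Basis ι k L) :
    ∃ C : ℕ, ∀ (m : ι) (z : L), (∀ Q : HeightOneSpectrum (𝓞 L), Q.asIdeal.LiesOver v.asIdeal → Q.valuation L z ≤ 1) →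
      v.valuation k (B.coord m z) ≤ exp (C : ℤ) := by
  classical
  obtain ⟨G, hG⟩ := Module.Finite.fg_top (R := ℤ) (M := 𝓞 L)
  let f : ι × 𝓞 L → ℕ := fun p => (WithZero.log (v.valuation k (B.coord p.1 (p.2 : L)))).toNat
  refine ⟨(Finset.univ ×ˢ G).sum f, fun m z hz => valuation_fun_le (B.coord m) G hG v (fun g hg => ?_) hz⟩
  have h : f (m, g) ≤ (Finset.univ ×ˢ G).sum f := Finset.single_le_sum_of_canonicallyOrdered
    (Finset.mem_product.2 ⟨Finset.mem_univ m, hg⟩)
  generalize (Finset.univ ×ˢ G).sum f = C at h ⊢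
  change (WithZero.log (v.valuation k (B.coord m (g : L)))).toNat ≤ C at h
  rcases eq_or_ne (v.valuation k (B.coord m (g : L))) 0 with h0 | h0
  · rw [h0]; exact zero_le
  · rw [← exp_log h0, exp_le_exp]
    omega

variable {K : Type u} [Field K] [NumberField K] [Algebra k K] {L : Type u} [Field L] [NumberField L] [Algebra K L]
  [Algebra k L] [IsScalarTower k K L]

omit [Algebra k L] [IsScalarTower k K L] [NumberField k] in
/-- Simultaneous approximation by norms of elements integral over the place. -/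
theorem exists_norm_close_integral
    (hur : ∀ W : HeightOneSpectrum (𝓞 K), W.asIdeal.LiesOver v.asIdeal → IsUnramifiedIn W L) {b : K}
    (hb : ∀ W : HeightOneSpectrum (𝓞 K), W.asIdeal.LiesOver v.asIdeal → W.valuation K b = 1) (M : ℕ) :
    ∃ z : L, (∀ W : HeightOneSpectrum (𝓞 K), W.asIdeal.LiesOver v.asIdeal →
      W.valuation K (Algebra.norm K z - b) ≤ exp (-(M : ℤ))) ∧
      ∀ W : HeightOneSpectrum (𝓞 K), W.asIdeal.LiesOver v.asIdeal → ∀ Q : HeightOneSpectrum (𝓞 L),
        Q.asIdeal.LiesOver W.asIdeal → Q.valuation L z ≤ 1 := by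
  classical
  have hz : ∀ W : HeightOneSpectrum (𝓞 K), ∃ z : L, W.asIdeal.LiesOver v.asIdeal →
      z ∈ locInt W L ∧ W.valuation K (Algebra.norm K z - b) ≤ exp (-(M : ℤ)) := fun W => by
    by_cases hW : W.asIdeal.LiesOver v.asIdeal
    · obtain ⟨z, hz⟩ := exists_norm_sub_le W (hur W hW) (hb W hW) M
      exact ⟨z, fun _ => hz⟩
    · exact ⟨0, fun h => absurd h hW⟩
  choose zf hzf using hz
  have hQ := finite_setOf_under (K := L) (finite_setOf_under (K := K) ({v} : Finset (HeightOneSpectrum (𝓞 k)))).toFinset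
  obtain ⟨Q₀, hQ₀, -⟩ := exists_root_mod (Polynomial.X : Polynomial (𝓞 L))
    (by rw [Polynomial.natDegree_X]; exact one_pos) hQ.toFinset
  obtain ⟨z, hz, -, -⟩ := exists_approx Q₀ hQ.toFinset hQ₀ (fun Q => zf (Q.under (𝓞 K))) M 0 one_pos
  have hnear : ∀ W : HeightOneSpectrum (𝓞 K), W.asIdeal.LiesOver v.asIdeal → ∀ Q : HeightOneSpectrum (𝓞 L),
      Q.asIdeal.LiesOver W.asIdeal → Q.valuation L (z - zf W) ≤ exp (-(M : ℤ)) := fun W hW Q hQW => by
    have hWQ : W = Q.under (𝓞 K) := eq_under Q
    rw [hWQ]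
    refine hz Q (hQ.mem_toFinset.2 ?_)
    simp only [Set.mem_ofPred_eq, ← hWQ, Set.Finite.mem_toFinset]
    exact Finset.mem_singleton.2 (eq_under (v := v) W).symm
  refine ⟨z, fun W hW => ?_, fun W hW Q hQW => ?_⟩
  · rw [show Algebra.norm K z - b = (Algebra.norm K z - Algebra.norm K (zf W)) + (Algebra.norm K (zf W) - b) by ring]
    exact (W.valuation K).map_add_le (norm_sub_norm_le W (hur W hW) (hzf W hW).1 M (hnear W hW)) (hzf W hW).2
  · rw [← sub_add_cancel z (zf W)]
    refine (Q.valuation L).map_add_le ((hnear W hW Q hQW).trans ?_) (valuation_le_one_of_mem W (hzf W hW).1 Q)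
    rw [← exp_zero, exp_le_exp]; omega

/-- Units at an unramified place are norms in the completion. -/
theorem exists_tensor_norm_eq
    (hur : ∀ W : HeightOneSpectrum (𝓞 K), W.asIdeal.LiesOver v.asIdeal → IsUnramifiedIn W L) {b : K} (hb0 : b ≠ 0)
    (hb : ∀ W : HeightOneSpectrum (𝓞 K), W.asIdeal.LiesOver v.asIdeal → W.valuation K b = 1) :
    letI := (Algebra.TensorProduct.map (AlgHom.id k (v.adicCompletion k))
      (IsScalarTower.toAlgHom k K L)).toRingHom.toAlgebra
    ∃ x : (v.adicCompletion k) ⊗[k] L, IsUnit x ∧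
      Algebra.norm ((v.adicCompletion k) ⊗[k] K) x = (1 : v.adicCompletion k) ⊗ₜ[k] b := by
  classical
  let alg := (Algebra.TensorProduct.map (AlgHom.id k (v.adicCompletion k))
    (IsScalarTower.toAlgHom k K L)).toRingHom.toAlgebra
  have : FiniteDimensional k K := FiniteDimensional.right ℚ k K
  have : FiniteDimensional k L := FiniteDimensional.right ℚ k L
  have : FiniteDimensional K L := FiniteDimensional.right ℚ K L
  let R := v.adicCompletion k
  let B := Module.Free.chooseBasis k L
  let β := Module.Free.chooseBasis K L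
  let E := Module.Free.chooseBasis k K
  obtain ⟨C, hC⟩ := exists_coord_bound v B
  let F : (Module.Free.ChooseBasisIndex k L → R) → (Module.Free.ChooseBasisIndex k K → R) := fun c l =>
    extFun R (E.coord l) (towerForm B β R c)
  have hF : Continuous F := continuous_pi fun l => by
    simpa [F] using continuous_extFun_towerForm B β R (E.coord l) 1
  let box := Set.univ.pi fun _ : Module.Free.ChooseBasisIndex k L => {y : R | Valued.v y ≤ exp (C : ℤ)}
  have hbox : IsCompact box := isCompact_univ_pi fun _ => isCompact_le_exp v C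
  have hmem : (fun l => algebraMap k R (E.coord l b)) ∈ F '' box := by
    rw [← (hbox.image hF).isClosed.closure_eq, mem_closure_iff_nhds]
    intro s hs
    obtain ⟨I, t, ht, hts⟩ := Filter.mem_pi'.1 (nhds_pi (A := fun _ : Module.Free.ChooseBasisIndex k K => R) ▸ hs)
    choose N hN using fun l => exists_exp_lt_subset v (ht l)
    obtain ⟨π, hπ⟩ := v.valuation_exists_uniformizer k
    choose M hM using fun l => exists_small_bound (K := K) ((π ^ N l)⁻¹ • E.coord l) v
    obtain ⟨z, hz, hzint⟩ := exists_norm_close_integral v hur hb (Finset.univ.sup M)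
    refine ⟨F fun m => algebraMap k R (B.repr z m), hts ?_, _, fun m _ => ?_, rfl⟩
    · intro l _
      refine hN l _ ?_
      show Valued.v (extFun R (E.coord l) (towerForm B β R _) - _) < _
      rw [towerForm_algebraMap, extFun_tmul, one_mul, ← map_sub, valued_algebraMap, ← map_sub]
      have h := hM l (Algebra.norm K z - b) fun W hW => (hz W hW).trans (exp_le_exp.2 (by
        have := Finset.le_sup (f := M) (Finset.mem_univ l)
        omega))
      rw [LinearMap.smul_apply, smul_eq_mul, map_mul, map_inv₀, map_pow, hπ, ← exp_nsmul,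
        inv_mul_lt_iff₀ exp_pos, mul_one, nsmul_eq_mul, mul_neg_one] at h
      exact h
    · show Valued.v (algebraMap k R (B.coord m z)) ≤ _
      rw [valued_algebraMap]
      refine hC m z fun Q hQ => ?_
      have := liesOver_under (k := K) Q
      have hW : (Q.under (𝓞 K)).asIdeal.LiesOver v.asIdeal :=
        Ideal.LiesOver.tower_bot Q.asIdeal (Q.under (𝓞 K)).asIdeal v.asIdeal
      exact hzint _ hW Q inferInstance
  obtain ⟨c, -, hc⟩ := hmem
  let x : R ⊗[k] L := (Algebra.TensorProduct.basis R B).equivFun.symm c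
  have hx : Algebra.norm (R ⊗[k] K) x = (1 : R) ⊗ₜ[k] b := by
    rw [norm_eq_towerForm B β R x,
      show (fun i => (Algebra.TensorProduct.basis R B).repr x i) = c from
        (Algebra.TensorProduct.basis R B).equivFun.apply_symm_apply c]
    refine (Algebra.TensorProduct.basis R E).repr.injective (Finsupp.ext fun l => ?_)
    have hext : ∀ y : R ⊗[k] K, (Algebra.TensorProduct.basis R E).repr y l = extFun R (E.coord l) y := by
      intro y
      induction y using TensorProduct.induction_on with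
      | zero => simp
      | add a b ha hb => simp [map_add, ha, hb]
      | tmul r z => rw [Algebra.TensorProduct.basis_repr_tmul, extFun_tmul]; simp
    rw [hext, hext, extFun_tmul, one_mul]
    exact congrFun hc l
  refine ⟨x, ?_, hx⟩
  obtain ⟨bb, -⟩ := exists_tower_basis (k := k) β R
  have hu : IsUnit (Algebra.norm (R ⊗[k] K) x) := by
    rw [hx]
    exact (isUnit_iff_ne_zero.2 hb0).map (Algebra.TensorProduct.includeRight (R := k) (A := R) (B := K))
  rw [Algebra.norm_eq_matrix_det bb, ← Matrix.isUnit_iff_isUnit_det] at hu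
  obtain ⟨y, hy⟩ := hu.exists_right_inv
  have h1 : Algebra.lmul (R ⊗[k] K) (R ⊗[k] L) x ∘ₗ Matrix.toLin bb bb y = LinearMap.id := by
    rw [← Matrix.toLin_toMatrix bb bb (Algebra.lmul (R ⊗[k] K) (R ⊗[k] L) x), ← Matrix.toLin_mul,
      ← Algebra.leftMulMatrix_apply, hy, Matrix.toLin_one]
  exact IsUnit.of_mul_eq_one _ (LinearMap.congr_fun h1 1)

end Groth.Agent.NF31
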