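import Groth.Agent.NF31.UnitNorm
import Mathlib.RingTheory.Finiteness.Cardinality

/-! Simultaneous approximation of units by norms; size of linear functionals. -/

set_option autoImplicit false

universe u

open NumberField IsDedekindDomain TensorProduct WithZero

namespace Groth.Agent.NF31

variable {k : Type u} [Field k] [NumberField k] {K : Type u} [Field K] [NumberField K] [Algebra k K]

omit [NumberField k] in
theorem finite_setOf_under (S : Finset (HeightOneSpectrum (𝓞 k))) :
    {W : HeightOneSpectrum (𝓞 K) | W.under (𝓞 k) ∈ S}.Finite := by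
  obtain ⟨D, hD, hD'⟩ := exists_notMem S
  exact (finite_setOf_mem (k := K) (D := algebraMap (𝓞 k) (𝓞 K) D)
    ((map_ne_zero_iff _ (FaithfulSMul.algebraMap_injective (𝓞 k) (𝓞 K))).2 hD)).subset fun W hW => hD' _ hW

theorem valuation_fun_le (φ : K →ₗ[k] k) (G : Finset (𝓞 K)) (hG : Submodule.span ℤ (G : Set (𝓞 K)) = ⊤)
    (v : HeightOneSpectrum (𝓞 k)) {c : WithZero (Multiplicative ℤ)} (hc : ∀ g ∈ G, v.valuation k (φ (g : K)) ≤ c)
    {y : K} (hy : ∀ W : HeightOneSpectrum (𝓞 K), W.asIdeal.LiesOver v.asIdeal → W.valuation K y ≤ 1) :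
    v.valuation k (φ y) ≤ c := by
  obtain ⟨r, hr, y', hy'⟩ := exists_mul_mem_integers v hy
  have h1 : ∀ g : 𝓞 K, v.valuation k (φ (g : K)) ≤ c := fun g => by
    have hg : g ∈ Submodule.span ℤ (G : Set (𝓞 K)) := hG ▸ Submodule.mem_top
    induction hg using Submodule.span_induction with
    | mem x hx => exact hc x hx
    | zero => simp only [map_zero, zero_le]
    | add a b _ _ ha hb =>
      simp only [map_add]
      exact (v.valuation k).map_add_le ha hb
    | smul n a _ ha =>
      rw [show ((n • a : 𝓞 K) : K) = algebraMap k K (n : k) * (a : K) by simp [zsmul_eq_mul],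
        ← Algebra.smul_def, map_smul, smul_eq_mul, map_mul]
      refine le_trans (mul_le_of_le_one_left' ?_) ha
      have h := HeightOneSpectrum.valuation_le_one (K := k) v (n : 𝓞 k)
      simp only [map_intCast] at h
      exact h
  have h2 := h1 y'
  rw [hy', ← Algebra.smul_def, map_smul, smul_eq_mul, map_mul,
    (HeightOneSpectrum.valuation_eq_one_iff_notMem (K := k) (v := v)).2 hr, one_mul] at h2
  exact h2

/-- Linear functionals are small on elements small at every place over `v`. -/
theorem exists_small_bound (φ : K →ₗ[k] k) (v : HeightOneSpectrum (𝓞 k)) :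
    ∃ M : ℕ, ∀ y : K, (∀ W : HeightOneSpectrum (𝓞 K), W.asIdeal.LiesOver v.asIdeal →
      W.valuation K y ≤ exp (-(M : ℤ))) → v.valuation k (φ y) < 1 := by
  classical
  obtain ⟨G, hG⟩ := Module.Finite.fg_top (R := ℤ) (M := 𝓞 K)
  obtain ⟨π, hπ⟩ := v.valuation_exists_uniformizer k
  have hπ0 : π ≠ 0 := fun h => by rw [h, map_zero] at hπ; exact exp_ne_zero hπ.symm
  let C : ℕ := G.sum fun g => if h : v.valuation k (φ (g : K)) = 0 then 0 else
    (Multiplicative.toAdd (unzero h)).toNat
  have hC : ∀ g ∈ G, v.valuation k (φ (g : K)) ≤ exp (C : ℤ) := fun g hg => by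
    by_cases h0 : v.valuation k (φ (g : K)) = 0
    · rw [h0]; exact zero_le
    · rw [← coe_unzero h0]
      show exp (Multiplicative.toAdd (unzero h0)) ≤ _
      rw [exp_le_exp]
      have h := Finset.single_le_sum (f := fun g : 𝓞 K => if h : v.valuation k (φ (g : K)) = 0 then 0 else
        (Multiplicative.toAdd (unzero h)).toNat) (fun _ _ => Nat.zero_le _) hg
      rw [dif_neg h0] at h
      exact (Int.self_le_toNat _).trans (Int.ofNat_le.2 h)
  have hfin : {W : HeightOneSpectrum (𝓞 K) | W.asIdeal.LiesOver v.asIdeal}.Finite :=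
    (finite_setOf_under ({v} : Finset (HeightOneSpectrum (𝓞 k)))).subset fun W hW => by
      have : W.asIdeal.LiesOver v.asIdeal := hW
      exact Finset.mem_singleton.2 (eq_under (v := v) W).symm
  let e : HeightOneSpectrum (𝓞 K) → ℕ := fun W => v.asIdeal.ramificationIdx' W.asIdeal
  refine ⟨hfin.toFinset.sum fun W => (C + 1) * e W, fun y hy => ?_⟩
  have h1 : v.valuation k (φ (algebraMap k K (π ^ (C + 1))⁻¹ * y)) ≤ exp (C : ℤ) := by
    refine valuation_fun_le φ G hG v hC fun W hW => ?_
    have hle : (C + 1) * e W ≤ hfin.toFinset.sum fun W => (C + 1) * e W :=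
      Finset.single_le_sum (f := fun W => (C + 1) * e W) (fun _ _ => Nat.zero_le _) (hfin.mem_toFinset.2 hW)
    rw [map_mul, map_inv₀, map_inv₀, ← HeightOneSpectrum.valuation_liesOver (K := k) (L := K) v W, map_pow, hπ,
      ← pow_mul, ← exp_nsmul, inv_mul_le_one₀ exp_pos]
    refine (hy W hW).trans (exp_le_exp.2 ?_)
    rw [nsmul_eq_mul, mul_neg_one, neg_le_neg_iff]
    exact Int.ofNat_le.2 hle
  rw [← Algebra.smul_def, map_smul, smul_eq_mul, map_mul, map_inv₀, map_pow, hπ, ← exp_nsmul,
    inv_mul_le_iff₀ exp_pos, ← exp_add] at h1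
  refine h1.trans_lt ?_
  rw [← exp_zero, exp_lt_exp, nsmul_eq_mul]
  push_cast
  omega

variable {L : Type u} [Field L] [NumberField L] [Algebra K L]

/-- Norms are continuous at an unramified place. -/
theorem norm_sub_norm_le (W : HeightOneSpectrum (𝓞 K)) (hur : IsUnramifiedIn W L) {z z' : L} (hz : z ∈ locInt W L)
    (M : ℕ) (h : ∀ Q : HeightOneSpectrum (𝓞 L), Q.asIdeal.LiesOver W.asIdeal → Q.valuation L (z' - z) ≤ exp (-(M : ℤ))) :
    W.valuation K (Algebra.norm K z' - Algebra.norm K z) ≤ exp (-(M : ℤ)) := by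
  classical
  have : FiniteDimensional K L := FiniteDimensional.right ℚ K L
  have : Module.Finite (locRing W) (locInt W L) := IsIntegralClosure.finite (locRing W) K L _
  have : Module.Free (locRing W) (locInt W L) := Module.free_of_finite_type_torsion_free'
  have : IsLocalization (Algebra.algebraMapSubmonoid (locInt W L) (nonZeroDivisors (locRing W))) L :=
    IsIntegralClosure.isLocalization (locRing W) K L (locInt W L)
  have hnorm : ∀ s : locInt W L, Algebra.norm K (s : L) = ((Algebra.norm (locRing W) s : locRing W) : K) := fun s =>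
    Algebra.norm_localization (locRing W) (nonZeroDivisors (locRing W)) s
  obtain ⟨π₀, hπ₀⟩ := W.valuation_exists_uniformizer K
  have hπ0 : π₀ ≠ 0 := fun h => by rw [h, map_zero] at hπ₀; exact exp_ne_zero hπ₀.symm
  let π : locRing W := ⟨π₀, show W.valuation K π₀ ≤ 1 by rw [hπ₀, ← exp_zero, exp_le_exp]; omega⟩
  let y : L := (algebraMap K L (π₀ ^ M))⁻¹ * (z' - z)
  have hy : y ∈ locInt W L := mem_locInt_of_forall W fun Q hQ => by
    rw [map_mul, map_inv₀, ← HeightOneSpectrum.valuation_liesOver (K := K) (L := L) W Q,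
      Ideal.ramificationIdx'_eq_ramificationIdx W.asIdeal Q.asIdeal W.ne_bot, hur Q hQ, pow_one, map_pow, hπ₀,
      ← exp_nsmul, inv_mul_le_one₀ exp_pos]
    refine (h Q hQ).trans (le_of_eq ?_)
    rw [nsmul_eq_mul, mul_neg_one]
  let s : locInt W L := ⟨z, hz⟩
  let s' : locInt W L := s + π ^ M • ⟨y, hy⟩
  have hs' : (s' : L) = z' := by
    show z + _ = z'
    rw [show ((π ^ M • (⟨y, hy⟩ : locInt W L) : locInt W L) : L) = algebraMap K L (π₀ ^ M) * y from
      Algebra.smul_def (π ^ M) y, mul_inv_cancel_left₀ ((_root_.map_ne_zero _).2 (pow_ne_zero _ hπ0))]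
    ring
  let A := locRing W ⧸ Ideal.span {π ^ M}
  have hA : algebraMap (locRing W) A (π ^ M) = 0 := Ideal.Quotient.eq_zero_iff_mem.2 (Ideal.mem_span_singleton_self _)
  have h1 : algebraMap (locRing W) A (Algebra.norm (locRing W) s') = algebraMap (locRing W) A (Algebra.norm (locRing W) s) := by
    rw [← norm_baseChange, ← norm_baseChange]
    congr 1
    rw [TensorProduct.tmul_add, TensorProduct.tmul_smul, ← algebraMap_smul A (π ^ M) ((1 : A) ⊗ₜ[locRing W] (⟨y, hy⟩ : locInt W L)),
      hA, zero_smul, add_zero]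
  rw [Ideal.Quotient.algebraMap_eq, Ideal.Quotient.eq, Ideal.mem_span_singleton] at h1
  obtain ⟨c, hc⟩ := h1
  rw [← hs', show z = (s : L) from rfl, hnorm, hnorm,
    show ((Algebra.norm (locRing W) s' : locRing W) : K) - (Algebra.norm (locRing W) s : locRing W) =
      ((Algebra.norm (locRing W) s' - Algebra.norm (locRing W) s : locRing W) : K) from rfl, hc]
  show W.valuation K (π₀ ^ M * (c : K)) ≤ _
  rw [map_mul, map_pow, hπ₀, ← exp_nsmul]
  refine le_trans (mul_le_of_le_one_right' c.2) (le_of_eq ?_)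
  rw [nsmul_eq_mul, mul_neg_one]

omit [NumberField k] in
/-- A unit at all places over `v` is a norm to any precision simultaneously at these places. -/
theorem exists_norm_close (v : HeightOneSpectrum (𝓞 k))
    (hur : ∀ W : HeightOneSpectrum (𝓞 K), W.asIdeal.LiesOver v.asIdeal → IsUnramifiedIn W L) {b : K}
    (hb : ∀ W : HeightOneSpectrum (𝓞 K), W.asIdeal.LiesOver v.asIdeal → W.valuation K b = 1) (M : ℕ) :
    ∃ z : L, ∀ W : HeightOneSpectrum (𝓞 K), W.asIdeal.LiesOver v.asIdeal →
      W.valuation K (Algebra.norm K z - b) ≤ exp (-(M : ℤ)) := by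
  classical
  have hz : ∀ W : HeightOneSpectrum (𝓞 K), ∃ z : L, W.asIdeal.LiesOver v.asIdeal →
      z ∈ locInt W L ∧ W.valuation K (Algebra.norm K z - b) ≤ exp (-(M : ℤ)) := fun W => by
    by_cases hW : W.asIdeal.LiesOver v.asIdeal
    · obtain ⟨z, hz⟩ := exists_norm_sub_le W (hur W hW) (hb W hW) M
      exact ⟨z, fun _ => hz⟩
    · exact ⟨0, fun h => absurd h hW⟩
  choose zf hzf using hz
  have hQ := finite_setOf_under (K := L) (finite_setOf_under (K := K) ({v} : Finset (HeightOneSpectrum (𝓞 k)))).toFinset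
  obtain ⟨Q₀, hQ₀, -⟩ := exists_root_mod (Polynomial.X : Polynomial (𝓞 L))
    (by rw [Polynomial.natDegree_X]; exact one_pos) hQ.toFinset
  obtain ⟨z, hz, -, -⟩ := exists_approx Q₀ hQ.toFinset hQ₀ (fun Q => zf (Q.under (𝓞 K))) M 0 one_pos
  refine ⟨z, fun W hW => ?_⟩
  have h1 := norm_sub_norm_le (z' := z) W (hur W hW) (hzf W hW).1 M fun Q hQW => by
    have hWQ : W = Q.under (𝓞 K) := eq_under Q
    rw [hWQ]
    refine hz Q (hQ.mem_toFinset.2 ?_)
    simp only [Set.mem_ofPred_eq, ← hWQ, Set.Finite.mem_toFinset]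
    exact Finset.mem_singleton.2 (eq_under (v := v) W).symm
  rw [show Algebra.norm K z - b = (Algebra.norm K z - Algebra.norm K (zf W)) + (Algebra.norm K (zf W) - b) by ring]
  exact (W.valuation K).map_add_le h1 (hzf W hW).2

end Groth.Agent.NF31
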