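import Groth.Agent.NF31.Box
import Mathlib.Algebra.Polynomial.Splits
import Mathlib.RingTheory.DedekindDomain.IntegralClosure

/-! Norms with controlled divisor, after Harpaz–Wittenberg but without Chebotarev. -/

set_option autoImplicit false

universe u

open NumberField IsDedekindDomain Polynomial

namespace Groth.Agent.NF31

variable {K : Type u} [Field K] [NumberField K] {L : Type u} [Field L] [Algebra K L] (W : HeightOneSpectrum (𝓞 K))

theorem isIntegral_combination {ι : Type*} [Fintype ι] (c : ι → K) (hc : ∀ i, W.valuation K (c i) ≤ 1)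
    (b : ι → L) (hb : ∀ i, IsIntegral ℤ (b i)) :
    IsIntegral (W.valuation K).valuationSubring (∑ i, algebraMap K L (c i) * b i) := by
  refine IsIntegral.sum _ fun i _ => IsIntegral.mul ?_ ((hb i).tower_top)
  exact isIntegral_algebraMap (x := (⟨c i, hc i⟩ : (W.valuation K).valuationSubring))

variable [FiniteDimensional K L]

theorem coeff_lt_one_of_small {x y : L} {π : K} (hπ : W.valuation K π < 1) (_hπ0 : π ≠ 0)
    (hxy : x = algebraMap K L π * y) (hy : IsIntegral (W.valuation K).valuationSubring y)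
    (hx : IntermediateField.adjoin K {x} = ⊤) {i : ℕ} (hi : i < (minpoly K x).natDegree) :
    W.valuation K ((minpoly K x).coeff i) < 1 := by
  have hxi : IsIntegral K x := Algebra.IsIntegral.isIntegral _
  have hyi : IsIntegral K y := Algebra.IsIntegral.isIntegral _
  have hy' : IntermediateField.adjoin K {y} = ⊤ := by
    refine top_le_iff.1 (hx ▸ ?_)
    rw [IntermediateField.adjoin_simple_le_iff, hxy]
    exact mul_mem (IntermediateField.algebraMap_mem _ π) (IntermediateField.mem_adjoin_simple_self K y)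
  have hdeg : (minpoly K y).natDegree = (minpoly K x).natDegree := by
    rw [((Field.primitive_element_iff_minpoly_natDegree_eq K y).1 hy'),
      ((Field.primitive_element_iff_minpoly_natDegree_eq K x).1 hx)]
  have hroot : aeval x ((minpoly K y).scaleRoots π) = 0 := by
    rw [hxy]
    exact scaleRoots_aeval_eq_zero (minpoly.aeval _ _)
  have h : minpoly K x = (minpoly K y).scaleRoots π :=
    (eq_of_monic_of_dvd_of_natDegree_le (minpoly.monic hxi) ((monic_scaleRoots_iff π).2 (minpoly.monic hyi))
      (minpoly.dvd K x hroot) (by rw [natDegree_scaleRoots, hdeg])).symm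
  rw [h, coeff_scaleRoots, map_mul, map_pow]
  refine lt_of_le_of_lt (mul_le_of_le_one_left' (valuation_coeff_le_one W hy i)) ?_
  exact pow_lt_one₀ zero_le hπ (by omega)

omit [FiniteDimensional K L] in
theorem valuation_eval_eq_one {p : K[X]} (hm : p.Monic) (hp : ∀ i < p.natDegree, W.valuation K (p.coeff i) < 1)
    {x : K} (hx : W.valuation K x = 1) : W.valuation K (p.eval x) = 1 := by
  refine valuation_eq_one_of_sub_lt W (y := x ^ p.natDegree) (by rw [map_pow, hx, one_pow]) ?_
  rw [eval_eq_sum_range, Finset.sum_range_succ, hm.coeff_natDegree, one_mul, add_sub_cancel_right]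
  refine (W.valuation K).map_sum_lt one_ne_zero fun i hi => ?_
  rw [map_mul, map_pow, hx, one_pow, mul_one]
  exact hp i (Finset.mem_range.1 hi)

variable {k : Type u} [Field k] [NumberField k] [Algebra k K]

omit [NumberField K] [NumberField k] in
theorem eq_under {v : HeightOneSpectrum (𝓞 k)} [h : W.asIdeal.LiesOver v.asIdeal] : v = W.under (𝓞 k) :=
  HeightOneSpectrum.ext h.over

omit [NumberField K] [NumberField k] in
theorem liesOver_under : W.asIdeal.LiesOver (W.under (𝓞 k)).asIdeal := ⟨rfl⟩

set_option maxHeartbeats 2000000 in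
/-- A norm with prescribed local behaviour whose divisor outside a finite set is supported on places
having an extension of degree one. -/
theorem exists_norm_near (k K L : Type u) [Field k] [NumberField k] [Field K] [NumberField K]
    [Field L] [NumberField L] [Algebra k K] [Algebra k L] [Algebra K L] [IsScalarTower k K L]
    (v₀ : HeightOneSpectrum (𝓞 k))
    (hsplit : ∀ W : HeightOneSpectrum (𝓞 K), W.asIdeal.LiesOver v₀.asIdeal → Nonempty (L →ₐ[K] W.adicCompletion K))
    (P : Finset (HeightOneSpectrum (𝓞 k))) (hv₀ : v₀ ∉ P) {ι : Type u} [Fintype ι] (B : Module.Basis ι k L)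
    (Of : (v : HeightOneSpectrum (𝓞 k)) → Set (ι → v.adicCompletion k))
    (hOf : ∀ v ∈ P, IsOpen (Of v) ∧ (Of v).Nonempty)
    (Oi : (w : InfinitePlace k) → Set (ι → w.Completion)) (hOi : ∀ w, IsOpen (Oi w) ∧ (Oi w).Nonempty)
    (A : Finset K) :
    ∃ z : L, Algebra.norm K z ∉ A ∧
      (∀ v ∈ P, (fun i => algebraMap k (v.adicCompletion k) (B.repr z i)) ∈ Of v) ∧
      (∀ w : InfinitePlace k, (fun i => algebraMap k w.Completion (B.repr z i)) ∈ Oi w) ∧
      ∀ W : HeightOneSpectrum (𝓞 K), W.under (𝓞 k) ∉ P →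
        (W.under (𝓞 k) ≠ v₀ → W.valuation K (Algebra.norm K z) ≤ 1) ∧
        (W.valuation K (Algebra.norm K z) = 1 ∨ Nonempty (L →ₐ[K] W.adicCompletion K)) := by
  classical
  have : FiniteDimensional K L := FiniteDimensional.right ℚ K L
  have : FiniteDimensional k K := FiniteDimensional.right ℚ k K
  -- integral scalings
  obtain ⟨D₀, hD₀, hDB⟩ := exists_integral_multiples (𝓞 k) k (Finset.univ.image B)
  let D : k := D₀
  have hD : D ≠ 0 := fun h => hD₀ (RingOfIntegers.coe_eq_zero_iff.1 h)
  let b : ι → L := fun i => algebraMap k L D * B i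
  have hb : ∀ i, IsIntegral ℤ (b i) := fun i => by
    refine isIntegral_trans (R := ℤ) (A := 𝓞 k) (b i) ?_
    have := hDB _ (Finset.mem_image_of_mem B (Finset.mem_univ i))
    rwa [Algebra.smul_def, IsScalarTower.algebraMap_apply (𝓞 k) k L] at this
  obtain ⟨θ₀, hθ₀⟩ := Field.exists_primitive_element K L
  obtain ⟨⟨E₀, hE₀⟩, hEθ⟩ := IsLocalization.exist_integer_multiples_of_finset (nonZeroDivisors (𝓞 k))
    (Finset.univ.image fun i => B.repr θ₀ i / D)
  have hE : (E₀ : k) ≠ 0 := fun h => nonZeroDivisors.ne_zero hE₀ (RingOfIntegers.coe_eq_zero_iff.1 h)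
  let θ : ι → k := fun i => E₀ * (B.repr θ₀ i / D)
  have hθ : ∀ (v : HeightOneSpectrum (𝓞 k)) i, v.valuation k (θ i) ≤ 1 := fun v i => by
    obtain ⟨r, hr⟩ := hEθ _ (Finset.mem_image_of_mem _ (Finset.mem_univ i))
    rw [show θ i = algebraMap (𝓞 k) k r from (Algebra.smul_def E₀ _).symm.trans hr.symm]
    exact v.valuation_le_one r
  -- small places
  let small : Finset (HeightOneSpectrum (𝓞 k)) :=
    (finite_setOf_small (K := K) (Module.finrank K L)).toFinset.image fun W => W.under (𝓞 k)
  let P₁ := P ∪ small.erase v₀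
  have hv₁ : v₀ ∉ P₁ := by simp [P₁, hv₀]
  let Of₁ : (v : HeightOneSpectrum (𝓞 k)) → Set (Option ι → v.adicCompletion k) := fun v =>
    if v ∈ P then (fun x i => algebraMap k (v.adicCompletion k) D *
      (x (some i) + x none * algebraMap k (v.adicCompletion k) (θ i))) ⁻¹' Of v
    else ⋂ j, (fun x => x j) ⁻¹' {y | Valued.v y < 1}
  obtain ⟨Sol, hSol, hx⟩ := exists_pi_mem_open v₀ P₁ hv₁ Of₁ (fun v hv => by
      by_cases hvP : v ∈ P
      · rw [show Of₁ v = _ from if_pos hvP]
        obtain ⟨y, hy⟩ := (hOf v hvP).2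
        refine ⟨(hOf v hvP).1.preimage (by fun_prop), ⟨fun j => j.elim 0 fun i => (algebraMap k _ D)⁻¹ * y i, ?_⟩⟩
        rw [Set.mem_preimage]
        convert hy using 1
        funext i
        simp [hD]
      · rw [show Of₁ v = _ from if_neg hvP]
        exact ⟨isOpen_iInter_of_finite fun j => (isOpen_lt_one v).preimage (continuous_apply j),
          ⟨0, Set.mem_iInter.2 fun j => show Valued.v (0 : v.adicCompletion k) < 1 by simp⟩⟩)
    (fun w => (fun x i => algebraMap k w.Completion D * (x (some i) + x none * algebraMap k w.Completion (θ i))) ⁻¹' Oi w)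
    (fun w => by
      obtain ⟨y, hy⟩ := (hOi w).2
      refine ⟨(hOi w).1.preimage (by fun_prop), ⟨fun j => j.elim 0 fun i => (algebraMap k _ D)⁻¹ * y i, ?_⟩⟩
      rw [Set.mem_preimage]
      convert hy using 1
      funext i
      simp [hD, -InfinitePlace.Completion.algebraMap_apply])
  choose c hc using fun i => (hSol (some i)).nonempty
  -- a primitive combination
  let C : k → ι → k := fun μ i => D * (c i + μ * θ i)
  let x₀ : k → L := fun μ => B.equivFun.symm (C μ)
  let η : L := B.equivFun.symm fun i => D * θ i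
  have hη : η = algebraMap k L (E₀ : k) * θ₀ := by
    apply B.equivFun.injective
    rw [LinearEquiv.apply_symm_apply, ← Algebra.smul_def, map_smul]
    funext i
    simp [θ]
    field_simp
  have hlin : ∀ μ μ', x₀ μ - x₀ μ' = algebraMap k L (μ - μ') * η := fun μ μ' => by
    rw [← Algebra.smul_def, ← map_sub B.equivFun.symm, ← map_smul]
    congr 1
    funext i
    simp [C]
    ring
  have hbad : {μ : k | IntermediateField.adjoin K {x₀ μ} ≠ ⊤}.Finite := by
    have := Field.finite_intermediateField_of_exists_primitive_element K L (Field.exists_primitive_element K L)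
    refine Set.Finite.of_finite_image (f := fun μ => IntermediateField.adjoin K {x₀ μ}) (Set.toFinite _)
      fun μ hμ μ' _ he => ?_
    by_contra hne
    refine hμ (top_le_iff.1 (hθ₀ ▸ ?_))
    rw [IntermediateField.adjoin_simple_le_iff]
    have h1 : x₀ μ - x₀ μ' ∈ IntermediateField.adjoin K {x₀ μ} :=
      sub_mem (IntermediateField.mem_adjoin_simple_self K _)
        (by simp only at he; rw [he]; exact IntermediateField.mem_adjoin_simple_self K _)
    rw [hlin, hη, ← mul_assoc, ← map_mul, IsScalarTower.algebraMap_apply k K L] at h1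
    have h2 : algebraMap k K ((μ - μ') * (E₀ : k)) ≠ 0 := by
      rw [_root_.map_ne_zero]
      exact mul_ne_zero (sub_ne_zero.2 hne) hE
    have h3 := mul_mem (IntermediateField.algebraMap_mem (IntermediateField.adjoin K {x₀ μ})
      (algebraMap k K ((μ - μ') * (E₀ : k)))⁻¹) h1
    rwa [← mul_assoc, ← map_mul, inv_mul_cancel₀ h2, map_one, one_mul] at h3
  obtain ⟨μ, hμ, hμbad⟩ := ((hSol none).sdiff hbad).nonempty
  have hprim : IntermediateField.adjoin K {x₀ μ} = ⊤ := not_not.1 hμbad
  obtain ⟨hxP, hxi, hxint⟩ := hx (fun j => j.elim μ c) (fun j => by cases j <;> simp [hμ, hc])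
  have hx₀ : x₀ μ = ∑ i, algebraMap K L (algebraMap k K (c i + μ * θ i)) * b i := by
    simp only [x₀, Module.Basis.equivFun_symm_apply, C, b, ← IsScalarTower.algebraMap_apply, Algebra.smul_def, map_mul]
    exact Finset.sum_congr rfl fun i _ => by ring
  -- separability data
  let g := minpoly K (x₀ μ)
  have hgint : IsIntegral K (x₀ μ) := Algebra.IsIntegral.isIntegral _
  have hgdeg : g.natDegree = Module.finrank K L := (Field.primitive_element_iff_minpoly_natDegree_eq K _).1 hprim
  obtain ⟨u, s, hus⟩ := (Algebra.IsSeparable.isSeparable K (x₀ μ) : IsSeparable K (x₀ μ))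
  let bad₂ : Finset (HeightOneSpectrum (𝓞 k)) :=
    ((((finite_setOf_coeff u).toFinset ∪ (finite_setOf_coeff s).toFinset).image fun W => W.under (𝓞 k)) \ P₁).erase v₀
  let P₂ := P₁ ∪ bad₂
  have hv₂ : v₀ ∉ P₂ := by simp [P₂, hv₁, bad₂]
  have hint : ∀ W : HeightOneSpectrum (𝓞 K), W.under (𝓞 k) ∉ P → W.under (𝓞 k) ≠ v₀ →
      IsIntegral (W.valuation K).valuationSubring (x₀ μ) := by
    intro W hW hW'
    have := liesOver_under (k := k) W
    have hcoord : ∀ j : Option ι, (W.under (𝓞 k)).valuation k (j.elim μ c) ≤ 1 := fun j => by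
      by_cases h : W.under (𝓞 k) ∈ P₁
      · have h1 := hxP _ h
        rw [show Of₁ (W.under (𝓞 k)) = _ from if_neg hW] at h1
        have h2 := Set.mem_iInter.1 h1 j
        rw [Set.mem_preimage, Set.mem_ofPred_eq, valued_algebraMap] at h2
        exact h2.le
      · exact hxint _ h hW' j
    rw [hx₀]
    refine isIntegral_combination W _ (fun i => valuation_map_le (v := W.under (𝓞 k)) W ?_ le_rfl) b hb
    refine ((W.under (𝓞 k)).valuation k).map_add_le (hcoord (some i)) ?_
    rw [map_mul]
    exact mul_le_one' (hcoord none) (hθ _ i)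
  -- residues
  obtain ⟨D₂, hD₂, hD₂'⟩ := exists_notMem (P₂ \ P)
  have hfinW : {W : HeightOneSpectrum (𝓞 K) | W.under (𝓞 k) ∈ P₂ \ P}.Finite :=
    (finite_setOf_mem (k := K) (D := algebraMap (𝓞 k) (𝓞 K) D₂)
      ((map_ne_zero_iff _ (FaithfulSMul.algebraMap_injective (𝓞 k) (𝓞 K))).2 hD₂)).subset
      fun W hW => hD₂' _ hW
  have hres : ∀ W : HeightOneSpectrum (𝓞 K), ∃ r : 𝓞 K, W.under (𝓞 k) ∈ bad₂ →
      W.valuation K (g.eval (r : K)) = 1 := fun W => by
    by_cases hW : W.under (𝓞 k) ∈ bad₂
    swap
    · exact ⟨0, fun h => absurd h hW⟩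
    have h1 : W.under (𝓞 k) ∉ P₁ ∧ W.under (𝓞 k) ≠ v₀ := by
      simp only [bad₂, Finset.mem_erase, Finset.mem_sdiff] at hW
      exact ⟨hW.2.2, hW.1⟩
    have hlt : g.natDegree < Ideal.absNorm W.asIdeal := by
      rw [hgdeg]
      by_contra hle
      exact h1.1 (Finset.mem_union_right _ (Finset.mem_erase.2 ⟨h1.2,
        Finset.mem_image_of_mem _ ((Set.Finite.mem_toFinset _).2 (not_lt.1 hle))⟩))
    obtain ⟨r, hr⟩ := exists_eval_unit W (minpoly.monic hgint)
      (valuation_coeff_le_one W (hint W (fun h => h1.1 (Finset.mem_union_left _ h)) h1.2)) hlt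
    exact ⟨r, fun _ => hr⟩
  choose r hr using hres
  obtain ⟨a₁, ha₁⟩ := IsDedekindDomain.exists_forall_sub_mem_ideal (s := hfinW.toFinset) (fun W => W.asIdeal)
    (fun _ => 1) (fun W _ => W.prime) (fun W _ W' _ h he => h (HeightOneSpectrum.ext he))
    (fun W => if W.1.under (𝓞 k) ∈ bad₂ then -r W.1 else 1)
  -- coordinates of `a`
  let Ek := Module.finBasis k K
  obtain ⟨DK₀, hDK₀, hDKE⟩ := exists_integral_multiples (𝓞 k) k (Finset.univ.image Ek)
  let DK : k := DK₀
  have hDK : DK ≠ 0 := fun h => hDK₀ (RingOfIntegers.coe_eq_zero_iff.1 h)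
  let e : Fin (Module.finrank k K) → K := fun l => algebraMap k K DK * Ek l
  have he : ∀ l, IsIntegral ℤ (e l) := fun l => by
    refine isIntegral_trans (R := ℤ) (A := 𝓞 k) (e l) ?_
    have := hDKE _ (Finset.mem_image_of_mem Ek (Finset.mem_univ l))
    rwa [Algebra.smul_def, IsScalarTower.algebraMap_apply (𝓞 k) k K] at this
  let aOf : (Fin (Module.finrank k K) → k) → K := fun α => ∑ l, algebraMap k K (α l) * e l
  have haOf : ∀ α l, Ek.repr (aOf α) l = DK * α l := fun α l => by
    have h1 : aOf α = Ek.equivFun.symm fun l => DK * α l := by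
      simp only [aOf, e, Module.Basis.equivFun_symm_apply, Algebra.smul_def, map_mul]
      exact Finset.sum_congr rfl fun i _ => by ring
    rw [h1, ← Module.Basis.equivFun_apply, LinearEquiv.apply_symm_apply]
  let q : Fin (Module.finrank k K) → k := fun l => Ek.repr (a₁ : K) l / DK
  have haq : aOf q = (a₁ : K) := Ek.repr.injective (Finsupp.ext fun l => by
    rw [haOf]
    exact mul_div_cancel₀ _ hDK)
  let Mt : ι → Fin (Module.finrank k K) → k := fun i l => B.repr (algebraMap K L (e l)) i
  let Of₂ : (v : HeightOneSpectrum (𝓞 k)) → Set (Fin (Module.finrank k K) → v.adicCompletion k) := fun v =>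
    if v ∈ P then (fun α i => algebraMap k (v.adicCompletion k) (C μ i) +
      ∑ l, α l * algebraMap k (v.adicCompletion k) (Mt i l)) ⁻¹' Of v
    else ⋂ l, (fun α => α l - algebraMap k (v.adicCompletion k) (q l)) ⁻¹' {y | Valued.v y < 1}
  obtain ⟨Sol₂, hSol₂, hα⟩ := exists_pi_mem_open v₀ P₂ hv₂ Of₂ (fun v hv => by
      by_cases hvP : v ∈ P
      · rw [show Of₂ v = _ from if_pos hvP]
        refine ⟨(hOf v hvP).1.preimage (by fun_prop), ⟨0, ?_⟩⟩
        have h1 := hxP v (Finset.mem_union_left _ hvP)
        rw [show Of₁ v = _ from if_pos hvP, Set.mem_preimage] at h1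
        rw [Set.mem_preimage]
        convert h1 using 1
        funext i
        simp [C]
      · rw [show Of₂ v = _ from if_neg hvP]
        exact ⟨isOpen_iInter_of_finite fun l => (isOpen_lt_one v).preimage (by fun_prop),
          ⟨fun l => algebraMap k _ (q l), Set.mem_iInter.2 fun l => show Valued.v (_ - _ : v.adicCompletion k) < 1 by simp⟩⟩)
    (fun w => (fun α i => algebraMap k w.Completion (C μ i) + ∑ l, α l * algebraMap k w.Completion (Mt i l)) ⁻¹' Oi w)
    (fun w => by
      refine ⟨(hOi w).1.preimage (by fun_prop), ⟨0, ?_⟩⟩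
      have h1 := hxi w
      rw [Set.mem_preimage] at h1 ⊢
      convert h1 using 1
      funext i
      simp only [Pi.zero_apply, zero_mul, Finset.sum_const_zero, add_zero, C, map_mul, map_add, Option.elim])
  have hF : {a : K | Algebra.norm K (x₀ μ + algebraMap K L a) ∈ A}.Finite := by
    have hd0 : g.natDegree ≠ 0 := (minpoly.natDegree_pos hgint).ne'
    refine ((A.finite_toSet.biUnion fun β _ => ((g.comp (-X)) - Polynomial.C ((-1 : K) ^ Module.finrank K L * β)).roots.toFinset.finite_toSet)).subset
      fun a ha => ?_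
    refine Set.mem_biUnion ha ?_
    rw [Finset.mem_coe, Multiset.mem_toFinset, mem_roots']
    refine ⟨fun h => ?_, ?_⟩
    · have := congrArg natDegree (sub_eq_zero.1 h)
      rw [natDegree_comp, natDegree_neg, natDegree_X, mul_one, natDegree_C] at this
      exact hd0 this
    · rw [IsRoot.def, eval_sub, eval_comp, eval_neg, eval_X, eval_C, norm_add_algebraMap hprim, ← mul_assoc,
        ← pow_add, ← two_mul, pow_mul, neg_one_sq, one_pow, one_mul, sub_self]
  have hl : Nonempty (Fin (Module.finrank k K)) := ⟨⟨0, Module.finrank_pos⟩⟩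
  obtain ⟨l₀⟩ := hl
  choose α₀ hα₀ using fun l => (hSol₂ l).nonempty
  obtain ⟨t₀, ht₀, ht₀'⟩ := ((hSol₂ l₀).sdiff (hF.image fun a => Ek.repr a l₀ / DK)).nonempty
  let α := Function.update α₀ l₀ t₀
  obtain ⟨hαP, hαi, hαint⟩ := hα α (fun l => by
    rcases eq_or_ne l l₀ with rfl | h
    · simp [α, ht₀]
    · simp [α, h, hα₀])
  let a := aOf α
  have haF : a ∉ {a : K | Algebra.norm K (x₀ μ + algebraMap K L a) ∈ A} := fun h =>
    ht₀' ⟨a, h, by simp [a, haOf, α, hDK]⟩
  have hrepr : ∀ i, B.repr (x₀ μ + algebraMap K L a) i = C μ i + ∑ l, α l * Mt i l := by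
    intro i
    rw [map_add, Finsupp.add_apply, ← Module.Basis.equivFun_apply, LinearEquiv.apply_symm_apply, add_right_inj]
    show B.repr (algebraMap K L (∑ l, algebraMap k K (α l) * e l)) i = _
    rw [map_sum, map_sum, Finsupp.finsetSum_apply]
    refine Finset.sum_congr rfl fun l _ => ?_
    rw [map_mul, ← IsScalarTower.algebraMap_apply, ← Algebra.smul_def, map_smul, Finsupp.smul_apply, smul_eq_mul]
  refine ⟨x₀ μ + algebraMap K L a, haF, fun v hv => ?_, fun w => ?_, fun W hW => ?_⟩
  · have h1 := hαP v (Finset.mem_union_left _ (Finset.mem_union_left _ hv))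
    rw [show Of₂ v = _ from if_pos hv, Set.mem_preimage] at h1
    convert h1 using 1
    funext i
    simp only [hrepr]
    simp only [map_add, map_sum, map_mul]
  · have h1 := hαi w
    rw [Set.mem_preimage] at h1
    convert h1 using 1
    funext i
    simp only [hrepr]
    simp only [map_add, map_sum, map_mul]
  have hlies := liesOver_under (k := k) W
  set v := W.under (𝓞 k) with hvdef
  by_cases hv0 : v = v₀
  · exact ⟨fun h => absurd hv0 h, Or.inr (hsplit W (hv0 ▸ hlies))⟩
  have hN : W.valuation K (Algebra.norm K (x₀ μ + algebraMap K L a)) = W.valuation K (g.eval (-a)) := by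
    rw [norm_add_algebraMap hprim, map_mul, map_pow, Valuation.map_neg, map_one, one_pow, one_mul]
  have hg : ∀ i, W.valuation K (g.coeff i) ≤ 1 := valuation_coeff_le_one W (hint W hW hv0)
  rw [hN]
  by_cases hv2 : v ∈ P₂
  · -- controlled residue
    have hWs : W ∈ hfinW.toFinset := (Set.Finite.mem_toFinset _).2 (Finset.mem_sdiff.2 ⟨hv2, hW⟩)
    have h1 := ha₁ W hWs
    rw [pow_one, ← W.valuation_lt_one_iff_mem (K := K)] at h1
    have h2 : W.valuation K (a - (a₁ : K)) < 1 := by
      rw [← haq, ← Finset.sum_sub_distrib]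
      refine (W.valuation K).map_sum_lt one_ne_zero fun l _ => ?_
      rw [← sub_mul, ← map_sub, map_mul]
      refine lt_of_le_of_lt (mul_le_of_le_one_right' ?_) (valuation_map_lt (v := v) W ?_)
      · exact W.valuation_le_one (⟨e l, he l⟩ : 𝓞 K)
      · have h3 := hαP v hv2
        rw [show Of₂ v = _ from if_neg hW] at h3
        have h4 := Set.mem_iInter.1 h3 l
        rwa [Set.mem_preimage, Set.mem_ofPred_eq, ← map_sub, valued_algebraMap] at h4
    by_cases hb2 : v ∈ bad₂
    · rw [if_pos (show W.under (𝓞 k) ∈ bad₂ from hb2)] at h1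
      have h3 : W.valuation K (-a - (r W : K)) < 1 := by
        rw [show -a - (r W : K) = -((a - (a₁ : K)) + ((a₁ - -r W : 𝓞 K) : K)) by push_cast; ring,
          Valuation.map_neg]
        exact (W.valuation K).map_add_lt h2 h1
      have h4 : W.valuation K (-a) ≤ 1 := by
        rw [show -a = (-a - (r W : K)) + (r W : K) by ring]
        exact (W.valuation K).map_add_le h3.le (W.valuation_le_one _)
      have h5 := valuation_eq_one_of_sub_lt W (hr W hb2) (valuation_eval_sub_lt_one W hg h4 (W.valuation_le_one _) h3)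
      exact ⟨fun _ => h5.le, Or.inl h5⟩
    · rw [if_neg (show W.under (𝓞 k) ∉ bad₂ from hb2)] at h1
      have hsmall : v ∈ P₁ := (Finset.mem_union.1 hv2).resolve_right hb2
      have ha1 : W.valuation K (-a) = 1 := by
        rw [Valuation.map_neg]
        refine valuation_eq_one_of_sub_lt W (map_one (W.valuation K)) ?_
        rw [show a - 1 = (a - (a₁ : K)) + ((a₁ - 1 : 𝓞 K) : K) by push_cast; ring]
        exact (W.valuation K).map_add_lt h2 h1
      obtain ⟨π, hπ⟩ := v.valuation_exists_uniformizer k
      have hπ0 : π ≠ 0 := fun h => by rw [h, map_zero] at hπ; exact WithZero.exp_ne_zero hπ.symm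
      have hπlt : v.valuation k π < 1 := by rw [hπ, ← WithZero.exp_zero, WithZero.exp_lt_exp]; omega
      have hle : ∀ z : k, v.valuation k z < 1 → v.valuation k (z / π) ≤ 1 := fun z hz => by
        rw [map_div₀, div_le_iff₀ (zero_lt_iff.2 ((Valuation.ne_zero_iff _).2 hπ0)), one_mul, hπ]
        rcases eq_or_ne (v.valuation k z) 0 with h | h
        · rw [h]; exact zero_le
        · obtain ⟨m, hm⟩ := WithZero.ne_zero_iff_exists.1 h
          rw [← hm] at hz ⊢
          have h5 : WithZero.exp (Multiplicative.toAdd m) < WithZero.exp 0 := by rw [WithZero.exp_zero]; exact hz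
          rw [WithZero.exp_lt_exp] at h5
          show WithZero.exp (Multiplicative.toAdd m) ≤ _
          rw [WithZero.exp_le_exp]
          omega
      have hcj : ∀ j : Option ι, v.valuation k (j.elim μ c) < 1 := fun j => by
        have h5 := hxP v hsmall
        rw [show Of₁ v = _ from if_neg hW] at h5
        have h6 := Set.mem_iInter.1 h5 j
        rwa [Set.mem_preimage, Set.mem_ofPred_eq, valued_algebraMap] at h6
      let y : L := ∑ i, algebraMap K L (algebraMap k K ((c i + μ * θ i) / π)) * b i
      have hy : IsIntegral (W.valuation K).valuationSubring y :=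
        isIntegral_combination W _ (fun i => valuation_map_le (v := v) W (hle _
          ((v.valuation k).map_add_lt (hcj (some i)) (by
            rw [map_mul]; exact lt_of_le_of_lt (mul_le_of_le_one_right' (hθ v i)) (hcj none)))) le_rfl) b hb
      have hxy : x₀ μ = algebraMap K L (algebraMap k K π) * y := by
        rw [hx₀, Finset.mul_sum]
        refine Finset.sum_congr rfl fun i _ => ?_
        rw [← mul_assoc (algebraMap K L (algebraMap k K π)), ← map_mul (algebraMap K L), ← map_mul (algebraMap k K),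
          mul_div_cancel₀ _ hπ0]
      have h5 := valuation_eval_eq_one W (minpoly.monic hgint)
        (fun i hi => coeff_lt_one_of_small W (valuation_map_lt (v := v) W hπlt)
          ((_root_.map_ne_zero _).2 hπ0) hxy hy hprim hi) ha1
      exact ⟨fun _ => h5.le, Or.inl h5⟩
  · -- generic place
    have hv1 : v ∉ P₁ := fun h => hv2 (Finset.mem_union_left _ h)
    have ha : W.valuation K (-a) ≤ 1 := by
      rw [Valuation.map_neg]
      refine (W.valuation K).map_sum_le fun l _ => ?_
      rw [map_mul]
      exact mul_le_one' (valuation_map_le (v := v) W (hαint v hv2 hv0 l) le_rfl) (W.valuation_le_one (⟨e l, he l⟩ : 𝓞 K))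
    have h1 := valuation_eval_le_one W hg ha
    refine ⟨fun _ => h1, ?_⟩
    rcases h1.eq_or_lt with h | h
    · exact Or.inl h
    refine Or.inr (exists_algHom W hprim hg u s hus (fun i => ?_) (fun i => ?_) ha h) <;>
    · by_contra hne
      refine hv2 (Finset.mem_union_right _ (Finset.mem_erase.2 ⟨hv0, Finset.mem_sdiff.2 ⟨?_, hv1⟩⟩))
      refine Finset.mem_image.2 ⟨W, Finset.mem_union.2 ?_, rfl⟩
      first
        | exact Or.inl ((Set.Finite.mem_toFinset _).2 ⟨i, hne⟩)
        | exact Or.inr ((Set.Finite.mem_toFinset _).2 ⟨i, hne⟩)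

end Groth.Agent.NF31
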