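import Groth.Agent.NF31.Local
import Mathlib.RingTheory.Frobenius
import Mathlib.FieldTheory.Galois.IsGaloisGroup
import Mathlib.NumberTheory.RamificationInertia.Galois
import Mathlib.RingTheory.RamificationInertia.Ramification
import Mathlib.LinearAlgebra.FreeModule.IdealQuotient
import Mathlib.FieldTheory.Finite.GaloisField

/-! Decomposition groups at unramified places. -/

set_option autoImplicit false

universe u

open NumberField IsDedekindDomain Polynomial
open scoped Pointwise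

namespace Groth.Agent.NF31

variable {K L N : Type u} [Field K] [NumberField K] [Field L] [NumberField L] [Algebra K L]
  [Field N] [NumberField N] [Algebra K N]

/-- Embeddings congruent at an unramified prime agree. -/
theorem eq_of_congr (f g : L →ₐ[K] N) (Q : Ideal (𝓞 N)) [Q.IsPrime]
    (hur : (Q.comap (RingOfIntegers.mapAlgHom f)).ramificationIdx (𝓞 K) = 1)
    (hP0 : (Q.under (𝓞 K)) ≠ ⊥) (h : ∀ x : 𝓞 L, RingOfIntegers.mapAlgHom f x - RingOfIntegers.mapAlgHom g x ∈ Q) :
    f = g := by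
  let f' : 𝓞 L →ₐ[𝓞 K] 𝓞 N := RingOfIntegers.mapAlgHom f
  let g' : 𝓞 L →ₐ[𝓞 K] 𝓞 N := RingOfIntegers.mapAlgHom g
  set P := Q.comap f'.toRingHom with hP
  have hg : P = Q.comap g'.toRingHom := Ideal.ext fun x => by
    show f' x ∈ Q ↔ g' x ∈ Q
    have e : f' x - g' x ∈ Q := h x
    exact ⟨fun h1 => by simpa using sub_mem h1 e, fun h1 => by simpa using add_mem e h1⟩
  have hPu : P.under (𝓞 K) = Q.under (𝓞 K) := by
    rw [hP, Ideal.under, Ideal.under, Ideal.comap_comap]
    exact congrArg (fun φ => Ideal.comap φ Q) f'.comp_algebraMap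
  have : (P.under (𝓞 K)).IsMaximal := hPu ▸ (Ideal.IsPrime.under (𝓞 K) Q).isMaximal hP0
  have : Finite (𝓞 K ⧸ P.under (𝓞 K)) := hPu ▸ Ideal.finiteQuotientOfFreeOfNeBot _ hP0
  have : Algebra.IsUnramifiedAt (𝓞 K) P := Ideal.ramificationIdx_eq_one_iff.1 hur
  let F : ∀ (φ : 𝓞 L →ₐ[𝓞 K] 𝓞 N), P = Q.comap φ.toRingHom → (Localization.AtPrime P →ₐ[𝓞 K] Localization.AtPrime Q) :=
    fun φ hφ => { Localization.localRingHom P Q φ.toRingHom hφ with
      commutes' := fun r => by
        show Localization.localRingHom P Q φ.toRingHom hφ _ = _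
        rw [IsScalarTower.algebraMap_apply (𝓞 K) (𝓞 L) (Localization.AtPrime P), Localization.localRingHom_to_map,
          IsScalarTower.algebraMap_apply (𝓞 K) (𝓞 N) (Localization.AtPrime Q)]
        exact congrArg _ (φ.commutes r) }
  have key : F f' hP = F g' hg := by
    refine Algebra.FormallyUnramified.ext_of_iInf (I := IsLocalRing.maximalIdeal (Localization.AtPrime Q))
      (Ideal.iInf_pow_eq_bot_of_isLocalRing _ Ideal.IsPrime.ne_top') fun z => ?_
    obtain ⟨a, s, rfl⟩ := IsLocalization.exists_mk'_eq P.primeCompl z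
    rw [Ideal.Quotient.eq]
    show Localization.localRingHom P Q f'.toRingHom hP _ - Localization.localRingHom P Q g'.toRingHom hg _ ∈ _
    rw [Localization.localRingHom_mk', Localization.localRingHom_mk', ← IsLocalization.mk'_sub,
      IsLocalization.AtPrime.mk'_mem_maximal_iff (Localization.AtPrime Q) Q]
    show f' a * g' s - g' a * f' s ∈ Q
    rw [show f' a * g' s - g' a * f' s = (f' a - g' a) * g' s - g' a * (f' (s : 𝓞 L) - g' (s : 𝓞 L)) by ring]
    exact sub_mem (Q.mul_mem_right _ (h a)) (Q.mul_mem_left _ (h s))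
  have hint : ∀ a : 𝓞 L, f (a : L) = g (a : L) := fun a => by
    have h1 := DFunLike.congr_fun key (algebraMap (𝓞 L) (Localization.AtPrime P) a)
    change Localization.localRingHom P Q f'.toRingHom hP _ = Localization.localRingHom P Q g'.toRingHom hg _ at h1
    rw [Localization.localRingHom_to_map, Localization.localRingHom_to_map] at h1
    exact congrArg ((↑) : 𝓞 N → N) (IsLocalization.injective (Localization.AtPrime Q) Q.primeCompl_le_nonZeroDivisors h1)
  refine AlgHom.ext fun x => ?_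
  obtain ⟨a, b, -, rfl⟩ := IsFractionRing.div_surjective (𝓞 L) x
  rw [map_div₀, map_div₀]
  exact congrArg₂ (· / ·) (hint a) (hint b)

variable [IsGalois K N]

omit [IsGalois K N] in
/-- If the embeddings separate the automorphisms then the inertia group at an unramified place is trivial. -/
theorem eq_one_of_mem_inertia (hfaith : ∀ σ : N ≃ₐ[K] N, (∀ φ : L →ₐ[K] N, σ.toAlgHom.comp φ = φ) → σ = 1)
    (v : HeightOneSpectrum (𝓞 K))
    (hur : ∀ P : Ideal (𝓞 L), P.IsPrime → P.LiesOver v.asIdeal → P.ramificationIdx (𝓞 K) = 1)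
    (Q : Ideal (𝓞 N)) [Q.IsPrime] [Q.LiesOver v.asIdeal] {σ : N ≃ₐ[K] N}
    (hσ : σ ∈ Q.inertia (N ≃ₐ[K] N)) : σ = 1 := by
  refine hfaith σ fun φ => ?_
  refine eq_of_congr (σ.toAlgHom.comp φ) φ Q (hur _ inferInstance ⟨?_⟩)
    (by rw [← Q.over_def v.asIdeal]; exact v.ne_bot) fun x => ?_
  · rw [Ideal.under, ← Ideal.comap_coe (RingOfIntegers.mapAlgHom (σ.toAlgHom.comp φ)), Ideal.comap_comap,
      AlgHom.comp_algebraMap]
    exact Q.over_def v.asIdeal
  · exact hσ (RingOfIntegers.mapAlgHom φ x)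

/-- At an unramified place the decomposition group is generated by one element. -/
theorem exists_generator (v : HeightOneSpectrum (𝓞 K)) (Q : Ideal (𝓞 N)) [Q.IsPrime] [Q.LiesOver v.asIdeal]
    (hI : ∀ σ : N ≃ₐ[K] N, σ ∈ Q.inertia (N ≃ₐ[K] N) → σ = 1) :
    ∃ σ : N ≃ₐ[K] N, ∀ τ : N ≃ₐ[K] N, τ • Q = Q → ∃ n : ℕ, τ = σ ^ n := by
  classical
  have : Q.under (𝓞 K) = v.asIdeal := (Q.over_def v.asIdeal).symm
  have hQ0 : Q ≠ ⊥ := fun h => v.ne_bot (by rw [← this, h, Ideal.under_bot])
  have : Q.IsMaximal := (inferInstance : Q.IsPrime).isMaximal hQ0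
  let _ : Field (𝓞 N ⧸ Q) := Ideal.Quotient.field Q
  have : Finite (𝓞 N ⧸ Q) := Ideal.finiteQuotientOfFreeOfNeBot Q hQ0
  have : v.asIdeal.IsMaximal := v.isMaximal
  let _ : Field (𝓞 K ⧸ v.asIdeal) := Ideal.Quotient.field _
  have : Finite (𝓞 K ⧸ v.asIdeal) := Ideal.finiteQuotientOfFreeOfNeBot _ v.ne_bot
  have : Fintype (𝓞 K ⧸ v.asIdeal) := Fintype.ofFinite _
  obtain ⟨s, hs⟩ := Ideal.Quotient.stabilizerHom_surjective (N ≃ₐ[K] N) v.asIdeal Q
    (FiniteField.frobeniusAlgEquivOfAlgebraic (𝓞 K ⧸ v.asIdeal) (𝓞 N ⧸ Q))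
  refine ⟨(s : N ≃ₐ[K] N), fun τ hτ => ?_⟩
  let t : MulAction.stabilizer (N ≃ₐ[K] N) Q := ⟨τ, hτ⟩
  obtain ⟨n, hn⟩ := (FiniteField.bijective_frobeniusAlgEquivOfAlgebraic_pow (𝓞 K ⧸ v.asIdeal) (𝓞 N ⧸ Q)).2
    (Ideal.Quotient.stabilizerHom Q v.asIdeal (N ≃ₐ[K] N) t)
  refine ⟨n.1, ?_⟩
  have hker : t * (s ^ n.1)⁻¹ ∈ (Ideal.Quotient.stabilizerHom Q v.asIdeal (N ≃ₐ[K] N)).ker := by
    rw [MonoidHom.mem_ker, map_mul, map_inv, map_pow, mul_inv_eq_one, ← hn, hs]
  rw [Ideal.Quotient.ker_stabilizerHom] at hker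
  have h := hI _ (fun x => hker x : (t * (s ^ n.1)⁻¹ : MulAction.stabilizer (N ≃ₐ[K] N) Q).1 ∈ Q.inertia (N ≃ₐ[K] N))
  simpa [mul_inv_eq_one] using h

/-- A field fixed by the decomposition group has a place of degree one. -/
theorem exists_embedding (v : HeightOneSpectrum (𝓞 K)) (Q : Ideal (𝓞 N)) [Q.IsPrime] [Q.LiesOver v.asIdeal]
    (M : IntermediateField K N) (hM : ∀ τ : N ≃ₐ[K] N, τ • Q = Q → ∀ x ∈ M, τ x = x) :
    Nonempty (M →ₐ[K] v.adicCompletion K) := by
  classical
  let G := N ≃ₐ[K] N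
  have hunder : Q.under (𝓞 K) = v.asIdeal := (Q.over_def v.asIdeal).symm
  have hQ0 : Q ≠ ⊥ := fun h => v.ne_bot (by rw [← hunder, h, Ideal.under_bot])
  let S : Finset (Ideal (𝓞 N)) := Finset.univ.image fun σ : G => σ • Q
  have hSp : ∀ I ∈ S, Prime I := fun I hI => by
    obtain ⟨σ, -, rfl⟩ := Finset.mem_image.1 hI
    refine Ideal.prime_of_isPrime (fun h => hQ0 ?_) inferInstance
    rw [← inv_smul_smul σ Q, h, Ideal.pointwise_smul_def, Ideal.map_bot]
  obtain ⟨y, hy⟩ := IsDedekindDomain.exists_forall_sub_mem_ideal (s := S) (fun I => I) (fun _ => 1) hSp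
    (fun _ _ _ _ h => h) (fun I => if I.1 = Q then 1 else 0)
  have hy1 : y - 1 ∈ Q := by
    have h := hy Q (Finset.mem_image.2 ⟨1, Finset.mem_univ _, one_smul _ _⟩)
    simpa using h
  have hy0 : ∀ σ : G, σ • Q ≠ Q → y ∈ σ • Q := fun σ hσ => by
    have h := hy (σ • Q) (Finset.mem_image.2 ⟨σ, Finset.mem_univ _, rfl⟩)
    simpa [hσ] using h
  let x : 𝓞 N := ∏ d : MulAction.stabilizer G Q, d • y
  have hx1 : x - 1 ∈ Q := by
    rw [← Ideal.Quotient.eq, map_prod]
    refine (Finset.prod_eq_one fun d _ => ?_).trans (map_one _).symm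
    rw [← map_one (Ideal.Quotient.mk Q), Ideal.Quotient.eq,
      show d • y - 1 = (d : G) • (y - 1) by rw [smul_sub, smul_one]; rfl]
    have h := Ideal.smul_mem_pointwise_smul (d : G) _ Q hy1
    rwa [show (d : G) • Q = Q from d.2] at h
  have hx0 : ∀ σ : G, σ • Q ≠ Q → σ • x ∈ Q := fun σ hσ => by
    have h1 : σ⁻¹ • Q ≠ Q := fun h => hσ (by conv_lhs => rw [← h, smul_inv_smul])
    have h2 : x ∈ σ⁻¹ • Q := by
      refine Ideal.mem_of_dvd _ (Finset.dvd_prod_of_mem (fun d : MulAction.stabilizer G Q => d • y) (Finset.mem_univ 1)) ?_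
      rw [one_smul]
      exact hy0 _ h1
    simpa using Ideal.smul_mem_pointwise_smul σ _ _ h2
  have hxfix : ∀ τ : G, τ • Q = Q → τ • x = x := fun τ hτ => by
    rw [Finset.smul_prod']
    exact Fintype.prod_equiv (Equiv.mulLeft ⟨τ, hτ⟩) _ _ fun d => (mul_smul _ _ _).symm
  have hxstab : ∀ τ : G, τ (x : N) = x → τ • Q = Q := fun τ hτ => by
    by_contra hne
    have h := hx0 τ hne
    rw [show τ • x = x from RingOfIntegers.ext hτ] at h
    exact Ideal.IsPrime.ne_top inferInstance ((Ideal.eq_top_iff_one Q).2 (by simpa using sub_mem h hx1))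
  -- Hensel
  have hint : IsIntegral K (x : N) := Algebra.IsIntegral.isIntegral _
  let g : (𝓞 K)[X] := minpoly (𝓞 K) x
  have hxi : IsIntegral (𝓞 K) x := Algebra.IsIntegral.isIntegral _
  have hgN : g.map (algebraMap (𝓞 K) K) = minpoly K (x : N) := by
    rw [minpoly.isIntegrallyClosed_eq_field_fractions' K
      (show IsIntegral (𝓞 K) (x : N) from hxi.map (IsScalarTower.toAlgHom (𝓞 K) (𝓞 N) N))]
    exact congrArg _ (minpoly.algebraMap_eq (B' := N) RingOfIntegers.coe_injective x).symm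
  have hg1 : g.eval 1 ∈ v.asIdeal := by
    rw [← hunder, Ideal.mem_comap]
    have h := sub_dvd_eval_sub x (1 : 𝓞 N) (g.map (algebraMap (𝓞 K) (𝓞 N)))
    rw [eval_map, eval_map, ← aeval_def, minpoly.aeval, zero_sub, eval₂_at_one, dvd_neg] at h
    exact Q.mem_of_dvd h hx1
  have hg2 : g.derivative.eval 1 ∉ v.asIdeal := by
    intro hmem
    rw [← hunder, Ideal.mem_comap, ← eval₂_at_one, ← eval_map] at hmem
    have h2 : (g.derivative.map (algebraMap (𝓞 K) (𝓞 N))).eval x ∈ Q := by
      have h := Q.mem_of_dvd (sub_dvd_eval_sub x (1 : 𝓞 N) (g.derivative.map (algebraMap (𝓞 K) (𝓞 N)))) hx1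
      simpa using add_mem h hmem
    let p := (minpoly K (x : N)).map (algebraMap K N)
    have hs : p.Splits := Normal.splits inferInstance (x : N)
    have hxr : (x : N) ∈ p.roots := by
      rw [mem_roots ((minpoly.monic hint).map _).ne_zero, IsRoot.def, eval_map, ← aeval_def, minpoly.aeval]
    have hder := hs.eval_root_derivative ((minpoly.monic hint).map _) hxr
    have hnd : p.roots.Nodup := nodup_roots (Polynomial.Separable.map (Algebra.IsSeparable.isSeparable K (x : N)))
    have hroots : ∀ r ∈ p.roots.erase (x : N), ∃ z : 𝓞 N, (z : N) = (x : N) - r ∧ z - 1 ∈ Q := fun r hr => by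
      rw [hnd.mem_erase_iff] at hr
      obtain ⟨τ, hτ⟩ := minpoly.exists_algEquiv_of_root' (K := K) (L := N) (x := r) (y := (x : N))
        (Algebra.IsAlgebraic.isAlgebraic _) (by
          have := hr.2
          rw [mem_roots ((minpoly.monic hint).map _).ne_zero, IsRoot.def, eval_map, ← aeval_def] at this
          exact this)
      refine ⟨x - τ • x, by rw [← hτ]; rfl, ?_⟩
      have hne : τ • Q ≠ Q := fun h => hr.1 (by rw [← hτ]; exact congrArg Subtype.val (hxfix τ h))
      rw [sub_right_comm]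
      exact sub_mem hx1 (hx0 τ hne)
    have hev : eval (x : N) p.derivative = (((g.derivative.map (algebraMap (𝓞 K) (𝓞 N))).eval x : 𝓞 N) : N) := by
      show eval _ (derivative ((minpoly K (x : N)).map (algebraMap K N))) =
        algebraMap (𝓞 N) N ((g.derivative.map (algebraMap (𝓞 K) (𝓞 N))).eval x)
      rw [← hgN, Polynomial.map_map, derivative_map, eval_map, eval_map, hom_eval₂]
      rfl
    rw [hev] at hder
    have h3 : ∀ R : Multiset N, (∀ r ∈ R, ∃ z : 𝓞 N, (z : N) = (x : N) - r ∧ z - 1 ∈ Q) →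
        ∃ z : 𝓞 N, (z : N) = (R.map ((x : N) - ·)).prod ∧ z - 1 ∈ Q := by
      intro R
      induction R using Multiset.induction_on with
      | empty => exact fun _ => ⟨1, by simp, by simp⟩
      | cons a R ih =>
        intro h
        obtain ⟨z, hz, hzQ⟩ := h a (Multiset.mem_cons_self _ _)
        obtain ⟨w, hw, hwQ⟩ := ih fun r hr => h r (Multiset.mem_cons_of_mem hr)
        refine ⟨z * w, by rw [show ((z * w : 𝓞 N) : N) = (z : N) * (w : N) from rfl, hz, hw, Multiset.map_cons, Multiset.prod_cons], ?_⟩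
        rw [show z * w - 1 = z * (w - 1) + (z - 1) by ring]
        exact add_mem (Q.mul_mem_left _ hwQ) hzQ
    obtain ⟨z, hz, hzQ⟩ := h3 _ hroots
    rw [← RingOfIntegers.coe_injective (hder.trans hz.symm)] at hzQ
    exact Ideal.IsPrime.ne_top inferInstance ((Ideal.eq_top_iff_one Q).2 (by simpa using sub_mem h2 hzQ))
  have hv : ∀ r : 𝓞 K, Valued.v (algebraMap K (v.adicCompletion K) (r : K)) = v.valuation K (r : K) := fun r =>
    v.valuedAdicCompletion_eq_valuation' (r : K)
  let ι : 𝓞 K →+* v.adicCompletionIntegers K :=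
    ((algebraMap K (v.adicCompletion K)).comp (algebraMap (𝓞 K) K)).codRestrict _ fun r =>
      (hv r).trans_le (v.valuation_le_one r)
  obtain ⟨b, hb⟩ := exists_root v (g.map ι) (ι 1)
    (by rw [eval_map, eval₂_at_apply]; exact (hv _).trans_lt ((v.valuation_lt_one_iff_mem _).2 hg1))
    (by rw [derivative_map, eval_map, eval₂_at_apply]
        exact (hv _).trans ((v.valuation_eq_one_iff_notMem).2 hg2))
  have hroot : aeval (b : v.adicCompletion K) (minpoly K (x : N)) = 0 := by
    have h := congrArg (v.adicCompletionIntegers K).subtype hb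
    rw [map_zero, eval_map, hom_eval₂] at h
    rw [← hgN, aeval_def, eval₂_map]
    exact h
  have hle : M ≤ IntermediateField.adjoin K {(x : N)} := by
    rw [← IsGalois.fixedField_fixingSubgroup (IntermediateField.adjoin K {(x : N)})]
    intro m hm σ
    exact hM σ.1 (hxstab σ.1 (σ.2 ⟨_, IntermediateField.mem_adjoin_simple_self K (x : N)⟩)) m hm
  exact ⟨((IntermediateField.adjoin.powerBasis hint).lift (b : v.adicCompletion K)
    (by rwa [IntermediateField.adjoin.powerBasis_gen, IntermediateField.minpoly_gen])).comp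
    (IntermediateField.inclusion hle)⟩

end Groth.Agent.NF31
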