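import Groth.Agent.E4O.DimField
import Mathlib.Algebra.MvPolynomial.Equiv
import Mathlib.NumberTheory.NumberField.Basic
import Mathlib.RingTheory.KrullDimension.NonZeroDivisors

/-! Elimination of a variable for closed sets of codimension two. -/

set_option autoImplicit false

universe u

open MvPolynomial NumberField

namespace Groth.Agent.NF31

variable {k : Type u} [Field k] {n : ℕ}

/-- A closed set of codimension two does not dominate a coordinate hyperplane. -/
theorem exists_ne_zero_rename_mem (I : Ideal (MvPolynomial (Fin (n + 1)) k))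
    (hI : ringKrullDim (MvPolynomial (Fin (n + 1)) k ⧸ I) + 2 ≤ ((n + 1 : ℕ) : WithBot ℕ∞)) :
    ∃ h : MvPolynomial (Fin n) k, h ≠ 0 ∧ rename Fin.succ h ∈ I := by
  classical
  by_contra hne
  push Not at hne
  let ψ : MvPolynomial (Fin n) k →ₐ[k] MvPolynomial (Fin (n + 1)) k := rename Fin.succ
  obtain ⟨p, hp, hpker⟩ : ∃ p ∈ I.minimalPrimes, p.comap ψ = ⊥ := by
    by_contra hall
    push Not at hall
    have hfin : I.minimalPrimes.Finite := Ideal.finite_minimalPrimes_of_isNoetherianRing _ I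
    have hx : ∀ p ∈ I.minimalPrimes, ∃ h : MvPolynomial (Fin n) k, h ≠ 0 ∧ ψ h ∈ p := fun p hp => by
      obtain ⟨h, hh, h0⟩ := Submodule.exists_mem_ne_zero_of_ne_bot (hall p hp)
      exact ⟨h, h0, hh⟩
    choose g hg0 hg using hx
    let H := ∏ p ∈ hfin.toFinset.attach, g p.1 (hfin.mem_toFinset.1 p.2)
    have hH : ψ H ∈ I.radical := by
      rw [← Ideal.sInf_minimalPrimes, Ideal.mem_sInf]
      intro p hp
      rw [map_prod]
      exact Ideal.mem_of_dvd p (Finset.dvd_prod_of_mem _ (Finset.mem_attach _ ⟨p, hfin.mem_toFinset.2 hp⟩)) (hg p hp)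
    obtain ⟨N, hN⟩ := hH
    rw [← map_pow] at hN
    exact pow_ne_zero N (Finset.prod_ne_zero_iff.2 fun p _ => hg0 p.1 _) (not_ne_iff.1 fun h0 => hne _ h0 hN)
  have : p.IsPrime := hp.1.1
  let A := MvPolynomial (Fin (n + 1)) k ⧸ p
  let φ : MvPolynomial (Fin n) k →ₐ[k] A := (Ideal.Quotient.mkₐ k p).comp ψ
  have hφ : Function.Injective φ := (injective_iff_map_eq_zero φ).2 fun x hx => by
    have hx' : ψ x ∈ p := Ideal.Quotient.eq_zero_iff_mem.1 hx
    have : x ∈ p.comap ψ := hx'
    rwa [hpker, Ideal.mem_bot] at this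
  have htr := trdeg_le_of_injective φ hφ
  rw [MvPolynomial.trdeg_of_isDomain, Cardinal.mk_fin, Cardinal.lift_natCast, E4O.trdeg_eq_natCast k A,
    Nat.cast_le] at htr
  have hdim : (n : WithBot ℕ∞) ≤ ringKrullDim (MvPolynomial (Fin (n + 1)) k ⧸ I) :=
    le_trans (by rw [E4O.ringKrullDim_eq_trdeg k A]; exact_mod_cast htr)
      (ringKrullDim_le_of_surjective (Ideal.Quotient.factor hp.1.2) (Ideal.Quotient.factor_surjective hp.1.2))
  have h := le_trans (add_le_add_right hdim 2) ((le_of_eq (add_comm _ _)).trans hI)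
  have h2 : ((2 + n : ℕ) : WithBot ℕ∞) ≤ ((n + 1 : ℕ) : WithBot ℕ∞) := by rw [Nat.cast_add]; exact h
  rw [Nat.cast_le] at h2
  omega

/-- The coefficient ideal has codimension two in the hyperplane. -/
theorem ringKrullDim_coeff_le {σ τ : Type} [Fintype σ] (F : σ → MvPolynomial (Fin (n + 1)) k)
    (G : τ → MvPolynomial (Fin n) k)
    (hG : ∀ j l, (finSuccEquiv k n (F j)).coeff l ∈ Ideal.span (Set.range G))
    (hF : ringKrullDim (MvPolynomial (Fin (n + 1)) k ⧸ Ideal.span (Set.range F)) + 2 ≤ ((n + 1 : ℕ) : WithBot ℕ∞)) :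
    ringKrullDim (MvPolynomial (Fin n) k ⧸ Ideal.span (Set.range G)) + 2 ≤ (n : WithBot ℕ∞) := by
  let R := MvPolynomial (Fin n) k ⧸ Ideal.span (Set.range G)
  let π : MvPolynomial (Fin (n + 1)) k →+* Polynomial R :=
    (Polynomial.mapRingHom (Ideal.Quotient.mk _)).comp (finSuccEquiv k n).toRingHom
  have hπ : ∀ x ∈ Ideal.span (Set.range F), π x = 0 := by
    intro x hx
    refine (Ideal.span_le.2 ?_ : Ideal.span (Set.range F) ≤ RingHom.ker π) hx
    rintro _ ⟨j, rfl⟩
    refine RingHom.mem_ker.2 (Polynomial.ext fun l => ?_)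
    show ((finSuccEquiv k n (F j)).map _).coeff l = _
    rw [Polynomial.coeff_map, Polynomial.coeff_zero, Ideal.Quotient.eq_zero_iff_mem]
    exact hG j l
  have hsurj : Function.Surjective (Ideal.Quotient.lift _ π hπ) := fun y => by
    obtain ⟨z, hz⟩ := Polynomial.map_surjective (Ideal.Quotient.mk (Ideal.span (Set.range G))) Ideal.Quotient.mk_surjective y
    exact ⟨Ideal.Quotient.mk _ ((finSuccEquiv k n).symm z), by
      rw [Ideal.Quotient.lift_mk]
      show ((finSuccEquiv k n ((finSuccEquiv k n).symm z)).map _) = y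
      rw [AlgEquiv.apply_symm_apply, hz]⟩
  have h : ringKrullDim R + 1 + 2 ≤ ((n + 1 : ℕ) : WithBot ℕ∞) := le_trans (add_le_add_left
    (le_trans ringKrullDim_succ_le_ringKrullDim_polynomial (ringKrullDim_le_of_surjective _ hsurj)) 2) hF
  show ringKrullDim R + 2 ≤ _
  generalize ringKrullDim R = x at h ⊢
  cases x with
  | bot => simp
  | coe x =>
    cases x with
    | top =>
      norm_cast at h
    | coe m =>
      rw [show (((m : ℕ) : ℕ∞) : WithBot ℕ∞) = ((m : ℕ) : WithBot ℕ∞) from rfl] at h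
      show ((m : ℕ) : WithBot ℕ∞) + 2 ≤ _
      norm_cast at h ⊢
      omega

variable [NumberField k]

/-- Clearing denominators in membership in the ideal. -/
theorem exists_integral_mem {σ : Type} [Fintype σ] (f : σ → MvPolynomial (Fin (n + 1)) (𝓞 k))
    {h : MvPolynomial (Fin n) k} (h0 : h ≠ 0)
    (hmem : rename Fin.succ h ∈ Ideal.span (Set.range fun j => MvPolynomial.map (algebraMap (𝓞 k) k) (f j))) :
    ∃ H : MvPolynomial (Fin n) (𝓞 k), H ≠ 0 ∧ rename Fin.succ H ∈ Ideal.span (Set.range f) := by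
  classical
  obtain ⟨g, hg⟩ := (Ideal.mem_span_range_iff_exists_fun).1 hmem
  let S : Finset k := h.coeffs ∪ Finset.univ.biUnion fun j => (g j).coeffs
  obtain ⟨⟨D, hD⟩, hDS⟩ := IsLocalization.exist_integer_multiples_of_finset (nonZeroDivisors (𝓞 k)) S
  have hDk : algebraMap (𝓞 k) k D ≠ 0 := fun h => nonZeroDivisors.ne_zero hD (RingOfIntegers.coe_eq_zero_iff.1 h)
  have key : ∀ {m : ℕ} (p : MvPolynomial (Fin m) k), p.coeffs ⊆ S →
      ∃ q : MvPolynomial (Fin m) (𝓞 k), MvPolynomial.map (algebraMap (𝓞 k) k) q = C (algebraMap (𝓞 k) k D) * p := by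
    intro m p hp
    have hc : ∀ μ, ∃ r : 𝓞 k, algebraMap (𝓞 k) k r = algebraMap (𝓞 k) k D * p.coeff μ := fun μ => by
      by_cases h : p.coeff μ = 0
      · exact ⟨0, by rw [h, mul_zero, map_zero]⟩
      · obtain ⟨r, hr⟩ := hDS _ (hp (coeff_mem_coeffs μ h))
        exact ⟨r, hr.trans (Algebra.smul_def D (p.coeff μ))⟩
    choose r hr using hc
    refine ⟨∑ μ ∈ p.support, monomial μ (r μ), ?_⟩
    conv_rhs => rw [p.as_sum, Finset.mul_sum]
    rw [map_sum]
    refine Finset.sum_congr rfl fun μ _ => ?_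
    rw [map_monomial, hr, C_mul_monomial]
  obtain ⟨H, hH⟩ := key h Finset.subset_union_left
  choose G hG using fun j => key (g j) ((Finset.subset_biUnion_of_mem (fun j => (g j).coeffs) (Finset.mem_univ j)).trans Finset.subset_union_right)
  refine ⟨H, fun he => ?_, Ideal.mem_span_range_iff_exists_fun.2 ⟨G, ?_⟩⟩
  · rw [he, map_zero] at hH
    exact h0 ((mul_eq_zero.1 hH.symm).resolve_left (by simpa using hDk))
  · refine map_injective (algebraMap (𝓞 k) k) RingOfIntegers.coe_injective ?_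
    rw [map_sum, map_rename, hH, map_mul, rename_C, ← hg, Finset.mul_sum]
    exact Finset.sum_congr rfl fun j _ => by rw [map_mul, hG, mul_assoc]

end Groth.Agent.NF31
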