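import Mathlib.RingTheory.DedekindDomain.FiniteAdeleRing
import Mathlib.NumberTheory.NumberField.Basic
import Mathlib.FieldTheory.Minpoly.IsIntegrallyClosed
import Mathlib.FieldTheory.PrimitiveElement
import Mathlib.RingTheory.Norm.Basic
import Mathlib.Algebra.Polynomial.Identities
import Mathlib.Topology.Algebra.Valued.ValuedField

/-! Roots in completions of number fields. -/

set_option autoImplicit false

universe u

open NumberField IsDedekindDomain WithZero Polynomial

namespace Groth.Agent.NF31

variable {K : Type u} [Field K] [NumberField K] (W : HeightOneSpectrum (𝓞 K))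

/-- The valuation of a completion. -/
noncomputable abbrev vW : Valuation (W.adicCompletion K) (WithZero (Multiplicative ℤ)) := Valued.v

/-- Hensel's lemma in the integers of a completion. -/
theorem exists_root (f : (W.adicCompletionIntegers K)[X]) (a : W.adicCompletionIntegers K)
    (h0 : vW W ((f.eval a : W.adicCompletionIntegers K) : W.adicCompletion K) < 1)
    (h1 : vW W ((f.derivative.eval a : W.adicCompletionIntegers K) : W.adicCompletion K) = 1) :
    ∃ b : W.adicCompletionIntegers K, f.eval b = 0 := by
  classical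
  let O := W.adicCompletionIntegers K
  have hu : ∀ c : O, vW W (c : W.adicCompletion K) = 1 → ∃ d : O, d * c = 1 := fun c hc => by
    have hc0 : (c : W.adicCompletion K) ≠ 0 := fun h => by rw [h, map_zero] at hc; exact zero_ne_one hc
    refine ⟨⟨(c : W.adicCompletion K)⁻¹, ?_⟩, Subtype.ext (inv_mul_cancel₀ hc0)⟩
    show vW W _ ≤ 1
    rw [map_inv₀, hc, inv_one]
  have hle : ∀ c : O, vW W (c : W.adicCompletion K) ≤ 1 := fun c => c.2
  obtain ⟨d, hd⟩ := hu _ h1
  have hlt : ∀ z : WithZero (Multiplicative ℤ), z < 1 → z ≤ exp (-1 : ℤ) := fun z hz => by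
    rcases eq_or_ne z 0 with rfl | h
    · exact zero_le
    · obtain ⟨m, rfl⟩ := WithZero.ne_zero_iff_exists.1 h
      show exp (Multiplicative.toAdd m) ≤ _
      have : exp (Multiplicative.toAdd m) < exp 0 := by rw [exp_zero]; exact hz
      rw [exp_lt_exp] at this
      rw [exp_le_exp]
      omega
  obtain ⟨seq, hseq0, hseqS⟩ : ∃ seq : ℕ → O, seq 0 = a ∧ ∀ n, seq (n + 1) = seq n - d * f.eval (seq n) :=
    ⟨fun n => Nat.rec a (fun _ c => c - d * f.eval c) n, rfl, fun _ => rfl⟩
  have key : ∀ n, vW W ((f.eval (seq n) : O) : W.adicCompletion K) ≤ exp (-((n : ℤ) + 1)) ∧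
      vW W ((f.derivative.eval (seq n) - f.derivative.eval a : O) : W.adicCompletion K) < 1 := by
    intro n
    induction n with
    | zero =>
      rw [hseq0]
      refine ⟨by simpa using hlt _ h0, ?_⟩
      show vW W ((f.derivative.eval a - f.derivative.eval a : O) : W.adicCompletion K) < 1
      rw [sub_self]
      exact (map_zero (vW W)).trans_lt zero_lt_one
    | succ n ih =>
      obtain ⟨ih1, ih2⟩ := ih
      set c := seq n
      set e := f.eval c
      have hseq : seq (n + 1) = c + -(d * e) := (hseqS n).trans (sub_eq_add_neg _ _)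
      obtain ⟨r, hr⟩ := binomExpansion f c (-(d * e))
      obtain ⟨s, hs⟩ := sub_dvd_eval_sub (c + -(d * e)) c f.derivative
      have he : vW W (e : W.adicCompletion K) < 1 :=
        ih1.trans_lt (by rw [← exp_zero, exp_lt_exp]; omega)
      refine ⟨?_, ?_⟩
      · have : f.eval (seq (n + 1)) = e * (-(d * (f.derivative.eval c - f.derivative.eval a))) + r * d ^ 2 * e ^ 2 := by
          rw [hseq, hr]
          linear_combination -e * hd
        rw [this]
        refine ((vW W).map_add _ _).trans (max_le ?_ ?_)
        · show vW W ((e : W.adicCompletion K) * _) ≤ _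
          rw [map_mul, Nat.cast_add, Nat.cast_one, show -((n : ℤ) + 1 + 1) = -((n : ℤ) + 1) + -1 by ring, exp_add]
          refine mul_le_mul' ih1 (hlt _ ?_)
          rw [show ((-(d * (f.derivative.eval c - f.derivative.eval a)) : O) : W.adicCompletion K) =
            -((d : W.adicCompletion K) * ((f.derivative.eval c - f.derivative.eval a : O) : W.adicCompletion K)) from rfl,
            Valuation.map_neg, map_mul]
          exact lt_of_le_of_lt (mul_le_of_le_one_left' (hle d)) ih2
        · show vW W (((r * d ^ 2 : O) : W.adicCompletion K) * (e : W.adicCompletion K) ^ 2) ≤ _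
          rw [map_mul, map_pow]
          refine (mul_le_of_le_one_left' (hle _)).trans ?_
          rw [Nat.cast_add, Nat.cast_one, show -((n : ℤ) + 1 + 1) = -((n : ℤ) + 1) + -1 by ring, exp_add]
          rw [sq (vW W (e : W.adicCompletion K))]
          exact mul_le_mul' ih1 (hlt _ he)
      · rw [hseq, show f.derivative.eval (c + -(d * e)) - f.derivative.eval a =
          (c + -(d * e) - c) * s + (f.derivative.eval c - f.derivative.eval a) by rw [← hs]; ring]
        refine ((vW W).map_add _ _).trans_lt (max_lt ?_ ih2)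
        rw [show (c + -(d * e) - c) * s = e * (-(d * s)) by ring]
        show vW W ((e : W.adicCompletion K) * _) < 1
        rw [map_mul]
        exact lt_of_le_of_lt (mul_le_of_le_one_right' (hle _)) he
  have hstep : ∀ n, vW W ((seq (n + 1) : W.adicCompletion K) - seq n) ≤ exp (-((n : ℤ) + 1)) := fun n => by
    rw [hseqS]
    show vW W (((seq n : W.adicCompletion K) - d * f.eval (seq n)) - seq n) ≤ _
    rw [show (seq n : W.adicCompletion K) - d * f.eval (seq n) - seq n = -((d : W.adicCompletion K) * f.eval (seq n)) by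
      ring, Valuation.map_neg, map_mul]
    exact (mul_le_of_le_one_left' (hle d)).trans (key n).1
  have htail : ∀ n m, n ≤ m → vW W ((seq m : W.adicCompletion K) - seq n) ≤ exp (-((n : ℤ) + 1)) := by
    intro n m hnm
    induction m, hnm using Nat.le_induction with
    | base => rw [sub_self, map_zero]; exact zero_le
    | succ m hm ih =>
      rw [show (seq (m + 1) : W.adicCompletion K) - seq n = (seq (m + 1) - seq m) + (seq m - seq n) by ring]
      exact ((vW W).map_add _ _).trans (max_le ((hstep m).trans (exp_le_exp.2 (by omega))) ih)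
  have hball : ∀ U ∈ nhds (0 : W.adicCompletion K), ∃ N : ℕ, ∀ y, vW W y ≤ exp (-(N : ℤ)) → y ∈ U := by
    intro U hU
    obtain ⟨γ, hγ⟩ := Valued.mem_nhds_zero.1 hU
    have hne : MonoidWithZeroHom.ValueGroup₀.embedding γ.1 ≠ 0 := fun h =>
      γ.ne_zero (MonoidWithZeroHom.ValueGroup₀.embedding_strictMono.injective (h.trans (map_zero _).symm))
    obtain ⟨z, hz⟩ := WithZero.ne_zero_iff_exists.1 hne
    refine ⟨(1 - Multiplicative.toAdd z).toNat, fun y hy => hγ ?_⟩
    rw [Set.mem_ofPred_eq, Valuation.restrict_lt_iff_lt_embedding, ← hz]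
    refine hy.trans_lt ?_
    show exp _ < exp (Multiplicative.toAdd z)
    rw [exp_lt_exp]
    omega
  have hcauchy : CauchySeq fun n => (seq n : W.adicCompletion K) := by
    rw [cauchySeq_iff]
    intro V hV
    rw [uniformity_eq_comap_nhds_zero (W.adicCompletion K), Filter.mem_comap] at hV
    obtain ⟨U, hU, hUV⟩ := hV
    obtain ⟨N, hN⟩ := hball U hU
    refine ⟨N, fun i hi j hj => hUV (hN _ ?_)⟩
    show vW W ((seq j : W.adicCompletion K) - seq i) ≤ _
    rw [show (seq j : W.adicCompletion K) - seq i = (seq j - seq N) - (seq i - seq N) by ring]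
    exact (Valuation.map_sub _ _ _).trans (max_le ((htail N j hj).trans (exp_le_exp.2 (by omega)))
      ((htail N i hi).trans (exp_le_exp.2 (by omega))))
  obtain ⟨b, hb⟩ := cauchySeq_tendsto_of_complete hcauchy
  have hclosed : ∀ (c : W.adicCompletion K) (N : ℤ), IsClosed {y : W.adicCompletion K | vW W (y - c) ≤ exp N} := by
    intro c N
    obtain ⟨g, hg⟩ := W.valuedAdicCompletion_surjective K (exp N)
    have : {y : W.adicCompletion K | vW W (y - c) ≤ exp N} =
        (fun y => y - c) ⁻¹' {y | Valued.v.restrict y ≤ Valued.v.restrict g} := by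
      ext y
      simp [hg]
    rw [this]
    exact (Valued.isClosed_closedBall _ _).preimage (continuous_id.sub continuous_const)
  have hb' : ∀ n, vW W (b - seq n) ≤ exp (-((n : ℤ) + 1)) := fun n =>
    (hclosed _ _).mem_of_tendsto hb (Filter.eventually_atTop.2 ⟨n, fun m hm => htail n m hm⟩)
  have hbO : vW W b ≤ 1 := by
    rw [show b = (b - seq 0) + seq 0 by ring]
    exact ((vW W).map_add _ _).trans (max_le ((hb' 0).trans (by rw [← exp_zero, exp_le_exp]; omega)) (hle _))
  refine ⟨⟨b, hbO⟩, ?_⟩
  have hall : ∀ n : ℕ, vW W ((f.eval (⟨b, hbO⟩ : O) : O) : W.adicCompletion K) ≤ exp (-((n : ℤ) + 1)) := fun n => by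
    obtain ⟨s, hs⟩ := sub_dvd_eval_sub (⟨b, hbO⟩ : O) (seq n) f
    rw [show f.eval (⟨b, hbO⟩ : O) = ((⟨b, hbO⟩ : O) - seq n) * s + f.eval (seq n) by rw [← hs]; ring]
    refine ((vW W).map_add _ _).trans (max_le ?_ (key n).1)
    show vW W ((b - seq n) * (s : W.adicCompletion K)) ≤ _
    rw [map_mul]
    exact (mul_le_of_le_one_right' (hle s)).trans (hb' n)
  apply Subtype.ext
  by_contra hne
  obtain ⟨m, hm⟩ := WithZero.ne_zero_iff_exists.1 ((vW W).ne_zero_iff.2 (fun h => hne (h.trans rfl)))
  have := hall (-Multiplicative.toAdd m).toNat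
  rw [← hm] at this
  have h2 : Multiplicative.toAdd m ≤ -(((-Multiplicative.toAdd m).toNat : ℤ) + 1) := exp_le_exp.1 this
  omega

variable {L : Type u} [Field L] [Algebra K L] [FiniteDimensional K L]

omit [FiniteDimensional K L] in
theorem valuation_coeff_le_one {x : L} (hx : IsIntegral (W.valuation K).valuationSubring x) (i : ℕ) :
    W.valuation K ((minpoly K x).coeff i) ≤ 1 := by
  rw [minpoly.isIntegrallyClosed_eq_field_fractions' K hx, coeff_map]
  exact ((minpoly (W.valuation K).valuationSubring x).coeff i).2

omit [NumberField K] in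
theorem norm_add_algebraMap {x : L} (hx : IntermediateField.adjoin K {x} = ⊤) (a : K) :
    Algebra.norm K (x + algebraMap K L a) = (-1) ^ Module.finrank K L * (minpoly K x).eval (-a) := by
  have hint : IsIntegral K (x + algebraMap K L a) := Algebra.IsIntegral.isIntegral _
  have htop : IntermediateField.adjoin K {x + algebraMap K L a} = ⊤ := by
    refine top_le_iff.1 (hx ▸ ?_)
    rw [IntermediateField.adjoin_simple_le_iff]
    have h1 := IntermediateField.mem_adjoin_simple_self K (x + algebraMap K L a)
    simpa using sub_mem h1 ((IntermediateField.adjoin K {x + algebraMap K L a}).algebraMap_mem a)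
  let pb := ((IntermediateField.adjoin.powerBasis hint).map
    ((IntermediateField.equivOfEq htop).trans IntermediateField.topEquiv))
  have hgen : pb.gen = x + algebraMap K L a := rfl
  have := Algebra.PowerBasis.norm_gen_eq_coeff_zero_minpoly pb
  rw [hgen, ← PowerBasis.finrank pb, minpoly.add_algebraMap] at this
  rw [this, coeff_zero_eq_eval_zero, eval_comp]
  simp

omit [FiniteDimensional K L] in
/-- A root in the completion from a root modulo `W` of a separable polynomial. -/
theorem exists_root_of_bezout (p u s : K[X]) (hp : ∀ i, W.valuation K (p.coeff i) ≤ 1)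
    (hus : u * p + s * p.derivative = 1)
    (hu : ∀ i, W.valuation K (u.coeff i) ≤ 1) (hs : ∀ i, W.valuation K (s.coeff i) ≤ 1)
    {r : K} (hr : W.valuation K r ≤ 1) (h0 : W.valuation K (p.eval r) < 1) :
    ∃ b : W.adicCompletion K, aeval b p = 0 := by
  let R : Subring K := (W.valuation K).valuationSubring.toSubring
  let ι : R →+* W.adicCompletionIntegers K :=
    ((algebraMap K (W.adicCompletion K)).comp R.subtype).codRestrict _ fun z => by
      show vW W (algebraMap K (W.adicCompletion K) z.1) ≤ 1
      exact (W.valuedAdicCompletion_eq_valuation' (z.1)).trans_le z.2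
  have hmem : ∀ p : K[X], (∀ i, W.valuation K (p.coeff i) ≤ 1) → ∃ p' : R[X], p'.map R.subtype = p := fun p hp =>
    mem_lifts p |>.1 ((lifts_iff_coeff_lifts p).2 fun i => ⟨⟨p.coeff i, hp i⟩, rfl⟩)
  obtain ⟨g, hp'⟩ := hmem _ hp
  obtain ⟨u', hu'⟩ := hmem _ hu
  obtain ⟨s', hs'⟩ := hmem _ hs
  let r' : R := ⟨r, hr⟩
  have hev : ∀ p : R[X], ((p.eval r' : R) : K) = (p.map R.subtype).eval r := fun p => by
    rw [eval_map, ← R.subtype_apply, ← eval₂_at_apply]
    rfl
  have hv : ∀ z : R, vW W (ι z : W.adicCompletion K) = W.valuation K (z : K) := fun z =>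
    W.valuedAdicCompletion_eq_valuation' (z : K)
  have hd : W.valuation K ((g.derivative.eval r' : R) : K) = 1 := by
    refine le_antisymm (g.derivative.eval r').2 (not_lt.1 fun hlt => ?_)
    have h := congrArg (fun p : K[X] => W.valuation K (p.eval r)) hus
    simp only [eval_add, eval_mul, eval_one, map_one] at h
    rw [hev, ← derivative_map, hp'] at hlt
    refine absurd h (ne_of_lt ((Valuation.map_add _ _ _).trans_lt (max_lt ?_ ?_)))
    · rw [map_mul, ← hu', ← hev]
      exact lt_of_le_of_lt (mul_le_of_le_one_left' (u'.eval r').2) h0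
    · rw [map_mul, ← hs', ← hev]
      exact lt_of_le_of_lt (mul_le_of_le_one_left' (s'.eval r').2) hlt
  obtain ⟨b, hb⟩ := exists_root W (g.map ι) (ι r')
    (by rw [eval_map, eval₂_at_apply, hv, hev, hp']; exact h0)
    (by rw [derivative_map, eval_map, eval₂_at_apply, hv]; exact hd)
  have hroot : aeval (b : W.adicCompletion K) p = 0 := by
    have h := congrArg (W.adicCompletionIntegers K).subtype hb
    rw [map_zero, eval_map, hom_eval₂] at h
    rw [← hp', aeval_def, eval₂_map]
    exact h
  exact ⟨_, hroot⟩

/-- An embedding into a completion from a root modulo `W` of a primitive minimal polynomial. -/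
theorem exists_algHom {x : L} (hx : IntermediateField.adjoin K {x} = ⊤)
    (hg : ∀ i, W.valuation K ((minpoly K x).coeff i) ≤ 1) (u s : K[X])
    (hus : u * minpoly K x + s * (minpoly K x).derivative = 1)
    (hu : ∀ i, W.valuation K (u.coeff i) ≤ 1) (hs : ∀ i, W.valuation K (s.coeff i) ≤ 1)
    {r : K} (hr : W.valuation K r ≤ 1) (h0 : W.valuation K ((minpoly K x).eval r) < 1) :
    Nonempty (L →ₐ[K] W.adicCompletion K) := by
  obtain ⟨b, hroot⟩ := exists_root_of_bezout W _ u s hg hus hu hs hr h0
  have hint : IsIntegral K x := Algebra.IsIntegral.isIntegral _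
  exact ⟨((IntermediateField.adjoin.powerBasis hint).lift b
    (by rwa [IntermediateField.adjoin.powerBasis_gen, IntermediateField.minpoly_gen])).comp
    ((IntermediateField.equivOfEq hx).trans IntermediateField.topEquiv).symm.toAlgHom⟩

end Groth.Agent.NF31
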