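import Groth.Agent.NF31.Core
import Mathlib.RingTheory.Norm.Basic
import Mathlib.RingTheory.TensorProduct.Free
import Mathlib.Topology.Instances.Matrix

/-! Elements near local norms that are units or split at the remaining places. -/

set_option autoImplicit false

universe u

open NumberField IsDedekindDomain TensorProduct

namespace Groth.Agent.NF31

variable {k L : Type u} [Field k] [Field L] [Algebra k L]
  {ι : Type u} [Fintype ι] [DecidableEq ι] (B : Module.Basis ι k L)

/-- The norm form of a basis over an algebra `R`. -/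
noncomputable def normForm (R : Type u) [CommRing R] [Algebra k R] (c : ι → R) : R :=
  (∑ i, c i • (Algebra.leftMulMatrix B (B i)).map (algebraMap k R)).det

theorem leftMulMatrix_tmul (R : Type u) [CommRing R] [Algebra k R] (l : L) :
    Algebra.leftMulMatrix (Algebra.TensorProduct.basis R B) ((1 : R) ⊗ₜ[k] l) =
      (Algebra.leftMulMatrix B l).map (algebraMap k R) := by
  ext i j
  rw [Algebra.leftMulMatrix_eq_repr_mul, Matrix.map_apply, Algebra.leftMulMatrix_eq_repr_mul,
    Algebra.TensorProduct.basis_apply, Algebra.TensorProduct.tmul_mul_tmul, one_mul,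
    Algebra.TensorProduct.basis_repr_tmul]
  simp

theorem norm_eq_normForm (R : Type u) [CommRing R] [Algebra k R] (x : R ⊗[k] L) :
    Algebra.norm R x = normForm B R fun i => (Algebra.TensorProduct.basis R B).repr x i := by
  rw [Algebra.norm_eq_matrix_det (Algebra.TensorProduct.basis R B), normForm]
  congr 1
  conv_lhs => rw [← (Algebra.TensorProduct.basis R B).sum_repr x]
  simp only [map_sum, map_smul]
  refine Finset.sum_congr rfl fun i _ => ?_
  rw [Algebra.TensorProduct.basis_apply, leftMulMatrix_tmul]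

theorem algebraMap_norm (R : Type u) [CommRing R] [Algebra k R] (z : L) :
    algebraMap k R (Algebra.norm k z) = normForm B R fun i => algebraMap k R (B.repr z i) := by
  rw [Algebra.norm_eq_matrix_det B, RingHom.map_det, normForm, RingHom.mapMatrix_apply]
  congr 1
  have h : Algebra.leftMulMatrix B z = ∑ i, B.repr z i • Algebra.leftMulMatrix B (B i) := by
    simp only [← map_smul, ← map_sum, B.sum_repr]
  ext a b
  rw [h]
  simp [Matrix.sum_apply, Algebra.smul_def (R := k) (A := R), ← map_mul]

theorem continuous_normForm (R : Type u) [CommRing R] [Algebra k R] [TopologicalSpace R] [IsTopologicalRing R] :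
    Continuous (normForm B R) := by
  unfold normForm
  fun_prop

theorem eq_of_liesOver_self {k : Type u} [Field k] [NumberField k] {v W : HeightOneSpectrum (𝓞 k)}
    (h : W.asIdeal.LiesOver v.asIdeal) : W = v := by
  refine HeightOneSpectrum.ext ?_
  rw [h.over]
  exact Ideal.ext fun x => Iff.rfl

/-- Elements near local norms, integral off `v₀`, units or split at the places outside the given set. -/
theorem exists_near_unit_or_split (k L : Type u) [Field k] [NumberField k] [Field L] [NumberField L] [Algebra k L]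
    (Sf : Finset (HeightOneSpectrum (𝓞 k))) (Si : Finset (InfinitePlace k))
    (tf : (v : HeightOneSpectrum (𝓞 k)) → v.adicCompletion k) (ti : (w : InfinitePlace k) → w.Completion)
    (htf : ∀ v ∈ Sf, ∃ x : (v.adicCompletion k) ⊗[k] L, Algebra.norm (v.adicCompletion k) x = tf v)
    (hti : ∀ w ∈ Si, ∃ x : w.Completion ⊗[k] L, Algebra.norm w.Completion x = ti w)
    (Uf : (v : HeightOneSpectrum (𝓞 k)) → Set (v.adicCompletion k))
    (hUf : ∀ v ∈ Sf, IsOpen (Uf v) ∧ tf v ∈ Uf v)
    (Ui : (w : InfinitePlace k) → Set w.Completion)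
    (hUi : ∀ w ∈ Si, IsOpen (Ui w) ∧ ti w ∈ Ui w)
    (v₀ : HeightOneSpectrum (𝓞 k)) (hv₀ : v₀ ∉ Sf) (hLv₀ : Nonempty (L →ₐ[k] v₀.adicCompletion k))
    (A : Finset k) :
    ∃ t : k, t ∉ A ∧ (∀ v ∈ Sf, algebraMap k (v.adicCompletion k) t ∈ Uf v) ∧
      (∀ w ∈ Si, algebraMap k w.Completion t ∈ Ui w) ∧
      (∀ v : HeightOneSpectrum (𝓞 k), v ∉ Sf → v ≠ v₀ → v.valuation k t ≤ 1) ∧
      ∀ v : HeightOneSpectrum (𝓞 k), v ∉ Sf → v.valuation k t = 1 ∨ Nonempty (L →ₐ[k] v.adicCompletion k) := by
  classical
  have : FiniteDimensional k L := FiniteDimensional.right ℚ k L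
  let B := Module.Free.chooseBasis k L
  obtain ⟨z, hA, hP, hi, hW⟩ := exists_norm_near k k L v₀
    (fun W hW => by obtain rfl := eq_of_liesOver_self hW; exact hLv₀) Sf hv₀ B
    (fun v => normForm B (v.adicCompletion k) ⁻¹' Uf v)
    (fun v hv => ⟨(hUf v hv).1.preimage (continuous_normForm B _), by
      obtain ⟨x, hx⟩ := htf v hv
      exact ⟨_, Set.mem_preimage.2 (by rw [← norm_eq_normForm, hx]; exact (hUf v hv).2)⟩⟩)
    (fun w => if w ∈ Si then normForm B w.Completion ⁻¹' Ui w else Set.univ)
    (fun w => by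
      by_cases hw : w ∈ Si
      · rw [if_pos hw]
        refine ⟨(hUi w hw).1.preimage (continuous_normForm B _), ?_⟩
        obtain ⟨x, hx⟩ := hti w hw
        exact ⟨_, Set.mem_preimage.2 (by rw [← norm_eq_normForm, hx]; exact (hUi w hw).2)⟩
      · rw [if_neg hw]
        exact ⟨isOpen_univ, Set.univ_nonempty⟩)
    A
  have hu : ∀ v : HeightOneSpectrum (𝓞 k), v.under (𝓞 k) = v := fun v => HeightOneSpectrum.ext (Ideal.ext fun x => Iff.rfl)
  refine ⟨Algebra.norm k z, hA, fun v hv => ?_, fun w hw => ?_, fun v hv hv' => ?_, fun v hv => ?_⟩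
  · rw [algebraMap_norm B]
    exact hP v hv
  · rw [algebraMap_norm B]
    have h := hi w
    rwa [if_pos hw] at h
  · exact (hW v (by erw [hu]; exact hv)).1 (by erw [hu]; exact hv')
  · exact (hW v (by erw [hu]; exact hv)).2

end Groth.Agent.NF31
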