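import Groth.Agent.NF31.Congr
import Groth.Agent.NF31.TowerNorm
import Groth.Agent.NF31.NearUnit
import Mathlib.Algebra.Polynomial.BigOperators

/-! Locally split values of linear forms. -/

set_option autoImplicit false

universe u

open NumberField IsDedekindDomain TensorProduct Polynomial

namespace Groth.Agent.NF31

theorem exists_boxes {κ : Type} [Finite κ] {ι : κ → Type u} {R : Type u} [TopologicalSpace R]
    {O : Set (∀ i, ι i → R)} (hO : IsOpen O) (hne : O.Nonempty) :
    ∃ U : ∀ i, Set (ι i → R), (∀ i, IsOpen (U i) ∧ (U i).Nonempty) ∧ Set.univ.pi U ⊆ O := by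
  obtain ⟨y, hy⟩ := hne
  obtain ⟨U, hU, hsub⟩ := isOpen_pi_iff'.1 hO y hy
  exact ⟨U, fun i => ⟨(hU i).1, ⟨_, (hU i).2⟩⟩, hsub⟩

/-- A functional not vanishing identically does not vanish on some power. -/
theorem exists_pow_ne_zero {k K : Type u} [Field k] [CharZero k] [Field K] [Algebra k K] (φ : K →ₗ[k] k)
    (hφ : φ ≠ 0) {d : ℕ} (hd : d ≠ 0) : ∃ y : K, φ (y ^ d) ≠ 0 := by
  by_contra hne
  push Not at hne
  refine hφ (LinearMap.ext fun y => ?_)
  let P : k[X] := ∑ m ∈ Finset.range (d + 1), Polynomial.C (φ (y ^ m) * (d.choose m : k)) * X ^ (d - m)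
  have hP : P = 0 := by
    refine Polynomial.eq_zero_of_infinite_isRoot P ((Set.infinite_range_of_injective (Nat.cast_injective (R := k))).mono ?_)
    rintro _ ⟨j, rfl⟩
    show P.IsRoot (j : k)
    rw [IsRoot.def, ← hne (y + algebraMap k K (j : k)), add_pow, map_sum, eval_finsetSum]
    refine Finset.sum_congr rfl fun m _ => ?_
    rw [eval_mul, eval_C, eval_pow, eval_X,
      show y ^ m * algebraMap k K (j : k) ^ (d - m) * ((d.choose m : ℕ) : K) =
        ((j : k) ^ (d - m) * (d.choose m : k)) • y ^ m by rw [Algebra.smul_def, map_mul, map_pow, map_natCast (algebraMap k K) (d.choose m)]; ring,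
      map_smul, smul_eq_mul]
    ring
  have h := congrArg (fun p : k[X] => p.coeff (d - 1)) hP
  simp only [P, finsetSum_coeff, coeff_C_mul_X_pow, coeff_zero] at h
  rw [Finset.sum_eq_single 1 (fun m hm h1 => if_neg (by have := Finset.mem_range.1 hm; omega))
    (fun h1 => absurd (Finset.mem_range.2 (by omega)) h1), if_pos rfl, pow_one, Nat.choose_one_right, mul_eq_zero] at h
  exact h.resolve_right (Nat.cast_ne_zero.2 hd)

variable {k : Type u} [Field k] {n : ℕ} {K L : Fin n → Type u} [∀ i, Field (K i)] [∀ i, Field (L i)]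
  [∀ i, Algebra k (K i)] [∀ i, Algebra k (L i)] [∀ i, Algebra (K i) (L i)] [∀ i, IsScalarTower k (K i) (L i)]
  {ι : Fin n → Type u} [∀ i, Fintype (ι i)] (B : ∀ i, Module.Basis (ι i) k (L i))
  {σ : Fin n → Type u} [∀ i, Fintype (σ i)] [∀ i, DecidableEq (σ i)] (β : ∀ i, Module.Basis (σ i) (K i) (L i))

/-- An affine function of the norms, after base change. -/
noncomputable def affForm (r : ∀ i, K i) (φ : ∀ i, K i →ₗ[k] k) (p₀ : k) (R : Type u) [CommRing R] [Algebra k R]
    (c : ∀ i, ι i → R) : R :=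
  algebraMap k R p₀ + ∑ i, extFun R (φ i) (((1 : R) ⊗ₜ[k] r i) * towerForm (B i) (β i) R (c i))

theorem affForm_algebraMap (r : ∀ i, K i) (φ : ∀ i, K i →ₗ[k] k) (p₀ : k) (R : Type u) [CommRing R] [Algebra k R]
    (z : ∀ i, L i) :
    affForm B β r φ p₀ R (fun i m => algebraMap k R ((B i).repr (z i) m)) =
      algebraMap k R (p₀ + ∑ i, φ i (r i * Algebra.norm (K i) (z i))) := by
  rw [affForm, map_add, map_sum]
  congr 1
  refine Finset.sum_congr rfl fun i _ => ?_
  rw [towerForm_algebraMap, Algebra.TensorProduct.tmul_mul_tmul, mul_one, extFun_tmul, one_mul]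

omit [∀ i, IsScalarTower k (K i) (L i)] in
theorem continuous_affForm [∀ i, Module.Finite k (K i)] (r : ∀ i, K i) (φ : ∀ i, K i →ₗ[k] k) (p₀ : k) (R : Type u)
    [CommRing R] [Algebra k R] [TopologicalSpace R] [IsTopologicalRing R] :
    Continuous (affForm B β r φ p₀ R) :=
  continuous_const.add (continuous_finsetSum _ fun i _ =>
    (continuous_extFun_towerForm (B i) (β i) R (φ i) _).comp (continuous_apply i))

theorem affForm_target {a b : ∀ i, K i} (hb : ∀ i, b i ≠ 0) (φ : ∀ i, K i →ₗ[k] k) (p₀ : k) {e₀ e₁ : k}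
    (h₁ : ∑ i, φ i 1 = e₁) (h₀ : p₀ - ∑ i, φ i (a i) = e₀)
    (R : Type u) [CommRing R] [Algebra k R] (t : R) (x : ∀ i, R ⊗[k] L i)
    (hx : ∀ i, letI := (Algebra.TensorProduct.map (AlgHom.id k R)
        (IsScalarTower.toAlgHom k (K i) (L i))).toRingHom.toAlgebra
      Algebra.norm (R ⊗[k] K i) (x i) = (1 : R) ⊗ₜ[k] b i * (t ⊗ₜ[k] (1 : K i) - (1 : R) ⊗ₜ[k] a i)) :
    affForm B β (fun i => (b i)⁻¹) φ p₀ R (fun i m => (Algebra.TensorProduct.basis R (B i)).repr (x i) m) =
      t * algebraMap k R e₁ + algebraMap k R e₀ := by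
  rw [affForm, ← h₀, ← h₁, map_sub, map_sum, map_sum, Finset.mul_sum, add_comm (∑ i, t * _), sub_add_eq_add_sub,
    add_sub_assoc, ← Finset.sum_sub_distrib]
  congr 1
  refine Finset.sum_congr rfl fun i _ => ?_
  rw [← norm_eq_towerForm, hx, ← mul_assoc, Algebra.TensorProduct.tmul_mul_tmul, one_mul, inv_mul_cancel₀ (hb i),
    ← Algebra.TensorProduct.one_def, one_mul, map_sub, extFun_tmul, extFun_tmul, one_mul]

variable [NumberField k] [∀ i, NumberField (K i)] [∀ i, NumberField (L i)]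

omit [∀ i, IsScalarTower k (K i) (L i)] [∀ i, Algebra k (L i)] in
theorem exists_denominator_ne_zero (b : ∀ i, K i) (hb : ∀ i, b i ≠ 0) (ψ : ∀ i, K i →ₗ[k] k) (q₀ : k) (a : ∀ i, K i)
    (hψa : q₀ - ∑ i, ψ i (a i) = 1) :
    ∃ z : ∀ i, L i, q₀ + ∑ i, ψ i ((b i)⁻¹ * Algebra.norm (K i) (z i)) ≠ 0 := by
  classical
  by_cases h : ∀ i, ψ i = 0
  · refine ⟨fun i => 1, ?_⟩
    simp only [h, LinearMap.zero_apply, Finset.sum_const_zero, sub_zero, add_zero] at hψa ⊢
    rw [hψa]; exact one_ne_zero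
  push Not at h
  obtain ⟨i₀, hi₀⟩ := h
  let φ : K i₀ →ₗ[k] k := ψ i₀ ∘ₗ LinearMap.mulLeft k (b i₀)⁻¹
  have hφ : φ ≠ 0 := fun he => hi₀ (LinearMap.ext fun y => by
    have h2 := LinearMap.congr_fun he (b i₀ * y)
    simpa [φ, hb i₀] using h2)
  have : FiniteDimensional (K i₀) (L i₀) := FiniteDimensional.right ℚ (K i₀) (L i₀)
  set d := Module.finrank (K i₀) (L i₀) with hd
  obtain ⟨y, hy⟩ := exists_pow_ne_zero φ hφ (d := d) (hd ▸ Module.finrank_pos).ne'
  let z : K i₀ → ∀ i, L i := fun w => Function.update (fun _ => 1) i₀ (algebraMap (K i₀) (L i₀) w)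
  let rest := q₀ + ∑ i ∈ Finset.univ.erase i₀, ψ i ((b i)⁻¹)
  have hz : ∀ w, q₀ + ∑ i, ψ i ((b i)⁻¹ * Algebra.norm (K i) (z w i)) = rest + φ (w ^ d) := by
    intro w
    rw [← Finset.sum_erase_add _ _ (Finset.mem_univ i₀), ← add_assoc]
    congr 1
    · congr 1
      refine Finset.sum_congr rfl fun i hi => ?_
      simp [z, Finset.ne_of_mem_erase hi]
    · simp [z, φ, Algebra.norm_algebraMap, hd]
  by_cases h1 : rest + φ (y ^ d) = 0
  · refine ⟨z (algebraMap k (K i₀) 2 * y), ?_⟩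
    rw [hz, mul_pow, ← map_pow, ← Algebra.smul_def, map_smul, smul_eq_mul]
    intro h2
    have h3 : ((2 : k) ^ d - 1) * φ (y ^ d) = 0 := by linear_combination h2 - h1
    refine hy ((mul_eq_zero.1 h3).resolve_left (sub_ne_zero.2 fun h4 => ?_))
    have h5 : (2 : ℕ) ^ d = 1 := by exact_mod_cast h4
    have := Nat.one_lt_two_pow (n := d) (hd ▸ Module.finrank_pos).ne'
    omega
  · exact ⟨z y, by rwa [hz]⟩

/-- Locally split values: the general affine statement. -/
theorem exists_locally_split {n : ℕ} (k : Type u) [Field k] [NumberField k]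
    (K L : Fin n → Type u) [∀ i, Field (K i)] [∀ i, NumberField (K i)] [∀ i, Algebra k (K i)]
    [∀ i, Field (L i)] [∀ i, NumberField (L i)] [∀ i, Algebra (K i) (L i)] [∀ i, Algebra k (L i)]
    [∀ i, IsScalarTower k (K i) (L i)]
    (a b : ∀ i, K i) (hb : ∀ i, b i ≠ 0)
    (φ ψ : ∀ i, K i →ₗ[k] k) (p₀ q₀ : k)
    (hφ1 : ∑ i, φ i 1 = 1) (hφa : p₀ - ∑ i, φ i (a i) = 0) (hψ1 : ∑ i, ψ i 1 = 0) (hψa : q₀ - ∑ i, ψ i (a i) = 1)
    (hq₀ : ∀ v : HeightOneSpectrum (𝓞 k), v.valuation k q₀ ≤ 1)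
    (hinv : ∀ (x : ∀ i, K i) (i : Fin n),
      algebraMap k (K i) (p₀ + ∑ j, φ j (x j)) - algebraMap k (K i) (q₀ + ∑ j, ψ j (x j)) * a i = x i)
    (Sf : Finset (HeightOneSpectrum (𝓞 k))) (Si : Finset (InfinitePlace k))
    (hSb : ∀ i, ∀ W : HeightOneSpectrum (𝓞 (K i)), W.valuation (K i) (b i) ≠ 1 → ∃ v ∈ Sf, W.asIdeal.LiesOver v.asIdeal)
    (hSram : ∀ i, ∀ Q : Ideal (𝓞 (L i)), Q.IsPrime → Q ≠ ⊥ → Q.ramificationIdx (𝓞 (K i)) ≠ 1 →
      ∃ v ∈ Sf, Q.LiesOver v.asIdeal)
    (tf : (v : HeightOneSpectrum (𝓞 k)) → v.adicCompletion k) (ti : (w : InfinitePlace k) → w.Completion)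
    (htf : ∀ i, ∀ v ∈ Sf,
      letI := (Algebra.TensorProduct.map (AlgHom.id k (v.adicCompletion k))
        (IsScalarTower.toAlgHom k (K i) (L i))).toRingHom.toAlgebra
      ∃ x : (v.adicCompletion k) ⊗[k] L i, Algebra.norm ((v.adicCompletion k) ⊗[k] K i) x =
          (1 : v.adicCompletion k) ⊗ₜ[k] b i * (tf v ⊗ₜ[k] (1 : K i) - (1 : v.adicCompletion k) ⊗ₜ[k] a i))
    (hti : ∀ i, ∀ w ∈ Si,
      letI := (Algebra.TensorProduct.map (AlgHom.id k w.Completion)
        (IsScalarTower.toAlgHom k (K i) (L i))).toRingHom.toAlgebra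
      ∃ x : w.Completion ⊗[k] L i, Algebra.norm (w.Completion ⊗[k] K i) x =
          (1 : w.Completion) ⊗ₜ[k] b i * (ti w ⊗ₜ[k] (1 : K i) - (1 : w.Completion) ⊗ₜ[k] a i))
    (Uf : (v : HeightOneSpectrum (𝓞 k)) → Set (v.adicCompletion k))
    (hUf : ∀ v ∈ Sf, IsOpen (Uf v) ∧ tf v ∈ Uf v)
    (Ui : (w : InfinitePlace k) → Set w.Completion) (hUi : ∀ w ∈ Si, IsOpen (Ui w) ∧ ti w ∈ Ui w) :
    ∃ t₀ : k, (∀ v ∈ Sf, algebraMap k (v.adicCompletion k) t₀ ∈ Uf v) ∧
      (∀ w ∈ Si, algebraMap k w.Completion t₀ ∈ Ui w) ∧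
      ∀ i, ∀ W : HeightOneSpectrum (𝓞 (K i)), W.valuation (K i) (algebraMap k (K i) t₀ - a i) < 1 →
        (∃ v ∈ Sf, W.asIdeal.LiesOver v.asIdeal) ∨ Nonempty (L i →ₐ[K i] W.adicCompletion (K i)) := by
  classical
  have : ∀ i, FiniteDimensional k (L i) := fun i => FiniteDimensional.right ℚ k (L i)
  have : ∀ i, FiniteDimensional k (K i) := fun i => FiniteDimensional.right ℚ k (K i)
  have : ∀ i, FiniteDimensional (K i) (L i) := fun i => FiniteDimensional.right ℚ (K i) (L i)
  -- a common splitting place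
  let Ω := AlgebraicClosure k
  let N : IntermediateField k Ω := ⨆ i, IntermediateField.normalClosure k (L i) Ω
  have : FiniteDimensional k N := IntermediateField.finiteDimensional_iSup_of_finite
  have : Normal k N := IntermediateField.normal_iSup k Ω _
  have hι : ∀ i, Nonempty (L i →ₐ[k] N) := fun i => by
    let f : L i →ₐ[k] Ω := IsAlgClosed.lift
    exact ⟨f.codRestrict N.toSubalgebra fun x =>
      le_iSup (fun i => IntermediateField.normalClosure k (L i) Ω) i (AlgHom.fieldRange_le_normalClosure f ⟨x, rfl⟩)⟩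
  obtain ⟨v₀, hv₀, hsplit⟩ := exists_split_normal k N Sf
  -- functionals
  let B := fun i => Module.Free.chooseBasis k (L i)
  let β := fun i => Module.Free.chooseBasis (K i) (L i)
  let E₀ := fun i => Module.Free.chooseBasis k (K i)
  choose D hD0 hDE using fun i => exists_integral_multiples (𝓞 k) k (Finset.univ.image (E₀ i))
  have hDk : ∀ i, (D i : k) ≠ 0 := fun i h => hD0 i (RingOfIntegers.coe_eq_zero_iff.1 h)
  let ψ' : ∀ i, K i →ₗ[k] k := fun i => ψ i ∘ₗ LinearMap.mulLeft k (b i)⁻¹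
  have hψ' : ∀ i x, ψ' i x = ψ i ((b i)⁻¹ * x) := fun _ _ => rfl
  let Φ : ∀ i, Option (Module.Free.ChooseBasisIndex k (K i)) → (K i →ₗ[k] k) := fun i o =>
    o.elim (ψ' i) fun l => (D i : k)⁻¹ • (E₀ i).coord l
  choose G hG using fun i => Module.Finite.fg_top (R := ℤ) (M := 𝓞 (K i))
  have hbadfin : {v : HeightOneSpectrum (𝓞 k) | ∃ i, ∃ g ∈ G i, ¬ v.valuation k (ψ' i (g : K i)) ≤ 1}.Finite :=
    (Set.finite_iUnion fun i => (G i).finite_toSet.biUnion fun g _ => finite_setOf_valuation_gt (ψ' i (g : K i))).subset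
      fun v ⟨i, g, hg, h⟩ => Set.mem_iUnion.2 ⟨i, Set.mem_biUnion hg h⟩
  let E := (hbadfin.toFinset \ Sf).erase v₀
  let P := Sf ∪ E
  have hv₀P : v₀ ∉ P := by simp [P, E, hv₀]
  have hES : ∀ v ∈ E, v ∉ Sf := fun v hv => (Finset.mem_sdiff.1 (Finset.mem_of_mem_erase hv)).2
  have hover : ∀ {i} (W : HeightOneSpectrum (𝓞 (K i))) {v : HeightOneSpectrum (𝓞 k)}, v ∉ Sf →
      W.asIdeal.LiesOver v.asIdeal → ¬ ∃ v ∈ Sf, W.asIdeal.LiesOver v.asIdeal := by
    rintro i W v hv hW ⟨v', hv', hW'⟩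
    exact hv ((eq_under (v := v') W).trans (eq_under (v := v) W).symm ▸ hv')
  let pR := fun (R : Type u) [CommRing R] [Algebra k R] => affForm B β (fun i => (b i)⁻¹) φ p₀ R
  let qR := fun (R : Type u) [CommRing R] [Algebra k R] => affForm B β (fun i => (b i)⁻¹) ψ q₀ R
  obtain ⟨zq, hzq⟩ := exists_denominator_ne_zero (L := L) b hb ψ q₀ a hψa
  -- boxes
  have hf : ∀ v : HeightOneSpectrum (𝓞 k), ∃ U : ∀ i, Set (Module.Free.ChooseBasisIndex k (L i) → v.adicCompletion k),
      v ∈ P → (∀ i, IsOpen (U i) ∧ (U i).Nonempty) ∧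
        (v ∈ Sf → ∀ c, (∀ i, c i ∈ U i) → qR _ c ≠ 0 ∧ pR _ c / qR _ c ∈ Uf v) ∧
        (v ∈ E → ∀ i o c, c ∈ U i → Valued.v (extFun (v.adicCompletion k) (Φ i o)
          (towerForm (B i) (β i) (v.adicCompletion k) c) - algebraMap k _ (Φ i o (b i))) < 1) := by
    intro v
    by_cases hv : v ∈ P
    swap
    · exact ⟨fun _ => Set.univ, fun h => absurd h hv⟩
    by_cases hvS : v ∈ Sf
    · choose x hx using fun i => htf i v hvS
      have hp : pR _ (fun i m => (Algebra.TensorProduct.basis _ (B i)).repr (x i) m) = tf v := by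
        show affForm B β _ φ p₀ _ _ = _
        rw [affForm_target B β hb φ p₀ hφ1 hφa _ (tf v) x hx, map_one, mul_one, map_zero, add_zero]
      have hq : qR _ (fun i m => (Algebra.TensorProduct.basis _ (B i)).repr (x i) m) = 1 := by
        show affForm B β _ ψ q₀ _ _ = _
        rw [affForm_target B β hb ψ q₀ hψ1 hψa _ (tf v) x hx, map_zero, mul_zero, map_one, zero_add]
      have hQ : IsOpen {c | qR (v.adicCompletion k) c ≠ 0} :=
        isOpen_ne.preimage (continuous_affForm B β _ ψ q₀ _)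
      obtain ⟨U, hU, hsub⟩ := exists_boxes
        (((continuous_affForm B β (fun i => (b i)⁻¹) φ p₀ (v.adicCompletion k)).continuousOn.div
          (continuous_affForm B β (fun i => (b i)⁻¹) ψ q₀ _).continuousOn fun c hc => hc).isOpen_inter_preimage hQ (hUf v hvS).1)
        ⟨_, show qR _ _ ≠ 0 by rw [hq]; exact one_ne_zero, show pR _ _ / qR _ _ ∈ Uf v by rw [hp, hq, div_one]; exact (hUf v hvS).2⟩
      exact ⟨U, fun _ => ⟨hU, fun _ c hc => hsub fun i _ => hc i, fun h => absurd hvS (hES v h)⟩⟩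
    · have hvE : v ∈ E := (Finset.mem_union.1 hv).resolve_left hvS
      choose M hM using fun i o => exists_small_bound (Φ i o) v
      have hz : ∀ i, ∃ z : L i, ∀ W : HeightOneSpectrum (𝓞 (K i)), W.asIdeal.LiesOver v.asIdeal →
          W.valuation (K i) (Algebra.norm (K i) z - b i) ≤
            WithZero.exp (-((Finset.univ.sup (M i) : ℕ) : ℤ)) := fun i => by
        refine exists_norm_close v (fun W hW Q hQ => ?_) (fun W hW => ?_) _
        · by_contra hne
          obtain ⟨v', hv', hQv'⟩ := hSram i Q.asIdeal Q.isPrime Q.ne_bot hne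
          have := hQ; have := hQv'
          have hW' : W.asIdeal.LiesOver v'.asIdeal := Ideal.LiesOver.tower_bot Q.asIdeal W.asIdeal v'.asIdeal
          exact hover W hvS hW ⟨v', hv', hW'⟩
        · by_contra hne
          exact hover W hvS hW (hSb i W hne)
      choose z hz using hz
      refine ⟨fun i => ⋂ o, (fun c => extFun (v.adicCompletion k) (Φ i o) (towerForm (B i) (β i) (v.adicCompletion k) c) -
          algebraMap k _ (Φ i o (b i))) ⁻¹' {y | Valued.v y < 1}, fun _ => ⟨fun i => ⟨?_, ?_⟩, fun h => absurd h hvS, ?_⟩⟩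
      · refine isOpen_iInter_of_finite fun o => (isOpen_lt_one v).preimage (Continuous.sub ?_ continuous_const)
        simpa using continuous_extFun_towerForm (B i) (β i) (v.adicCompletion k) (Φ i o) 1
      · refine ⟨fun m => algebraMap k _ ((B i).repr (z i) m), Set.mem_iInter.2 fun o => ?_⟩
        rw [Set.mem_preimage, Set.mem_ofPred_eq, towerForm_algebraMap, extFun_tmul, one_mul, ← map_sub, valued_algebraMap,
          ← map_sub]
        refine hM i o _ fun W hW => (hz i W hW).trans (WithZero.exp_le_exp.2 ?_)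
        have := Finset.le_sup (f := M i) (Finset.mem_univ o)
        omega
      · intro _ i o c hc
        exact Set.mem_iInter.1 hc o
  choose Of hOf using hf
  have hi : ∀ w : InfinitePlace k, ∃ U : ∀ i, Set (Module.Free.ChooseBasisIndex k (L i) → w.Completion),
      (∀ i, IsOpen (U i) ∧ (U i).Nonempty) ∧ ∀ c, (∀ i, c i ∈ U i) →
        qR _ c ≠ 0 ∧ (w ∈ Si → pR _ c / qR _ c ∈ Ui w) := by
    intro w
    have hQ : IsOpen {c | qR w.Completion c ≠ 0} := isOpen_ne.preimage (continuous_affForm B β _ ψ q₀ _)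
    by_cases hw : w ∈ Si
    · choose x hx using fun i => hti i w hw
      have hp : pR _ (fun i m => (Algebra.TensorProduct.basis _ (B i)).repr (x i) m) = ti w := by
        show affForm B β _ φ p₀ _ _ = _
        rw [affForm_target B β hb φ p₀ hφ1 hφa _ (ti w) x hx, map_one, mul_one, map_zero, add_zero]
      have hq : qR _ (fun i m => (Algebra.TensorProduct.basis _ (B i)).repr (x i) m) = 1 := by
        show affForm B β _ ψ q₀ _ _ = _
        rw [affForm_target B β hb ψ q₀ hψ1 hψa _ (ti w) x hx, map_zero, mul_zero, map_one, zero_add]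
      obtain ⟨U, hU, hsub⟩ := exists_boxes
        (((continuous_affForm B β (fun i => (b i)⁻¹) φ p₀ w.Completion).continuousOn.div
          (continuous_affForm B β (fun i => (b i)⁻¹) ψ q₀ _).continuousOn fun c hc => hc).isOpen_inter_preimage hQ (hUi w hw).1)
        ⟨_, show qR _ _ ≠ 0 by rw [hq]; exact one_ne_zero, show pR _ _ / qR _ _ ∈ Ui w by rw [hp, hq, div_one]; exact (hUi w hw).2⟩
      exact ⟨U, hU, fun c hc => ⟨(hsub fun i _ => hc i).1, fun _ => (hsub fun i _ => hc i).2⟩⟩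
    · obtain ⟨U, hU, hsub⟩ := exists_boxes hQ ⟨fun i m => algebraMap k _ ((B i).repr (zq i) m), by
        show affForm B β _ ψ q₀ _ _ ≠ 0
        rw [affForm_algebraMap]
        exact (_root_.map_ne_zero _).2 hzq⟩
      exact ⟨U, hU, fun c hc => ⟨hsub fun i _ => hc i, fun h => absurd h hw⟩⟩
  choose Oi hOi hOi' using hi
  have hcore : ∀ i, ∃ z : L i, (∀ v ∈ P, (fun m => algebraMap k (v.adicCompletion k) ((B i).repr z m)) ∈ Of v i) ∧
      (∀ w : InfinitePlace k, (fun m => algebraMap k w.Completion ((B i).repr z m)) ∈ Oi w i) ∧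
      ∀ W : HeightOneSpectrum (𝓞 (K i)), W.under (𝓞 k) ∉ P →
        (W.under (𝓞 k) ≠ v₀ → W.valuation (K i) (Algebra.norm (K i) z) ≤ 1) ∧
        (W.valuation (K i) (Algebra.norm (K i) z) = 1 ∨ Nonempty (L i →ₐ[K i] W.adicCompletion (K i))) := fun i => by
    obtain ⟨z, -, h⟩ := exists_norm_near k (K i) (L i) v₀ (fun W hW => hsplit (K i) (L i) (hι i).some W hW) P hv₀P (B i)
      (fun v => Of v i) (fun v hv => (hOf v hv).1 i) (fun w => Oi w i) (fun w => hOi w i) ∅
    exact ⟨z, h⟩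
  choose z hzP hzi hzW using hcore
  let x : ∀ i, K i := fun i => (b i)⁻¹ * Algebra.norm (K i) (z i)
  let p := p₀ + ∑ i, φ i (x i)
  let q := q₀ + ∑ i, ψ i (x i)
  have hpq : ∀ (R : Type u) [CommRing R] [Algebra k R],
      pR R (fun i m => algebraMap k R ((B i).repr (z i) m)) = algebraMap k R p ∧
        qR R (fun i m => algebraMap k R ((B i).repr (z i) m)) = algebraMap k R q := fun R _ _ =>
    ⟨affForm_algebraMap B β _ φ p₀ R z, affForm_algebraMap B β _ ψ q₀ R z⟩
  have hq0 : q ≠ 0 := by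
    obtain ⟨w⟩ := (inferInstance : Nonempty (InfinitePlace k))
    intro h
    refine (hOi' w _ fun i => hzi i w).1 ?_
    rw [(hpq _).2, h, map_zero]
  refine ⟨p / q, fun v hv => ?_, fun w hw => ?_, fun i W hlt => ?_⟩
  · have h := ((hOf v (Finset.mem_union_left _ hv)).2.1 hv _ fun i => hzP i v (Finset.mem_union_left _ hv)).2
    rwa [(hpq _).1, (hpq _).2, ← map_div₀] at h
  · have h := (hOi' w _ fun i => hzi i w).2 hw
    rwa [(hpq _).1, (hpq _).2, ← map_div₀] at h
  -- the places of positive valuation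
  have hlies := liesOver_under (k := k) W
  set v := W.under (𝓞 k) with hv
  by_cases hvS : v ∈ Sf
  · exact Or.inl ⟨v, hvS, hlies⟩
  right
  by_cases hv0 : v = v₀
  · exact hsplit (K i) (L i) (hι i).some W (hv0 ▸ hlies)
  have hE : v ∈ E → ∀ j (W' : HeightOneSpectrum (𝓞 (K j))), W'.asIdeal.LiesOver v.asIdeal →
      W'.valuation (K j) (Algebra.norm (K j) (z j)) = 1 := by
    intro hvE j W' hW'
    refine valuation_eq_one_of_sub_lt W' (not_not.1 fun h => hover W' hvS hW' (hSb j W' h)) ?_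
    rw [← (E₀ j).sum_repr (Algebra.norm (K j) (z j) - b j)]
    refine (W'.valuation (K j)).map_sum_lt one_ne_zero fun l _ => ?_
    have h := (hOf v (Finset.mem_union_right _ hvE)).2.2 hvE j (some l) _ (hzP j v (Finset.mem_union_right _ hvE))
    rw [towerForm_algebraMap, extFun_tmul, one_mul, ← map_sub, valued_algebraMap, ← map_sub] at h
    have e : (E₀ j).repr (Algebra.norm (K j) (z j) - b j) l • E₀ j l =
        algebraMap k (K j) (Φ j (some l) (Algebra.norm (K j) (z j) - b j)) * (algebraMap k (K j) (D j : k) * E₀ j l) := by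
      rw [← mul_assoc, ← map_mul, ← Algebra.smul_def]
      congr 1
      simp [Φ, mul_comm, hDk j]
    rw [e, map_mul]
    refine lt_of_le_of_lt (mul_le_of_le_one_right' ?_) (valuation_map_lt (v := v) W' h)
    have hint : IsIntegral ℤ (algebraMap k (K j) (D j : k) * E₀ j l) := by
      refine isIntegral_trans (R := ℤ) (A := 𝓞 k) _ ?_
      have h2 := hDE j _ (Finset.mem_image_of_mem (E₀ j) (Finset.mem_univ l))
      rwa [Algebra.smul_def, IsScalarTower.algebraMap_apply (𝓞 k) k (K j)] at h2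
    exact W'.valuation_le_one (⟨_, hint⟩ : 𝓞 (K j))
  have hT : ∀ j (W' : HeightOneSpectrum (𝓞 (K j))), W'.asIdeal.LiesOver v.asIdeal →
      W'.valuation (K j) (Algebra.norm (K j) (z j)) ≤ 1 ∧
        (W'.valuation (K j) (Algebra.norm (K j) (z j)) = 1 ∨ Nonempty (L j →ₐ[K j] W'.adicCompletion (K j))) := by
    intro j W' hW'
    by_cases hvE : v ∈ E
    · exact ⟨(hE hvE j W' hW').le, Or.inl (hE hvE j W' hW')⟩
    · have hu := eq_under (v := v) W'
      have hP' : W'.under (𝓞 k) ∉ P := by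
        rw [← hu]; simp [P, hvS, hvE]
      exact ⟨(hzW j W' hP').1 (hu ▸ hv0), (hzW j W' hP').2⟩
  have hqv : v.valuation k q ≤ 1 := by
    show v.valuation k (q₀ + ∑ j, ψ j (x j)) ≤ 1
    by_cases hvE : v ∈ E
    · have e : ∑ j, ψ j (x j) = ∑ j, (ψ' j (Algebra.norm (K j) (z j) - b j)) := by
        rw [← sub_zero (∑ j, ψ j (x j)), ← hψ1, ← Finset.sum_sub_distrib]
        refine Finset.sum_congr rfl fun j _ => ?_
        rw [hψ', mul_sub, inv_mul_cancel₀ (hb j), map_sub]
      rw [e]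
      refine (v.valuation k).map_add_le (hq₀ v) ((v.valuation k).map_sum_le fun j _ => le_of_lt ?_)
      have h := (hOf v (Finset.mem_union_right _ hvE)).2.2 hvE j none _ (hzP j v (Finset.mem_union_right _ hvE))
      rw [towerForm_algebraMap, extFun_tmul, one_mul, ← map_sub, valued_algebraMap, ← map_sub] at h
      exact h
    · refine (v.valuation k).map_add_le (hq₀ v) ((v.valuation k).map_sum_le fun j _ => ?_)
      show v.valuation k (ψ' j (Algebra.norm (K j) (z j))) ≤ 1
      refine valuation_fun_le (ψ' j) (G j) (hG j) v (fun g hg => ?_) fun W' hW' => (hT j W' hW').1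
      by_contra hne
      exact hvE (Finset.mem_erase.2 ⟨hv0, Finset.mem_sdiff.2 ⟨hbadfin.mem_toFinset.2 ⟨j, g, hg, hne⟩, hvS⟩⟩)
  have hqk : algebraMap k (K i) q ≠ 0 := (_root_.map_ne_zero _).2 hq0
  have e : algebraMap k (K i) (p / q) - a i = x i / algebraMap k (K i) q := by
    rw [← hinv x i, map_div₀]
    show _ = (algebraMap k (K i) p - algebraMap k (K i) q * a i) / _
    field_simp
  rw [e, map_div₀, div_lt_iff₀ (zero_lt_iff.2 ((Valuation.ne_zero_iff _).2 hqk)), one_mul] at hlt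
  have hx1 : W.valuation (K i) (x i) = W.valuation (K i) (Algebra.norm (K i) (z i)) := by
    have hb1 : W.valuation (K i) (b i) = 1 := not_not.1 fun h => hover W hvS hlies (hSb i W h)
    rw [map_mul, map_inv₀, hb1, inv_one, one_mul]
  rcases (hT i W hlies).2 with h | h
  · exfalso
    rw [hx1, h] at hlt
    exact (valuation_map_le (v := v) W hqv le_rfl).not_gt hlt
  · exact h

end Groth.Agent.NF31
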