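import Groth.Agent.NF31.Compact

/-! Linear changes of the coordinate in the data of locally split values. -/

set_option autoImplicit false

universe u

open TensorProduct

namespace Groth.Agent.NF31

variable {k K : Type u} [Field k] [Field K] [Algebra k K]

theorem norm_data_moebius {R A : Type u} [Field R] [Algebra k R] [CommRing A] [Algebra (R ⊗[k] K) A]
    (a b : K) (t : R) (α β γ δ : k) (hgt : algebraMap k R γ * t + algebraMap k R δ ≠ 0)
    (hga : algebraMap k K γ * a + algebraMap k K δ ≠ 0) {x y : A} (hx : IsUnit x) (hy : IsUnit y)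
    (hNx : Algebra.norm (R ⊗[k] K) x = (1 : R) ⊗ₜ[k] b * (t ⊗ₜ[k] (1 : K) - (1 : R) ⊗ₜ[k] a))
    (hNy : Algebra.norm (R ⊗[k] K) y = (algebraMap k R (α * δ - β * γ) /
      (algebraMap k R γ * t + algebraMap k R δ)) ⊗ₜ[k] (1 : K)) :
    ∃ z : A, IsUnit z ∧ Algebra.norm (R ⊗[k] K) z =
      (1 : R) ⊗ₜ[k] (b * (algebraMap k K γ * a + algebraMap k K δ)) *
        (((algebraMap k R α * t + algebraMap k R β) / (algebraMap k R γ * t + algebraMap k R δ)) ⊗ₜ[k] (1 : K) -
          (1 : R) ⊗ₜ[k] ((algebraMap k K α * a + algebraMap k K β) / (algebraMap k K γ * a + algebraMap k K δ))) := by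
  refine ⟨x * y, hx.mul hy, ?_⟩
  rw [map_mul, hNx, hNy]
  let i : R →ₐ[k] R ⊗[k] K := Algebra.TensorProduct.includeLeft
  let j : K →ₐ[k] R ⊗[k] K := Algebra.TensorProduct.includeRight
  have hi : ∀ r : R, r ⊗ₜ[k] (1 : K) = i r := fun _ => rfl
  have hj : ∀ c : K, (1 : R) ⊗ₜ[k] c = j c := fun _ => rfl
  simp only [hi, hj]
  set G : R := algebraMap k R γ * t + algebraMap k R δ with hG
  set g : K := algebraMap k K γ * a + algebraMap k K δ with hg
  set d : R := algebraMap k R (α * δ - β * γ) / G with hd'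
  set t' : R := (algebraMap k R α * t + algebraMap k R β) / G with ht''
  set a' : K := (algebraMap k K α * a + algebraMap k K β) / g with ha''
  have hd : i d * i G = i (algebraMap k R (α * δ - β * γ)) := by rw [← map_mul, hd', div_mul_cancel₀ _ hgt]
  have ht : i t' * i G = i (algebraMap k R α * t + algebraMap k R β) := by
    rw [← map_mul, ht'', div_mul_cancel₀ _ hgt]
  have ha : j g * j a' = j (algebraMap k K α * a + algebraMap k K β) := by
    rw [← map_mul, ha'', mul_div_cancel₀ _ hga]
  have hu : IsUnit (i G) := (isUnit_iff_ne_zero.2 hgt).map i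
  rw [map_mul]
  refine hu.mul_left_injective ?_
  simp only
  simp only [hG, hg, map_add, map_sub, map_mul, AlgHom.commutes] at hd ht ha ⊢
  linear_combination
    (j b * (i t - j a)) * hd - (j b * (algebraMap k (R ⊗[k] K) γ * j a + algebraMap k (R ⊗[k] K) δ)) * ht +
      (j b * (algebraMap k (R ⊗[k] K) γ * i t + algebraMap k (R ⊗[k] K) δ)) * ha

theorem exists_open_preimage {R : Type u} [Field R] [Algebra k R] [TopologicalSpace R] [IsTopologicalRing R]
    [ContinuousInv₀ R] [T1Space R] (t : R) {α β γ δ : k} (hdet : α * δ - β * γ ≠ 0)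
    (hgt : algebraMap k R γ * t + algebraMap k R δ ≠ 0) {U : Set R} (hU : IsOpen U) (ht : t ∈ U) :
    ∃ U' : Set R, IsOpen U' ∧ (algebraMap k R α * t + algebraMap k R β) / (algebraMap k R γ * t + algebraMap k R δ) ∈ U' ∧
      ∀ t₀' : k, α ≠ γ * t₀' → algebraMap k R t₀' ∈ U' →
        algebraMap k R ((δ * t₀' - β) / (α - γ * t₀')) ∈ U := by
  let den := fun y : R => algebraMap k R α - algebraMap k R γ * y
  let num := fun y : R => algebraMap k R δ * y - algebraMap k R β
  have hD : IsOpen {y | den y ≠ 0} := isOpen_ne.preimage (by fun_prop)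
  refine ⟨{y | den y ≠ 0} ∩ (fun y => num y / den y) ⁻¹' U, ?_, ?_, fun t₀' _ h => ?_⟩
  · exact (ContinuousOn.div (by fun_prop) (by fun_prop) fun y hy => hy).isOpen_inter_preimage hD hU
  · have hd : algebraMap k R α * algebraMap k R δ - algebraMap k R β * algebraMap k R γ ≠ 0 := by
      rw [← map_mul, ← map_mul, ← map_sub]
      exact (_root_.map_ne_zero _).2 hdet
    set G := algebraMap k R γ * t + algebraMap k R δ with hG
    set T := (algebraMap k R α * t + algebraMap k R β) / G with hT'
    have hT : T * G = algebraMap k R α * t + algebraMap k R β := div_mul_cancel₀ _ hgt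
    have h1 : den T = (algebraMap k R α * algebraMap k R δ - algebraMap k R β * algebraMap k R γ) / G := by
      rw [eq_div_iff hgt]
      linear_combination (-algebraMap k R γ) * hT + algebraMap k R α * hG
    have h2 : num T = t * ((algebraMap k R α * algebraMap k R δ - algebraMap k R β * algebraMap k R γ) / G) := by
      rw [mul_div_assoc', eq_div_iff hgt]
      linear_combination algebraMap k R δ * hT - algebraMap k R β * hG
    refine ⟨?_, ?_⟩
    · rw [Set.mem_ofPred_eq, h1]; exact div_ne_zero hd hgt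
    · rw [Set.mem_preimage, h1, h2, mul_div_cancel_right₀ _ (div_ne_zero hd hgt)]; exact ht
  · rw [map_div₀, map_sub, map_sub, map_mul, map_mul]
    exact h.2

end Groth.Agent.NF31

namespace Groth.Agent.NF31

open NumberField IsDedekindDomain WithZero

/-- A nonarchimedean neighbourhood of zero. -/
theorem exists_small_nhd {k : Type u} [Field k] [NumberField k] {n : ℕ} {K : Fin n → Type u} [∀ i, Field (K i)]
    [∀ i, NumberField (K i)] [∀ i, Algebra k (K i)] (v : HeightOneSpectrum (𝓞 k)) (g : ∀ i, K i) (γ : k) :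
    ∃ M : ℕ, ∀ t : k, v.valuation k t < exp (-(M : ℤ)) → ∀ i, ∀ W : HeightOneSpectrum (𝓞 (K i)),
      W.asIdeal.LiesOver v.asIdeal →
        W.valuation (K i) (algebraMap k (K i) t * g i) < 1 ∧ W.valuation (K i) (algebraMap k (K i) (γ * t)) < 1 := by
  classical
  have hfin : ∀ i, {W : HeightOneSpectrum (𝓞 (K i)) | W.asIdeal.LiesOver v.asIdeal}.Finite := fun i =>
    (finite_setOf_under ({v} : Finset (HeightOneSpectrum (𝓞 k)))).subset fun W hW => by
      have : W.asIdeal.LiesOver v.asIdeal := hW
      exact Finset.mem_singleton.2 (eq_under (v := v) W).symm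
  let C : ∀ i, HeightOneSpectrum (𝓞 (K i)) → ℕ := fun i W =>
    (log (W.valuation (K i) (g i))).toNat + (log (W.valuation (K i) (algebraMap k (K i) γ))).toNat
  let f : (i : Fin n) → ℕ := fun i => ∑ W ∈ (hfin i).toFinset, C i W
  refine ⟨∑ i, f i, fun t ht i W hW => ?_⟩
  have hle : C i W ≤ ∑ i, f i :=
    le_trans (Finset.single_le_sum_of_canonicallyOrdered (f := C i) ((hfin i).mem_toFinset.2 hW))
      (Finset.single_le_sum_of_canonicallyOrdered (f := f) (Finset.mem_univ i))
  have hWt : W.valuation (K i) (algebraMap k (K i) t) < exp (-((∑ i, f i : ℕ) : ℤ)) := by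
    rw [← HeightOneSpectrum.valuation_liesOver (K := k) (L := K i) v W t]
    have := hW
    refine lt_of_le_of_lt (pow_le_of_le_one zero_le (ht.le.trans ?_) (Ideal.IsDedekindDomain.ramificationIdx'_ne_zero_of_liesOver _ v.ne_bot)) ht
    rw [← exp_zero, exp_le_exp]; omega
  generalize hM : ∑ i, f i = M at hle hWt
  have key : ∀ y : K i, (log (W.valuation (K i) y)).toNat ≤ M → W.valuation (K i) (algebraMap k (K i) t) * W.valuation (K i) y < 1 := by
    intro y hy
    rcases eq_or_ne (W.valuation (K i) y) 0 with h0 | h0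
    · rw [h0, mul_zero]; exact zero_lt_one
    calc _ ≤ W.valuation (K i) (algebraMap k (K i) t) * exp (M : ℤ) := by
          refine mul_le_mul_right ?_ _
          rw [← exp_log h0, exp_le_exp]; omega
      _ < exp (-(M : ℤ)) * exp (M : ℤ) := mul_lt_mul_of_pos_right hWt exp_pos
      _ = 1 := by rw [← exp_add, neg_add_cancel, exp_zero]
  simp only [C] at hle
  refine ⟨?_, ?_⟩
  · rw [map_mul]; exact key _ (by omega)
  · rw [map_mul, mul_comm, map_mul]; exact key _ (by omega)

theorem exists_notMem_over {k : Type u} [Field k] [NumberField k] (K : Type u) [Field K] [NumberField K] [Algebra k K]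
    (v : HeightOneSpectrum (𝓞 k)) : ∃ W : HeightOneSpectrum (𝓞 K), W.asIdeal.LiesOver v.asIdeal := by
  obtain ⟨P, hP, hPv⟩ := Ideal.exists_maximal_ideal_liesOver_of_isIntegral (S := 𝓞 K) v.asIdeal
  exact ⟨⟨P, hP.isPrime, Ideal.ne_bot_of_liesOver_of_ne_bot v.ne_bot P⟩, hPv⟩

end Groth.Agent.NF31
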