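import Groth.Agent.NF31.StrongApprox
import Groth.Agent.NF31.Local
import Mathlib.NumberTheory.RamificationInertia.Valuation
import Mathlib.FieldTheory.Normal.Closure
import Mathlib.Topology.Algebra.Polynomial

/-! Infinitely many completely split primes, elementarily (after Schur). -/

set_option autoImplicit false

universe u

open NumberField IsDedekindDomain Polynomial

namespace Groth.Agent.NF31

variable {k : Type u} [Field k] [NumberField k]

omit [NumberField k] in
theorem exists_notMem (bad : Finset (HeightOneSpectrum (𝓞 k))) : ∃ D : 𝓞 k, D ≠ 0 ∧ ∀ v ∈ bad, D ∈ v.asIdeal := by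
  classical
  obtain ⟨D, hD, hD0⟩ := Submodule.exists_mem_ne_zero_of_ne_bot
    (Finset.prod_ne_zero_iff.2 fun v _ => v.ne_bot : ∏ v ∈ bad, v.asIdeal ≠ ⊥)
  exact ⟨D, hD0, fun v hv => Ideal.le_of_dvd (Finset.dvd_prod_of_mem _ hv) hD⟩

theorem exists_root_mod_of_ne_zero (g : (𝓞 k)[X]) (hg : 0 < g.natDegree) (h0 : g.eval 0 ≠ 0)
    (bad : Finset (HeightOneSpectrum (𝓞 k))) :
    ∃ v, v ∉ bad ∧ ∃ r : 𝓞 k, g.eval r ∈ v.asIdeal := by
  classical
  obtain ⟨D, hD0, hD⟩ := exists_notMem bad
  let g₀ := g.eval 0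
  let h : (𝓞 k)[X] := C D * X * (g.divX.comp (C (g₀ * D) * X)) + 1
  have hdivX : g.divX ≠ 0 := fun hz => by
    have := congrArg natDegree (divX_mul_X_add g)
    rw [hz, zero_mul, zero_add, natDegree_C] at this
    omega
  have hlin : (C (g₀ * D) * X : (𝓞 k)[X]).natDegree = 1 := natDegree_C_mul_X _ (mul_ne_zero h0 hD0)
  have hne : g.divX.comp (C (g₀ * D) * X) ≠ 0 := by
    intro hz
    rcases Polynomial.comp_eq_zero_iff.1 hz with h | ⟨-, h⟩
    · exact hdivX h
    · rw [h] at hlin; simp at hlin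
  have hh : 0 < h.natDegree := by
    have e : (C D * X * g.divX.comp (C (g₀ * D) * X)).natDegree =
        1 + (g.divX.comp (C (g₀ * D) * X)).natDegree := by
      rw [natDegree_mul (mul_ne_zero (by simpa using hD0) X_ne_zero) hne, natDegree_C_mul_X _ hD0]
    show 0 < (_ + 1 : (𝓞 k)[X]).natDegree
    rw [show (1 : (𝓞 k)[X]) = C 1 from C_1.symm, natDegree_add_C, e]
    omega
  have hlarge : ∀ᶠ n : ℕ in Filter.atTop, ∀ w : InfinitePlace k, 1 < w ((h.eval (n : 𝓞 k) : 𝓞 k) : k) := by
    rw [Filter.eventually_all]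
    intro w
    let p := h.map (w.embedding.comp (algebraMap (𝓞 k) k))
    have hp : 0 < p.degree := natDegree_pos_iff_degree_pos.1 (by
      rw [natDegree_map_eq_of_injective (f := w.embedding.comp (algebraMap (𝓞 k) k))
        (fun a b he => RingOfIntegers.coe_injective (w.embedding.injective he))]; exact hh)
    have ht : Filter.Tendsto (fun n : ℕ => ‖p.eval (n : ℂ)‖) Filter.atTop Filter.atTop :=
      p.tendsto_norm_atTop hp (by simpa using tendsto_natCast_atTop_atTop (R := ℝ))
    filter_upwards [ht.eventually_gt_atTop 1] with n hn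
    rw [← InfinitePlace.norm_embedding_eq]
    refine hn.trans_eq (congrArg _ ?_)
    show _ = (w.embedding.comp (algebraMap (𝓞 k) k)) _
    rw [← eval₂_at_apply, map_natCast, eval_map]
  obtain ⟨n, hn⟩ := hlarge.exists
  have hne0 : h.eval (n : 𝓞 k) ≠ 0 := fun hz => by
    obtain ⟨w⟩ := (inferInstance : Nonempty (InfinitePlace k))
    have := hn w
    rw [hz] at this
    simp at this
    linarith
  have hnu : ¬ IsUnit (h.eval (n : 𝓞 k)) := fun hu => by
    have h1 := InfinitePlace.prod_eq_abs_norm ((h.eval (n : 𝓞 k) : 𝓞 k) : k)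
    have h2 : |Algebra.norm ℚ ((h.eval (n : 𝓞 k) : 𝓞 k) : k)| = 1 := by
      have := (NumberField.isUnit_iff_norm (K := k)).1 hu
      rwa [RingOfIntegers.coe_norm] at this
    rw [h2] at h1
    obtain ⟨w₁⟩ := (inferInstance : Nonempty (InfinitePlace k))
    have : (1 : ℝ) < ∏ w : InfinitePlace k, w ((h.eval (n : 𝓞 k) : 𝓞 k) : k) ^ w.mult := by
      calc (1 : ℝ) = ∏ _w : InfinitePlace k, (1 : ℝ) := Finset.prod_const_one.symm
        _ < _ := Finset.prod_lt_prod_of_nonempty (fun _ _ => one_pos)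
          (fun w _ => one_lt_pow₀ (hn w) InfinitePlace.mult_ne_zero) Finset.univ_nonempty
    rw [h1] at this
    norm_num at this
  obtain ⟨P, hP, hPle⟩ := Ideal.exists_le_maximal (Ideal.span {h.eval (n : 𝓞 k)})
    (mt Ideal.span_singleton_eq_top.1 hnu)
  let v : HeightOneSpectrum (𝓞 k) := ⟨P, hP.isPrime, fun hb => hne0 (by
    simpa [hb] using hPle (Ideal.mem_span_singleton_self (h.eval (n : 𝓞 k))))⟩
  have hmem : h.eval (n : 𝓞 k) ∈ v.asIdeal := hPle (Ideal.mem_span_singleton_self _)
  refine ⟨v, fun hv => ?_, g₀ * D * n, ?_⟩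
  · refine v.isPrime.ne_top ((Ideal.eq_top_iff_one _).2 ?_)
    have e : h.eval (n : 𝓞 k) = D * ((n : 𝓞 k) * g.divX.eval (g₀ * D * n)) + 1 := by
      simp [h, eval_comp, mul_assoc]
    rw [e] at hmem
    exact (add_mem_cancel_left (v.asIdeal.mul_mem_right _ (hD v hv))).1 hmem
  · have e : g.eval (g₀ * D * n) = g₀ * h.eval (n : 𝓞 k) := by
      conv_lhs => rw [← divX_mul_X_add g]
      simp [h, eval_comp, g₀, coeff_zero_eq_eval_zero]
      ring
    rw [e]
    exact v.asIdeal.mul_mem_left _ hmem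

/-- Primes modulo which a given polynomial has a root avoid any finite set. -/
theorem exists_root_mod (g : (𝓞 k)[X]) (hg : 0 < g.natDegree) (bad : Finset (HeightOneSpectrum (𝓞 k))) :
    ∃ v, v ∉ bad ∧ ∃ r : 𝓞 k, g.eval r ∈ v.asIdeal := by
  by_cases h0 : g.eval 0 = 0
  · obtain ⟨v, hv, -⟩ := exists_root_mod_of_ne_zero (X + 1 : (𝓞 k)[X])
      (by rw [show (1 : (𝓞 k)[X]) = C 1 from C_1.symm, natDegree_X_add_C]; exact one_pos) (by simp) bad
    exact ⟨v, hv, 0, by rw [h0]; exact zero_mem _⟩
  · exact exists_root_mod_of_ne_zero g hg h0 bad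

theorem finite_setOf_valuation_gt (x : k) : {v : HeightOneSpectrum (𝓞 k) | ¬ v.valuation k x ≤ 1}.Finite :=
  (HeightOneSpectrum.Support.finite (𝓞 k) x).subset fun v (hv : ¬ v.valuation k x ≤ 1) =>
    (show 1 < v.valuation k x from not_le.1 hv)

theorem finite_setOf_coeff (p : k[X]) : {v : HeightOneSpectrum (𝓞 k) | ∃ i, ¬ v.valuation k (p.coeff i) ≤ 1}.Finite := by
  refine (p.support.finite_toSet.biUnion fun i _ => finite_setOf_valuation_gt (p.coeff i)).subset fun v ⟨i, hi⟩ => ?_
  refine Set.mem_biUnion (mem_support_iff.2 fun h => hi ?_) hi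
  rw [h, map_zero]
  exact zero_le

variable {K : Type u} [Field K] [NumberField K] [Algebra k K]

theorem valuation_map_le {v : HeightOneSpectrum (𝓞 k)} (W : HeightOneSpectrum (𝓞 K)) [W.asIdeal.LiesOver v.asIdeal]
    {x : k} {c : WithZero (Multiplicative ℤ)} (hx : v.valuation k x ≤ c) (hc : c ≤ 1) :
    W.valuation K (algebraMap k K x) ≤ c := by
  rw [← HeightOneSpectrum.valuation_liesOver (K := k) (L := K) v W x]
  exact (pow_le_of_le_one zero_le (hx.trans hc)
    (Ideal.IsDedekindDomain.ramificationIdx'_ne_zero_of_liesOver W.asIdeal v.ne_bot)).trans hx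

theorem valuation_map_lt {v : HeightOneSpectrum (𝓞 k)} (W : HeightOneSpectrum (𝓞 K)) [W.asIdeal.LiesOver v.asIdeal]
    {x : k} (hx : v.valuation k x < 1) :
    W.valuation K (algebraMap k K x) < 1 := by
  rw [← HeightOneSpectrum.valuation_liesOver (K := k) (L := K) v W x]
  exact pow_lt_one₀ zero_le hx (Ideal.IsDedekindDomain.ramificationIdx'_ne_zero_of_liesOver W.asIdeal v.ne_bot)

/-- Infinitely many places of `k` splitting completely in a finite normal extension. -/
theorem exists_split_normal (k : Type u) [Field k] [NumberField k] (N : Type u) [Field N] [Algebra k N]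
    [FiniteDimensional k N] [Normal k N] (bad : Finset (HeightOneSpectrum (𝓞 k))) :
    ∃ v, v ∉ bad ∧ ∀ (K L : Type u) [Field K] [NumberField K] [Field L] [NumberField L] [Algebra k K] [Algebra k L]
      [Algebra K L] [IsScalarTower k K L] (_ι : L →ₐ[k] N) (W : HeightOneSpectrum (𝓞 K)),
      W.asIdeal.LiesOver v.asIdeal → Nonempty (L →ₐ[K] W.adicCompletion K) := by
  classical
  obtain ⟨θ, hθ⟩ := Field.exists_primitive_element k N
  obtain ⟨d, hd0, hd⟩ := IsAlgebraic.exists_integral_multiple (show IsAlgebraic (𝓞 k) θ from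
    (IsFractionRing.isAlgebraic_iff (𝓞 k) k N).2 (Algebra.IsAlgebraic.isAlgebraic θ))
  let θ' : N := d • θ
  have hθ' : IntermediateField.adjoin k {θ'} = ⊤ := by
    refine top_le_iff.1 (hθ ▸ ?_)
    rw [IntermediateField.adjoin_simple_le_iff]
    have h1 := IntermediateField.mem_adjoin_simple_self k θ'
    have h2 : θ = (algebraMap k N (algebraMap (𝓞 k) k d))⁻¹ * θ' := by
      rw [show θ' = algebraMap k N (algebraMap (𝓞 k) k d) * θ by
        rw [← IsScalarTower.algebraMap_apply]; exact Algebra.smul_def d θ, inv_mul_cancel_left₀]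
      rw [_root_.map_ne_zero]
      exact fun h => hd0 (RingOfIntegers.coe_eq_zero_iff.1 h)
    rw [h2]
    exact mul_mem (inv_mem ((IntermediateField.adjoin k {θ'}).algebraMap_mem _)) h1
  let g : (𝓞 k)[X] := minpoly (𝓞 k) θ'
  have hgk : g.map (algebraMap (𝓞 k) k) = minpoly k θ' :=
    (minpoly.isIntegrallyClosed_eq_field_fractions' k hd).symm
  have hint : IsIntegral k θ' := Algebra.IsIntegral.isIntegral _
  obtain ⟨u, s, hus⟩ := (Algebra.IsSeparable.isSeparable k θ' : IsSeparable k θ')
  obtain ⟨v, hv, r, hr⟩ := exists_root_mod g (minpoly.natDegree_pos hd)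
    (bad ∪ (finite_setOf_coeff u).toFinset ∪ (finite_setOf_coeff s).toFinset)
  simp only [Finset.mem_union, not_or, Set.Finite.mem_toFinset] at hv
  obtain ⟨⟨hvbad, hvu⟩, hvs⟩ := hv
  refine ⟨v, hvbad, ?_⟩
  intro K L _ _ _ _ _ _ _ _ ι W hW
  simp only [Set.mem_ofPred_eq, not_exists, not_not] at hvu hvs
  have hmap : ∀ x : k, v.valuation k x ≤ 1 → W.valuation K (algebraMap k K x) ≤ 1 := fun x hx =>
    valuation_map_le W hx le_rfl
  obtain ⟨b, hb⟩ := exists_root_of_bezout W ((minpoly k θ').map (algebraMap k K)) (u.map (algebraMap k K))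
    (s.map (algebraMap k K))
    (fun i => by rw [coeff_map, ← hgk, coeff_map]; exact hmap _ (v.valuation_le_one _))
    (by rw [derivative_map, ← Polynomial.map_mul, ← Polynomial.map_mul, ← Polynomial.map_add, hus, Polynomial.map_one])
    (fun i => by rw [coeff_map]; exact hmap _ (hvu i)) (fun i => by rw [coeff_map]; exact hmap _ (hvs i))
    (hmap (r : k) (v.valuation_le_one r))
    (by
      rw [eval_map, eval₂_at_apply, ← hgk, eval_map, eval₂_at_apply]
      exact valuation_map_lt W ((HeightOneSpectrum.valuation_lt_one_iff_mem v _).2 hr))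
  rw [aeval_map_algebraMap] at hb
  let ρ : N →ₐ[k] W.adicCompletion K :=
    ((IntermediateField.adjoin.powerBasis hint).lift b
      (by rwa [IntermediateField.adjoin.powerBasis_gen, IntermediateField.minpoly_gen])).comp
      ((IntermediateField.equivOfEq hθ').trans IntermediateField.topEquiv).symm.toAlgHom
  let c : K →ₐ[k] W.adicCompletion K := IsScalarTower.toAlgHom k K (W.adicCompletion K)
  have hmem : ∀ x : K, c x ∈ ρ.range := fun x => by
    let y : N := ι (algebraMap K L x)
    have hy : minpoly k y = minpoly k x :=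
      (minpoly.algHom_eq ι ι.injective _).trans (minpoly.algHom_eq (IsScalarTower.toAlgHom k K L)
        (algebraMap K L).injective x)
    have hs : ((minpoly k x).map (algebraMap k N)).Splits := hy ▸ Normal.splits inferInstance y
    have hx : c x ∈ (minpoly k x).rootSet (W.adicCompletion K) := by
      rw [mem_rootSet]
      exact ⟨minpoly.ne_zero (IsIntegral.of_finite k x), by rw [aeval_algHom_apply, minpoly.aeval, map_zero]⟩
    rw [← hs.image_rootSet ρ] at hx
    obtain ⟨z, -, hz⟩ := hx
    exact ⟨z, hz⟩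
  let c' : K →ₐ[k] N := ((AlgEquiv.ofInjectiveField ρ).symm : ρ.range →ₐ[k] N).comp (c.codRestrict ρ.range hmem)
  have hc' : ∀ x, ρ (c' x) = c x := fun x =>
    congrArg Subtype.val ((AlgEquiv.ofInjectiveField ρ).apply_symm_apply ⟨c x, hmem x⟩)
  let _ : Algebra K N := (ι.comp (IsScalarTower.toAlgHom k K L)).toRingHom.toAlgebra
  have : IsScalarTower k K N := IsScalarTower.of_algebraMap_eq fun x =>
    ((ι.comp (IsScalarTower.toAlgHom k K L)).commutes x).symm
  let τ : N →ₐ[k] N := (c'.liftNormal N)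
  exact ⟨{ (ρ.comp (τ.comp ι)).toRingHom with
    commutes' := fun x => by
      show ρ (τ (algebraMap K N x)) = c x
      rw [← hc' x]
      exact congrArg ρ (AlgHom.liftNormal_commutes c' N x) }⟩

/-- Infinitely many places `v` of `k` at all of whose extensions to `K` the field `L` has a place of degree one. -/
theorem exists_split (k : Type u) [Field k] [NumberField k] (K L : Type u) [Field K] [NumberField K]
    [Field L] [NumberField L] [Algebra k K] [Algebra k L] [Algebra K L] [IsScalarTower k K L]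
    (bad : Finset (HeightOneSpectrum (𝓞 k))) :
    ∃ v, v ∉ bad ∧ ∀ W : HeightOneSpectrum (𝓞 K), W.asIdeal.LiesOver v.asIdeal →
      Nonempty (L →ₐ[K] W.adicCompletion K) := by
  have : FiniteDimensional k L := FiniteDimensional.right ℚ k L
  let N := IntermediateField.normalClosure k L (AlgebraicClosure L)
  let ι : L →ₐ[k] N := (IsScalarTower.toAlgHom k L (AlgebraicClosure L)).codRestrict N.toSubalgebra fun x =>
    AlgHom.fieldRange_le_normalClosure (IsScalarTower.toAlgHom k L (AlgebraicClosure L)) ⟨x, rfl⟩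
  obtain ⟨v, hv, h⟩ := exists_split_normal k N bad
  exact ⟨v, hv, fun W hW => h K L ι W hW⟩

end Groth.Agent.NF31
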