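import Mathlib.RingTheory.DedekindDomain.FiniteAdeleRing
import Mathlib.NumberTheory.NumberField.InfiniteAdeleRing
import Mathlib.NumberTheory.NumberField.ClassNumber
import Mathlib.NumberTheory.NumberField.InfinitePlace.Basic

/-! Strong approximation off a finite place of a number field. -/

set_option autoImplicit false

universe u

open NumberField IsDedekindDomain WithZero

namespace Groth.Agent.NF31

variable {k : Type u} [Field k] [NumberField k]

/-- Every ball in a completion contains a valuation ball with threshold a power of the prime. -/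
theorem exists_valuation_ball (v : HeightOneSpectrum (𝓞 k)) {U : Set (v.adicCompletion k)} (hU : IsOpen U)
    {t : v.adicCompletion k} (ht : t ∈ U) :
    ∃ N : ℕ, ∀ y : v.adicCompletion k, Valued.v (y - t) ≤ exp (-(N : ℤ)) → y ∈ U := by
  obtain ⟨γ, hγ⟩ := Valued.mem_nhds.1 (hU.mem_nhds ht)
  have hne : MonoidWithZeroHom.ValueGroup₀.embedding γ.1 ≠ 0 := fun h =>
    γ.ne_zero (MonoidWithZeroHom.ValueGroup₀.embedding_strictMono.injective (h.trans (map_zero _).symm))
  obtain ⟨z, hz⟩ := WithZero.ne_zero_iff_exists.1 hne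
  refine ⟨(1 - Multiplicative.toAdd z).toNat, fun y hy => hγ ?_⟩
  rw [Set.mem_ofPred_eq, Valuation.restrict_lt_iff_lt_embedding, ← hz]
  refine hy.trans_lt ?_
  show exp _ < exp (Multiplicative.toAdd z)
  rw [exp_lt_exp]
  omega

/-- A prime power is principal. -/
theorem exists_generator_pow (v : HeightOneSpectrum (𝓞 k)) :
    ∃ π : 𝓞 k, π ≠ 0 ∧ π ∈ v.asIdeal ∧ ∀ w : HeightOneSpectrum (𝓞 k), w ≠ v → π ∉ w.asIdeal := by
  classical
  let h := classNumber k
  have hv : v.asIdeal ∈ nonZeroDivisors (Ideal (𝓞 k)) := mem_nonZeroDivisors_iff_ne_zero.2 v.ne_bot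
  have h1 : (v.asIdeal ^ h).IsPrincipal :=
    (ClassGroup.mk0_eq_one_iff (pow_mem hv h)).1 (by
      rw [show (⟨v.asIdeal ^ h, pow_mem hv h⟩ : nonZeroDivisors (Ideal (𝓞 k))) = ⟨v.asIdeal, hv⟩ ^ h from rfl, map_pow]
      exact pow_card_eq_one)
  have hh : h ≠ 0 := Fintype.card_ne_zero
  obtain ⟨π, hπ⟩ := h1.principal
  rw [Ideal.submodule_span_eq] at hπ
  refine ⟨π, fun h0 => ?_, ?_, fun w hw hmem => hw ?_⟩
  · rw [h0, Ideal.span_singleton_eq_bot.2 rfl] at hπ
    exact pow_ne_zero h v.ne_bot hπ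
  · exact Ideal.pow_le_self hh (hπ ▸ Ideal.mem_span_singleton_self π)
  · have : v.asIdeal ^ h ≤ w.asIdeal := hπ ▸ (Ideal.span_singleton_le_iff_mem _).2 hmem
    exact HeightOneSpectrum.ext (v.isMaximal.eq_of_le w.isPrime.ne_top (w.isPrime.le_of_pow_le this)).symm

theorem sub_combination (x : k) (m : Module.Free.ChooseBasisIndex ℤ (𝓞 k) → ℤ) :
    x - ((∑ i, m i • RingOfIntegers.basis k i : 𝓞 k) : k) =
      ∑ i, (((integralBasis k).repr x i - m i : ℚ) : k) * integralBasis k i := by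
  have hx : ∑ i, ((integralBasis k).repr x i : k) * integralBasis k i = x :=
    (Finset.sum_congr rfl fun i _ => (Rat.smul_def _ _).symm).trans ((integralBasis k).sum_repr x)
  simp only [Rat.cast_sub, Rat.cast_intCast, sub_mul, Finset.sum_sub_distrib, hx]
  congr 1
  simp [integralBasis_apply]

/-- Every element of `k` is at bounded archimedean distance from an integer. -/
theorem exists_integer_bdd : ∃ C : ℝ, ∀ x : k, ∃ y : 𝓞 k, ∀ w : InfinitePlace k, w (x - y) ≤ C := by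
  let b := integralBasis k
  refine ⟨∑ w : InfinitePlace k, ∑ i, w (b i), fun x => ?_⟩
  refine ⟨∑ i, ⌊b.repr x i⌋ • RingOfIntegers.basis k i, fun w => ?_⟩
  have hx := sub_combination x fun i => ⌊b.repr x i⌋
  rw [hx]
  refine (w.1.sum_le _ _).trans (le_trans ?_ (Finset.single_le_sum (f := fun w : InfinitePlace k => ∑ i, w (b i))
    (fun w _ => Finset.sum_nonneg fun i _ => apply_nonneg w _) (Finset.mem_univ w)))
  refine Finset.sum_le_sum fun i _ => ?_
  show w (_ * b i) ≤ w (b i)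
  rw [map_mul]
  refine mul_le_of_le_one_left (apply_nonneg w _) ?_
  rw [← InfinitePlace.norm_embedding_eq, map_ratCast, Complex.norm_ratCast]
  exact_mod_cast (abs_of_nonneg (Int.fract_nonneg (b.repr x i))).trans_le (Int.fract_lt_one _).le

/-- Small elements that are integral off `v₀`. -/
theorem exists_small (v₀ : HeightOneSpectrum (𝓞 k)) {ε : ℝ} (hε : 0 < ε) :
    ∃ η : k, η ≠ 0 ∧ (∀ w : InfinitePlace k, w η < ε) ∧
      ∀ v : HeightOneSpectrum (𝓞 k), v ≠ v₀ → v.valuation k η ≤ 1 := by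
  classical
  obtain ⟨π, hπ0, hπv, hπw⟩ := exists_generator_pow v₀
  let b := integralBasis k
  let C : ℝ := ∑ w : InfinitePlace k, ∑ i, w (b i)
  have hC : 0 ≤ C := Finset.sum_nonneg fun w _ => Finset.sum_nonneg fun i _ => apply_nonneg w _
  obtain ⟨M, hM⟩ := exists_nat_gt (C / ε)
  have hM0 : 0 < M := by
    have : (0 : ℝ) < M := (div_nonneg hC hε.le).trans_lt hM
    exact_mod_cast this
  let fr : ℕ → (Module.Free.ChooseBasisIndex ℤ (𝓞 k) → ℚ) := fun j i =>
    Int.fract (b.repr (((π : k)⁻¹) ^ j) i)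
  let box : ℕ → (Module.Free.ChooseBasisIndex ℤ (𝓞 k) → Fin M) := fun j i =>
    ⟨⌊(M : ℚ) * fr j i⌋₊, (Nat.floor_lt (mul_nonneg (Nat.cast_nonneg M) (Int.fract_nonneg _))).2 (by
      calc (M : ℚ) * fr j i < M * 1 := by
            exact mul_lt_mul_of_pos_left (Int.fract_lt_one _) (by exact_mod_cast hM0)
        _ = M := mul_one _)⟩
  obtain ⟨i₁, j₁, hne, hbox⟩ := Finite.exists_ne_map_eq_of_infinite box
  wlog hij : i₁ < j₁ generalizing i₁ j₁
  · exact this j₁ i₁ hne.symm hbox.symm (lt_of_le_of_ne (not_lt.1 hij) hne.symm)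
  let z : 𝓞 k := ∑ i, (⌊b.repr (((π : k)⁻¹) ^ j₁) i⌋ - ⌊b.repr (((π : k)⁻¹) ^ i₁) i⌋) • RingOfIntegers.basis k i
  refine ⟨((π : k)⁻¹) ^ j₁ - ((π : k)⁻¹) ^ i₁ - (z : k), fun h => ?_, fun w => ?_, fun v hv => ?_⟩
  · have hπk : (π : k) ≠ 0 := fun h => hπ0 (RingOfIntegers.coe_eq_zero_iff.1 h)
    have e : (1 : 𝓞 k) = π * (π ^ (j₁ - i₁ - 1) + z * π ^ (j₁ - 1)) := by
      apply RingOfIntegers.coe_injective
      simp only [map_one, map_mul, map_add, map_pow]
      obtain ⟨d, rfl⟩ : ∃ d, j₁ = i₁ + d + 1 := ⟨j₁ - i₁ - 1, by omega⟩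
      rw [show i₁ + d + 1 - i₁ - 1 = d by omega, show i₁ + d + 1 - 1 = i₁ + d by omega]
      have e1 : (π : k) ^ (i₁ + d + 1) * (π : k)⁻¹ ^ (i₁ + d + 1) = 1 := by
        rw [← mul_pow, mul_inv_cancel₀ hπk, one_pow]
      have e2 : (π : k) ^ i₁ * (π : k)⁻¹ ^ i₁ = 1 := by rw [← mul_pow, mul_inv_cancel₀ hπk, one_pow]
      linear_combination (π : k) ^ (i₁ + d + 1) * h - e1 + (π : k) ^ (d + 1) * e2
    exact v₀.isPrime.ne_top ((Ideal.eq_top_iff_one _).2 (e ▸ v₀.asIdeal.mul_mem_right _ hπv))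
  · have hx : ((π : k)⁻¹) ^ j₁ - ((π : k)⁻¹) ^ i₁ - (z : k) = ∑ i, ((fr j₁ i - fr i₁ i : ℚ) : k) * b i := by
      rw [sub_combination]
      refine Finset.sum_congr rfl fun i _ => ?_
      congr 2
      rw [map_sub, Finsupp.sub_apply]
      simp only [fr, Int.fract, b]
      push_cast
      ring
    rw [hx]
    refine (w.1.sum_le _ _).trans_lt (lt_of_le_of_lt (Finset.sum_le_sum (g := fun i => 1 / (M : ℝ) * w (b i))
      fun i _ => ?_) ?_)
    · show w (_ * b i) ≤ _
      rw [map_mul]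
      refine mul_le_mul_of_nonneg_right ?_ (apply_nonneg w _)
      rw [← InfinitePlace.norm_embedding_eq, map_ratCast, Complex.norm_ratCast]
      have h1 : (⌊(M : ℚ) * fr i₁ i⌋₊ : ℕ) = ⌊(M : ℚ) * fr j₁ i⌋₊ := congrArg Fin.val (congrFun hbox i)
      have a1 := Nat.floor_le (mul_nonneg (Nat.cast_nonneg M) (Int.fract_nonneg (b.repr (((π : k)⁻¹) ^ i₁) i)))
      have a2 := Nat.lt_floor_add_one ((M : ℚ) * fr i₁ i)
      have a3 := Nat.floor_le (mul_nonneg (Nat.cast_nonneg M) (Int.fract_nonneg (b.repr (((π : k)⁻¹) ^ j₁) i)))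
      have a4 := Nat.lt_floor_add_one ((M : ℚ) * fr j₁ i)
      rw [← h1] at a4
      rw [← show (⌊(M : ℚ) * fr i₁ i⌋₊ : ℕ) = _ from h1] at a3
      have h2 : |(M : ℚ) * (fr j₁ i - fr i₁ i)| ≤ 1 := abs_le.2 ⟨by linarith, by linarith⟩
      rw [abs_mul, Nat.abs_cast] at h2
      rw [le_div_iff₀ (by exact_mod_cast hM0)]
      rw [mul_comm] at h2
      exact_mod_cast h2
    · rw [← Finset.mul_sum]
      have h1 : ∑ i, w (b i) ≤ C :=
        Finset.single_le_sum (f := fun w : InfinitePlace k => ∑ i, w (b i))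
          (fun w _ => Finset.sum_nonneg fun i _ => apply_nonneg w _) (Finset.mem_univ w)
      rw [one_div, inv_mul_lt_iff₀ (by exact_mod_cast hM0)]
      rw [div_lt_iff₀ hε] at hM
      linarith
  · have h1 : ∀ j : ℕ, v.valuation k (((π : k)⁻¹) ^ j) = 1 := fun j => by
      rw [map_pow, map_inv₀, (HeightOneSpectrum.valuation_eq_one_iff_notMem (K := k) (v := v)).2 (hπw v hv),
        inv_one, one_pow]
    exact (v.valuation k).map_sub_le ((v.valuation k).map_sub_le (h1 _).le (h1 _).le) (v.valuation_le_one z)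

/-- Archimedean approximation by elements integral off `v₀`. -/
theorem exists_near (v₀ : HeightOneSpectrum (𝓞 k)) (q : k) {ε : ℝ} (hε : 0 < ε) :
    ∃ y : k, (∀ w : InfinitePlace k, w (q - y) < ε) ∧
      ∀ v : HeightOneSpectrum (𝓞 k), v ≠ v₀ → v.valuation k y ≤ 1 := by
  obtain ⟨C, hC⟩ := exists_integer_bdd (k := k)
  obtain ⟨η, hη0, hη, hηv⟩ := exists_small v₀ (ε := ε / (|C| + 1)) (by positivity)
  obtain ⟨y, hy⟩ := hC (q / η)
  refine ⟨η * y, fun w => ?_, fun v hv => ?_⟩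
  · rw [show q - η * (y : k) = η * (q / η - y) by field_simp, map_mul]
    calc w η * w (q / η - y) ≤ w η * (|C| + 1) :=
          mul_le_mul_of_nonneg_left ((hy w).trans ((le_abs_self C).trans (by linarith))) (apply_nonneg w _)
      _ < ε / (|C| + 1) * (|C| + 1) := mul_lt_mul_of_pos_right (hη w) (by positivity)
      _ = ε := by field_simp
  · rw [map_mul]
    exact mul_le_one' (hηv v hv) (v.valuation_le_one y)

theorem finite_setOf_mem {D : 𝓞 k} (hD : D ≠ 0) : {v : HeightOneSpectrum (𝓞 k) | D ∈ v.asIdeal}.Finite := by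
  refine (HeightOneSpectrum.Support.finite (𝓞 k) ((D : k)⁻¹)).subset fun v hv => ?_
  show 1 < v.valuation k _
  rw [map_inv₀, one_lt_inv₀ ?_]
  · exact (HeightOneSpectrum.valuation_lt_one_iff_mem (K := k) v D).2 hv
  · exact zero_lt_iff.2 ((Valuation.ne_zero_iff _).2 fun h => hD (RingOfIntegers.coe_eq_zero_iff.1 h))

/-- Strong approximation off `v₀`, in terms of elements of `k`. -/
theorem exists_approx (v₀ : HeightOneSpectrum (𝓞 k)) (P : Finset (HeightOneSpectrum (𝓞 k))) (hv₀ : v₀ ∉ P)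
    (q : HeightOneSpectrum (𝓞 k) → k) (N : ℕ) (q' : k) {ε : ℝ} (hε : 0 < ε) :
    ∃ x : k, (∀ v ∈ P, v.valuation k (x - q v) ≤ exp (-(N : ℤ))) ∧ (∀ w : InfinitePlace k, w (x - q') < ε) ∧
      ∀ v : HeightOneSpectrum (𝓞 k), v ∉ P → v ≠ v₀ → v.valuation k x ≤ 1 := by
  classical
  obtain ⟨⟨D, hD⟩, hDq⟩ := IsLocalization.exist_integer_multiples_of_finset (nonZeroDivisors (𝓞 k)) (P.image q)
  have hD0 : D ≠ 0 := nonZeroDivisors.ne_zero hD
  have hDk : (D : k) ≠ 0 := fun h => hD0 (RingOfIntegers.coe_eq_zero_iff.1 h)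
  have hr : ∀ v ∈ P, ∃ r : 𝓞 k, (r : k) = D * q v := fun v hv => by
    obtain ⟨r, hr⟩ := hDq (q v) (Finset.mem_image_of_mem q hv)
    exact ⟨r, hr.trans (Algebra.smul_def D (q v))⟩
  let P' := (P ∪ (finite_setOf_mem hD0).toFinset).erase v₀
  have hn : ∀ v : HeightOneSpectrum (𝓞 k), ∃ n : ℕ, exp (-(n : ℤ)) ≤ v.valuation k D * exp (-(N : ℤ)) := fun v => by
    have h0 : v.valuation k D * exp (-(N : ℤ)) ≠ 0 := mul_ne_zero ((Valuation.ne_zero_iff _).2 hDk) exp_ne_zero
    obtain ⟨z, hz⟩ := WithZero.ne_zero_iff_exists.1 h0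
    refine ⟨(-Multiplicative.toAdd z).toNat, ?_⟩
    rw [← hz]
    show exp _ ≤ exp (Multiplicative.toAdd z)
    rw [exp_le_exp]
    omega
  choose n hn using hn
  choose r hr using hr
  let r' : HeightOneSpectrum (𝓞 k) → 𝓞 k := fun v => if hv : v ∈ P then r v hv else 0
  obtain ⟨c, hc⟩ := IsDedekindDomain.exists_forall_sub_mem_ideal (s := P') (fun v => v.asIdeal) n
    (fun v _ => v.prime) (fun v _ w _ h he => h (HeightOneSpectrum.ext he)) (fun v => r' v.1)
  obtain ⟨M, hM, hM0⟩ : ∃ M : 𝓞 k, M ∈ (∏ v ∈ P', v.asIdeal ^ n v) ∧ M ≠ 0 :=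
    Submodule.exists_mem_ne_zero_of_ne_bot (Finset.prod_ne_zero_iff.2 fun v _ => pow_ne_zero _ v.ne_bot)
  have hMk : (M : k) ≠ 0 := fun h => hM0 (RingOfIntegers.coe_eq_zero_iff.1 h)
  let τ : ℝ := ∑ w : InfinitePlace k, w (M / D : k)
  have hτ : 0 ≤ τ := Finset.sum_nonneg fun w _ => apply_nonneg w _
  obtain ⟨y, hy, hyv⟩ := exists_near v₀ ((D * q' - c) / M : k) (ε := ε / (τ + 1)) (by positivity)
  have hval : ∀ v, v ≠ v₀ → v.valuation k ((c : k) + M * y) ≤ 1 := fun v hv =>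
    (v.valuation k).map_add_le (v.valuation_le_one c) (by rw [map_mul]; exact mul_le_one' (v.valuation_le_one M) (hyv v hv))
  have hMn : ∀ v ∈ P', v.valuation k M ≤ exp (-(n v : ℤ)) := fun v hv => by
    rw [HeightOneSpectrum.valuation_of_algebraMap, HeightOneSpectrum.intValuation_le_pow_iff_mem]
    exact Ideal.le_of_dvd (Finset.dvd_prod_of_mem _ hv) hM
  have hcn : ∀ v (hv : v ∈ P'), v.valuation k ((c : k) + M * y - r' v) ≤ exp (-(n v : ℤ)) := fun v hv => by
    rw [show (c : k) + M * y - r' v = ((c - r' v : 𝓞 k) : k) + M * y by push_cast; ring]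
    refine (v.valuation k).map_add_le ?_ ?_
    · rw [HeightOneSpectrum.valuation_of_algebraMap, HeightOneSpectrum.intValuation_le_pow_iff_mem]
      exact hc v hv
    · rw [map_mul]
      exact (mul_le_mul' (hMn v hv) (hyv v (Finset.ne_of_mem_erase hv))).trans (mul_one _).le
  refine ⟨((c : k) + M * y) / D, fun v hv => ?_, fun w => ?_, fun v hv hv' => ?_⟩
  · have hv' : v ∈ P' := Finset.mem_erase.2 ⟨fun h => hv₀ (h ▸ hv), Finset.mem_union_left _ hv⟩
    have h1 : ((c : k) + M * y) / D - q v = ((c : k) + M * y - r' v) / D := by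
      rw [show r' v = r v hv from dif_pos hv, hr v hv]
      field_simp
    rw [h1, map_div₀, div_le_iff₀ (zero_lt_iff.2 ((Valuation.ne_zero_iff _).2 hDk))]
    have h2 := (hcn v hv').trans (hn v)
    exact h2.trans (mul_comm _ _).le
  · rw [show ((c : k) + M * y) / D - q' = -((M / D : k) * ((D * q' - c) / M - y)) by field_simp; ring,
      show ∀ a : k, w (-a) = w a from fun a => w.1.map_neg a, map_mul]
    calc w (M / D : k) * w ((D * q' - c) / M - y : k) ≤ τ * w ((D * q' - c) / M - y : k) :=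
          mul_le_mul_of_nonneg_right (Finset.single_le_sum (f := fun w : InfinitePlace k => w (M / D : k))
            (fun w _ => apply_nonneg w _) (Finset.mem_univ w)) (apply_nonneg w _)
      _ ≤ (τ + 1) * w ((D * q' - c) / M - y : k) :=
          mul_le_mul_of_nonneg_right (by linarith) (apply_nonneg w _)
      _ < (τ + 1) * (ε / (τ + 1)) := mul_lt_mul_of_pos_left (hy w) (by positivity)
      _ = ε := by field_simp
  · rw [map_div₀, div_le_iff₀ (zero_lt_iff.2 ((Valuation.ne_zero_iff _).2 hDk)), one_mul]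
    by_cases hD' : D ∈ v.asIdeal
    · have hvP' : v ∈ P' := Finset.mem_erase.2 ⟨hv', Finset.mem_union_right _ ((finite_setOf_mem hD0).mem_toFinset.2 hD')⟩
      have h := hcn v hvP'
      rw [show r' v = 0 from dif_neg hv] at h
      simp only [map_zero, sub_zero] at h
      refine h.trans ((hn v).trans (mul_le_of_le_one_right' ?_))
      rw [← exp_zero, exp_le_exp]; omega
    · rw [(HeightOneSpectrum.valuation_eq_one_iff_notMem (K := k) (v := v)).2 hD']
      exact hval v hv'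

theorem valued_algebraMap (v : HeightOneSpectrum (𝓞 k)) (x : k) :
    Valued.v (algebraMap k (v.adicCompletion k) x) = v.valuation k x :=
  v.valuedAdicCompletion_eq_valuation' x

/-- Strong approximation off `v₀`. -/
theorem exists_mem_open (v₀ : HeightOneSpectrum (𝓞 k)) (P : Finset (HeightOneSpectrum (𝓞 k))) (hv₀ : v₀ ∉ P)
    (Uf : (v : HeightOneSpectrum (𝓞 k)) → Set (v.adicCompletion k))
    (hUf : ∀ v ∈ P, IsOpen (Uf v) ∧ (Uf v).Nonempty)
    (Ui : (w : InfinitePlace k) → Set w.Completion) (hUi : ∀ w, IsOpen (Ui w) ∧ (Ui w).Nonempty) :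
    ∃ x : k, (∀ v ∈ P, algebraMap k (v.adicCompletion k) x ∈ Uf v) ∧
      (∀ w : InfinitePlace k, algebraMap k w.Completion x ∈ Ui w) ∧
      ∀ v : HeightOneSpectrum (𝓞 k), v ∉ P → v ≠ v₀ → v.valuation k x ≤ 1 := by
  classical
  have hf : ∀ v : HeightOneSpectrum (𝓞 k), ∃ (q : k) (N : ℕ), v ∈ P → ∀ x : k,
      v.valuation k (x - q) ≤ exp (-(N : ℤ)) → algebraMap k (v.adicCompletion k) x ∈ Uf v := fun v => by
    by_cases hv : v ∈ P
    swap
    · exact ⟨0, 0, fun h => absurd h hv⟩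
    obtain ⟨ho, hne⟩ := hUf v hv
    obtain ⟨q, hq⟩ := (HeightOneSpectrum.denseRange_algebraMap (K := k) v).exists_mem_open ho hne
    obtain ⟨N, hN⟩ := exists_valuation_ball v ho hq
    exact ⟨q, N, fun _ x hx => hN _ (by rwa [← map_sub, valued_algebraMap])⟩
  choose q N hqN using hf
  obtain ⟨q', hq'⟩ := (InfiniteAdeleRing.denseRange_algebraMap k).exists_mem_open
    (isOpen_set_pi Set.finite_univ fun w _ => (hUi w).1) (Set.univ_pi_nonempty_iff.2 fun w => (hUi w).2)
  have hi : ∀ w : InfinitePlace k, ∃ ε > 0, Metric.ball (algebraMap k w.Completion q') ε ⊆ Ui w := fun w =>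
    Metric.isOpen_iff.1 (hUi w).1 _ (hq' w trivial)
  choose ε hε hεU using hi
  obtain ⟨w₁⟩ := (inferInstance : Nonempty (InfinitePlace k))
  obtain ⟨x, hx1, hx2, hx3⟩ := exists_approx v₀ P hv₀ q (P.sup N) q'
    (ε := Finset.univ.inf' ⟨w₁, Finset.mem_univ w₁⟩ ε) ((Finset.lt_inf'_iff _).2 fun w _ => hε w)
  refine ⟨x, fun v hv => hqN v hv x ((hx1 v hv).trans (exp_le_exp.2 ?_)), fun w => hεU w ?_, hx3⟩
  · have := Finset.le_sup (f := N) hv
    omega
  · rw [Metric.mem_ball, dist_eq_norm, ← map_sub]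
    calc ‖algebraMap k w.Completion (x - q')‖ = w (x - q') := InfinitePlace.Completion.norm_coe w ((WithAbs.equiv w.1).symm (x - q'))
      _ < _ := (hx2 w).trans_le (Finset.inf'_le ε (Finset.mem_univ w))

end Groth.Agent.NF31
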